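import Groth.Agent.LocCohLib.BaseChange
import Groth.Agent.LocCohLib.FiniteTest
import Mathlib.RingTheory.Flat.FaithfullyFlat.Algebra

/-!
# The natural flat base change map of local cohomology
-/

set_option autoImplicit false
set_option linter.style.haveILetI false
set_option backward.isDefEq.respectTransparency false

universe u

open CategoryTheory CategoryTheory.Limits TensorProduct

noncomputable section

namespace Groth.Agent.HTLib

variable {A : Type u} [CommRing A] (C : Type u) [CommRing C] [Algebra A C]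

/-- Base change of modules. -/
@[simps]
def bcF : ModuleCat.{u} A ⥤ ModuleCat.{u} C where
  obj M := ModuleCat.of C (C ⊗[A] M)
  map f := ModuleCat.ofHom (f.hom.baseChange C)
  map_id M := by
    ext1
    simp
  map_comp f g := by
    ext1
    exact LinearMap.baseChange_comp f.hom g.hom

instance : (bcF (A := A) C).Additive where
  map_add {M N f g} := by
    ext1
    exact LinearMap.baseChange_add f.hom g.hom

theorem bcF_map_smul {M N : ModuleCat.{u} A} (a : A) (f : M ⟶ N) :
    (bcF C).map (a • f) = algebraMap A C a • (bcF C).map f := by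
  ext1
  show (a • f.hom).baseChange C = algebraMap A C a • f.hom.baseChange C
  rw [LinearMap.baseChange_smul, algebraMap_smul]

variable [Module.Flat A C]

theorem bcF_map_exact (T : ShortComplex (ModuleCat.{u} A)) (h : T.Exact) : (T.map (bcF C)).Exact := by
  rw [CategoryTheory.ShortComplex.ShortExact.moduleCat_exact_iff_function_exact] at h ⊢
  exact LocCohLib.baseChange_exact C h

instance : PreservesFiniteLimits (bcF (A := A) C) := by
  have := ((Functor.exact_tfae _).out 1 3).mp (bcF_map_exact (A := A) C)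
  exact this.1

instance : PreservesFiniteColimits (bcF (A := A) C) := by
  have := ((Functor.exact_tfae _).out 1 3).mp (bcF_map_exact (A := A) C)
  exact this.2

omit [Module.Flat A C] in
theorem mapExt_smul [PreservesFiniteLimits (bcF (A := A) C)] [PreservesFiniteColimits (bcF (A := A) C)]
    {M N : ModuleCat.{u} A} {i : ℕ} (a : A) (e : Abelian.Ext.{u} M N i) :
    (a • e).mapExactFunctor (bcF C) = algebraMap A C a • e.mapExactFunctor (bcF C) := by
  rw [Abelian.Ext.smul_eq_comp_mk₀, Abelian.Ext.mapExactFunctor_comp, Abelian.Ext.mapExactFunctor_mk₀, bcF_map_smul,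
    CategoryTheory.Functor.map_id, ← Abelian.Ext.smul_eq_comp_mk₀]

variable (I : Ideal A)

/-- The extended ideal. -/
abbrev mapI : Ideal C := I.map (algebraMap A C)

omit [Module.Flat A C] in
theorem le_ker_toSpanSingleton (n : ℕ) :
    mapI C I ^ n ≤ LinearMap.ker
      (LinearMap.toSpanSingleton C (C ⊗[A] (A ⧸ I ^ n)) (1 ⊗ₜ Submodule.Quotient.mk 1)) := by
  rw [← Ideal.map_pow, Ideal.map_le_iff_le_comap]
  intro a ha
  rw [Ideal.mem_comap, LinearMap.mem_ker, LinearMap.toSpanSingleton_apply, algebraMap_smul, ← TensorProduct.tmul_smul,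
    ← Submodule.Quotient.mk_smul, smul_eq_mul, mul_one, (Submodule.Quotient.mk_eq_zero _).2 ha, TensorProduct.tmul_zero]

/-- The comparison of `C/J^n` with the base change of `A/I^n`. -/
def cmpQ (n : ℕ) : LocCohLib.quot (mapI C I) n ⟶ (bcF C).obj (LocCohLib.quot I n) :=
  ModuleCat.ofHom ((mapI C I ^ n).liftQ _ (le_ker_toSpanSingleton C I n))

omit [Module.Flat A C] in
theorem cmpQ_one (n : ℕ) :
    (cmpQ C I n).hom (Submodule.Quotient.mk 1) = 1 ⊗ₜ Submodule.Quotient.mk 1 :=
  one_smul C ((1 : C) ⊗ₜ[A] (Submodule.Quotient.mk 1 : A ⧸ I ^ n))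

omit [Module.Flat A C] in
theorem cmpQ_qmap {n m : ℕ} (h : n ≤ m) :
    cmpQ C I m ≫ (bcF C).map (LocCohLib.qmap I h) = LocCohLib.qmap (mapI C I) h ≫ cmpQ C I n := by
  refine LocCohLib.hom_quot_ext ?_
  show ((LocCohLib.qmap I h).hom.baseChange C) ((cmpQ C I m).hom (Submodule.Quotient.mk 1)) =
    (cmpQ C I n).hom ((LocCohLib.qmap (mapI C I) h).hom (Submodule.Quotient.mk 1))
  rw [cmpQ_one, LinearMap.baseChange_tmul]
  exact (cmpQ_one C I n).symm

instance isIso_cmpQ (n : ℕ) : IsIso (cmpQ C I n) := by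
  let ψ : (A ⧸ I ^ n) →ₗ[A] (C ⧸ mapI C I ^ n) :=
    Submodule.liftQ _ (LinearMap.toSpanSingleton A _ (Submodule.Quotient.mk 1)) fun a ha => by
      rw [LinearMap.mem_ker, LinearMap.toSpanSingleton_apply, ← Submodule.Quotient.mk_smul, Submodule.Quotient.mk_eq_zero,
        Algebra.smul_def, mul_one, ← Ideal.map_pow]
      exact Ideal.mem_map_of_mem _ ha
  refine ⟨ModuleCat.ofHom (ψ.liftBaseChange C), LocCohLib.hom_quot_ext ?_, ModuleCat.hom_ext ?_⟩
  · show ψ.liftBaseChange C ((cmpQ C I n).hom (Submodule.Quotient.mk 1)) = Submodule.Quotient.mk 1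
    rw [cmpQ_one, LinearMap.liftBaseChange_tmul, one_smul]
    exact one_smul A (Submodule.Quotient.mk 1 : C ⧸ mapI C I ^ n)
  · suffices key : ∀ (c : C) (z : A), (cmpQ C I n).hom (ψ.liftBaseChange C (c ⊗ₜ[A] (Submodule.Quotient.mk z : A ⧸ I ^ n))) =
        (c ⊗ₜ[A] (Submodule.Quotient.mk z : A ⧸ I ^ n) : C ⊗[A] (A ⧸ I ^ n)) by
      refine LinearMap.ext fun (w : C ⊗[A] (A ⧸ I ^ n)) => ?_
      show (cmpQ C I n).hom (ψ.liftBaseChange C w) = w
      induction w using TensorProduct.induction_on with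
      | zero => rw [map_zero, map_zero]
      | tmul c z =>
        obtain ⟨z, rfl⟩ := Submodule.Quotient.mk_surjective _ z
        exact key c z
      | add x y hx hy => rw [map_add, map_add, hx, hy]
    intro c z
    have h : ψ (Submodule.Quotient.mk z) = algebraMap A C z • (Submodule.Quotient.mk 1 : C ⧸ mapI C I ^ n) :=
      (algebraMap_smul C z (Submodule.Quotient.mk 1 : C ⧸ mapI C I ^ n)).symm
    rw [LinearMap.liftBaseChange_tmul, map_smul, h, map_smul, cmpQ_one]
    show c • algebraMap A C z • ((1 : C) ⊗ₜ[A] (Submodule.Quotient.mk 1 : A ⧸ I ^ n)) = c ⊗ₜ Submodule.Quotient.mk z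
    rw [algebraMap_smul, ← TensorProduct.tmul_smul, ← Submodule.Quotient.mk_smul, smul_eq_mul,
      mul_one, TensorProduct.smul_tmul', smul_eq_mul, mul_one]

variable {I} {M : ModuleCat.{u} A} {i : ℕ}

/-- Base change of an extension class. -/
def pull {n : ℕ} (ξ : Abelian.Ext.{u} (LocCohLib.quot I n) M i) :
    Abelian.Ext.{u} (LocCohLib.quot (mapI C I) n) ((bcF C).obj M) i :=
  (Abelian.Ext.mk₀ (cmpQ C I n)).comp (ξ.mapExactFunctor (bcF C)) (zero_add i)

theorem pull_add {n : ℕ} (ξ η : Abelian.Ext.{u} (LocCohLib.quot I n) M i) :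
    pull C (ξ + η) = pull C ξ + pull C η := by
  simp [pull, Abelian.Ext.mapExactFunctor_add]

theorem pull_smul {n : ℕ} (a : A) (ξ : Abelian.Ext.{u} (LocCohLib.quot I n) M i) :
    pull C (a • ξ) = algebraMap A C a • pull C ξ := by
  rw [pull, pull, mapExt_smul, Abelian.Ext.comp_smul]

theorem pull_comp {n m : ℕ} (h : n ≤ m) (ξ : Abelian.Ext.{u} (LocCohLib.quot I n) M i) :
    pull C ((Abelian.Ext.mk₀ (LocCohLib.qmap I h)).comp ξ (zero_add i)) =
      (Abelian.Ext.mk₀ (LocCohLib.qmap (mapI C I) h)).comp (pull C ξ) (zero_add i) := by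
  rw [pull, pull, Abelian.Ext.mapExactFunctor_comp, Abelian.Ext.mapExactFunctor_mk₀,
    ← Abelian.Ext.comp_assoc_of_second_deg_zero, ← Abelian.Ext.comp_assoc_of_second_deg_zero,
    Abelian.Ext.mk₀_comp_mk₀, Abelian.Ext.mk₀_comp_mk₀, cmpQ_qmap]

variable (I M i) in
theorem exists_β : ∃ β : ((localCohomology I i).obj M : Type u) →+
      ((localCohomology (mapI C I) i).obj ((bcF C).obj M) : Type u),
    (∀ n ξ, β (LocCohLib.ι I i M n ξ) = LocCohLib.ι (mapI C I) i _ n (pull C ξ)) ∧
      ∀ (a : A) x, β (a • x) = algebraMap A C a • β x := by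
  choose n ξ hξ using fun x : (localCohomology I i).obj M => LocCohLib.exists_ι x
  have key : ∀ z m η, LocCohLib.ι I i M m η = z →
      LocCohLib.ι (mapI C I) i _ (n z) (pull C (ξ z)) = LocCohLib.ι (mapI C I) i _ m (pull C η) := by
    intro z m η h
    have h0 : LocCohLib.ι I i M (max (n z) m) ((Abelian.Ext.mk₀ (LocCohLib.qmap I (le_max_left _ _))).comp (ξ z) (zero_add i) -
        (Abelian.Ext.mk₀ (LocCohLib.qmap I (le_max_right _ _))).comp η (zero_add i)) = 0 := by
      rw [map_sub, LocCohLib.ι_comp, LocCohLib.ι_comp, hξ, h, sub_self]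
    obtain ⟨k, hk, h1⟩ := (LocCohLib.ι_eq_zero_iff _).1 h0
    let padd : Abelian.Ext.{u} (LocCohLib.quot I k) M i →+ _ := AddMonoidHom.mk' (pull C) (pull_add C)
    have h2 := congrArg padd h1
    rw [map_zero, sub_eq_add_neg, Abelian.Ext.comp_add, Abelian.Ext.comp_neg, ← sub_eq_add_neg, map_sub, sub_eq_zero] at h2
    change pull C _ = pull C _ at h2
    rw [pull_comp, pull_comp, pull_comp, pull_comp] at h2
    have h3 := congrArg (LocCohLib.ι (mapI C I) i _ k) h2
    rwa [LocCohLib.ι_comp, LocCohLib.ι_comp, LocCohLib.ι_comp, LocCohLib.ι_comp] at h3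
  refine ⟨AddMonoidHom.mk' (fun z => LocCohLib.ι (mapI C I) i _ (n z) (pull C (ξ z))) fun z w => ?_,
    fun m η => key _ m η rfl, fun a z => ?_⟩
  · rw [key (z + w) (max (n z) (n w)) ((Abelian.Ext.mk₀ (LocCohLib.qmap I (le_max_left _ _))).comp (ξ z) (zero_add i) +
        (Abelian.Ext.mk₀ (LocCohLib.qmap I (le_max_right _ _))).comp (ξ w) (zero_add i))
      (by rw [map_add, LocCohLib.ι_comp, LocCohLib.ι_comp, hξ, hξ]),
      pull_add, pull_comp, pull_comp, map_add, LocCohLib.ι_comp, LocCohLib.ι_comp]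
  · show LocCohLib.ι (mapI C I) i _ (n (a • z)) (pull C (ξ (a • z))) = _
    rw [key (a • z) (n z) (a • ξ z) (by rw [map_smul, hξ]), pull_smul, map_smul]
    rfl

/-- The base change map. -/
def β (I : Ideal A) (M : ModuleCat.{u} A) (i : ℕ) : ((localCohomology I i).obj M : Type u) →+
    ((localCohomology (mapI C I) i).obj ((bcF C).obj M) : Type u) :=
  (exists_β C I M i).choose

theorem β_ι {n : ℕ} (ξ : Abelian.Ext.{u} (LocCohLib.quot I n) M i) :
    β C I M i (LocCohLib.ι I i M n ξ) = LocCohLib.ι (mapI C I) i _ n (pull C ξ) :=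
  (exists_β C I M i).choose_spec.1 n ξ

theorem β_smul (a : A) (x : (localCohomology I i).obj M) : β C I M i (a • x) = algebraMap A C a • β C I M i x :=
  (exists_β C I M i).choose_spec.2 a x

theorem β_map {M' : ModuleCat.{u} A} (f : M ⟶ M') (x : (localCohomology I i).obj M) :
    β C I M' i (((localCohomology I i).map f).hom x) =
      ((localCohomology (mapI C I) i).map ((bcF C).map f)).hom (β C I M i x) := by
  obtain ⟨n, ξ, rfl⟩ := LocCohLib.exists_ι x
  rw [LocCohLib.map_ι, β_ι, β_ι, LocCohLib.map_ι, pull, pull, Abelian.Ext.mapExactFunctor_comp,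
    Abelian.Ext.mapExactFunctor_mk₀, Abelian.Ext.comp_assoc_of_third_deg_zero]

set_option maxRecDepth 10000 in
theorem β_δ {S : ShortComplex (ModuleCat.{u} A)} (hS : S.ShortExact) (x : (localCohomology I i).obj S.X₃) :
    β C I S.X₁ (i + 1) (LocCohLib.δ I hS i x) =
      LocCohLib.δ (mapI C I) (hS.map_of_exact (bcF C)) i (β C I S.X₃ i x) := by
  obtain ⟨n, ξ, rfl⟩ := LocCohLib.exists_ι x
  rw [LocCohLib.δ_ι, β_ι, β_ι]
  refine Eq.trans ?_ (LocCohLib.δ_ι (mapI C I) (hS.map_of_exact (bcF C)) i n (pull C ξ)).symm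
  rw [pull, pull, Abelian.Ext.mapExactFunctor_comp, Abelian.Ext.mapExactFunctor_extClass,
    Abelian.Ext.comp_assoc (a₂₃ := i + 1) _ _ _ (zero_add i) rfl (by omega)]
  rfl

/-- The base change map after tensoring. -/
def βT (I : Ideal A) (M : ModuleCat.{u} A) (i : ℕ) : C ⊗[A] ((localCohomology I i).obj M : Type u) →+
    ((localCohomology (mapI C I) i).obj ((bcF C).obj M) : Type u) :=
  TensorProduct.liftAddHom
    { toFun := fun c => AddMonoidHom.mk' (fun x => c • β C I M i x) fun x y => by rw [map_add, smul_add]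
      map_zero' := AddMonoidHom.ext fun x => zero_smul C _
      map_add' := fun c c' => AddMonoidHom.ext fun x => add_smul c c' _ }
    fun a c x => by
      show (a • c) • β C I M i x = c • β C I M i (a • x)
      rw [β_smul, smul_smul, Algebra.smul_def, mul_comm]

theorem βT_tmul (c : C) (x : (localCohomology I i).obj M) : βT C I M i (c ⊗ₜ x) = c • β C I M i x :=
  TensorProduct.liftAddHom_tmul _ _ c x

theorem βT_map {M' : ModuleCat.{u} A} (f : M ⟶ M') (z : C ⊗[A] ((localCohomology I i).obj M : Type u)) :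
    βT C I M' i (((localCohomology I i).map f).hom.lTensor C z) =
      ((localCohomology (mapI C I) i).map ((bcF C).map f)).hom (βT C I M i z) := by
  induction z using TensorProduct.induction_on with
  | zero => simp
  | tmul c x => rw [LinearMap.lTensor_tmul, βT_tmul, βT_tmul, β_map, map_smul]
  | add x y hx hy => simp only [map_add, hx, hy]

theorem βT_δ {S : ShortComplex (ModuleCat.{u} A)} (hS : S.ShortExact)
    (z : C ⊗[A] ((localCohomology I i).obj S.X₃ : Type u)) :
    βT C I S.X₁ (i + 1) ((LocCohLib.δ I hS i).lTensor C z) =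
      LocCohLib.δ (mapI C I) (hS.map_of_exact (bcF C)) i (βT C I S.X₃ i z) := by
  induction z using TensorProduct.induction_on with
  | zero => simp
  | tmul c x =>
    rw [LinearMap.lTensor_tmul, βT_tmul, βT_tmul, β_δ]
    exact ((LocCohLib.δ (mapI C I) (hS.map_of_exact (bcF C)) i).map_smul c _).symm
  | add x y hx hy =>
    rw [map_add, map_add, map_add, hx, hy]
    exact (map_add (LocCohLib.δ (mapI C I) (hS.map_of_exact (bcF C)) i) _ _).symm

theorem h0_β (x : (localCohomology I 0).obj M) :
    LocCohLib.h0 (mapI C I) ((bcF C).obj M) (β C I M 0 x) = (1 : C) ⊗ₜ[A] LocCohLib.h0 I M x := by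
  obtain ⟨n, ξ, rfl⟩ := LocCohLib.exists_ι x
  obtain ⟨g, rfl⟩ := (Abelian.Ext.mk₀_bijective _ _).2 ξ
  rw [β_ι, LocCohLib.h0_ι, LocCohLib.h0_ι, pull, Abelian.Ext.mapExactFunctor_mk₀, Abelian.Ext.mk₀_comp_mk₀,
    LocCohLib.evalOne_mk₀, LocCohLib.evalOne_mk₀]
  show g.hom.baseChange C ((cmpQ C I n).hom (Submodule.Quotient.mk 1)) = _
  rw [cmpQ_one, LinearMap.baseChange_tmul]

variable [IsNoetherianRing A]

theorem bijective_βT_zero (I : Ideal A) (M : ModuleCat.{u} A) : Function.Bijective (βT C I M 0) := by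
  have hkey : ∀ z, LocCohLib.h0 (mapI C I) ((bcF C).obj M) (βT C I M 0 z) = (LocCohLib.h0 I M).lTensor C z := by
    intro z
    induction z using TensorProduct.induction_on with
    | zero => simp
    | tmul c x =>
      rw [LinearMap.lTensor_tmul, βT_tmul, map_smul, h0_β]
      show c • ((1 : C) ⊗ₜ[A] LocCohLib.h0 I M x) = _
      rw [TensorProduct.smul_tmul', smul_eq_mul, mul_one]
    | add x y hx hy => simp only [map_add, hx, hy]
  refine ⟨(injective_iff_map_eq_zero _).2 fun z hz => ?_, fun y => ?_⟩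
  · refine Module.Flat.lTensor_preserves_injective_linearMap (M := C) _ LocCohLib.h0_injective ?_
    rw [← hkey, hz, map_zero, map_zero]
  · have hy : LocCohLib.h0 (mapI C I) ((bcF C).obj M) y ∈ DRing.torsionSub (mapI C I) (C ⊗[A] (M : Type u)) :=
      LocCohLib.range_h0.le ⟨y, rfl⟩
    rw [← LocCohLib.range_torsionSub_baseChange C I (IsNoetherian.noetherian I) (M : Type u)] at hy
    obtain ⟨w, hw⟩ := hy
    obtain ⟨v, rfl⟩ := LinearMap.lTensor_surjective C (LocCohLib.h0Equiv I M).surjective w
    refine ⟨v, LocCohLib.h0_injective ?_⟩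
    rw [hkey, ← hw, LinearMap.baseChange_eq_ltensor, ← LinearMap.comp_apply, ← LinearMap.lTensor_comp]
    rfl

theorem subsingleton_bc_injective [IsNoetherianRing C] (I : Ideal A) (E : ModuleCat.{u} A) [Injective E] (j : ℕ) :
    Subsingleton ((localCohomology (mapI C I) (j + 1)).obj ((bcF C).obj E) : Type u) := by
  obtain ⟨φ, -⟩ := LocCohLib.exists_indep (R' := C) I (C ⊗[A] (E : Type u)) (j + 1)
  haveI : Injective (ModuleCat.of A E) := ‹Injective E›
  haveI := Module.injective_module_of_injective_object A (E : Type u)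
  haveI := LocCohLib.subsingleton_of_flasque (ModuleCat.of A (C ⊗[A] (E : Type u)))
    (LocCohLib.flasque_baseChange C _ (LocCohLib.flasque_of_injective (R := A) (E : Type u))) I j
  exact φ.injective.subsingleton

variable [IsNoetherianRing C]

/-- Flat base change of local cohomology, naturally. -/
theorem bijective_βT (I : Ideal A) : ∀ (i : ℕ) (M : ModuleCat.{u} A), Function.Bijective (βT C I M i) := by
  intro i
  induction i with
  | zero => exact bijective_βT_zero C I
  | succ i ih =>
    intro M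
    let E := Injective.under M
    let j : (M : Type u) →ₗ[A] (E : Type u) := (Injective.ι M).hom
    let S : ShortComplex (ModuleCat.{u} A) := ShortComplex.mk (Injective.ι M)
      (ModuleCat.ofHom (LinearMap.range j).mkQ)
      (by ext m; exact (Submodule.Quotient.mk_eq_zero _).mpr ⟨m, rfl⟩)
    have hS : S.ShortExact :=
      { exact := (ShortComplex.moduleCat_exact_iff S).mpr fun e he =>
          (Submodule.Quotient.mk_eq_zero (LinearMap.range j)).mp he
        mono_f := inferInstanceAs (Mono (Injective.ι M))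
        epi_g := (ModuleCat.epi_iff_surjective _).mpr (Submodule.mkQ_surjective _) }
    haveI : Injective S.X₂ := inferInstanceAs (Injective (Injective.under M))
    haveI := LocCohLib.subsingleton_of_injective (I := I) (M := S.X₂) i
    haveI := subsingleton_bc_injective C I S.X₂ i
    let hS' := hS.map_of_exact (bcF C)
    refine ⟨(injective_iff_map_eq_zero _).2 fun z hz => ?_, fun y => ?_⟩
    · obtain ⟨v, rfl⟩ := LinearMap.lTensor_surjective C
        (fun x => LocCohLib.exists_of_map_f_eq_zero I hS i x (Subsingleton.elim _ _)) z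
      have hv : LocCohLib.δ (mapI C I) hS' i (βT C I S.X₃ i v) = 0 := (βT_δ C hS v).symm.trans hz
      obtain ⟨u, hu⟩ := LocCohLib.exists_of_δ_eq_zero (mapI C I) hS' i _ hv
      obtain ⟨w, rfl⟩ := (ih S.X₂).2 u
      obtain rfl : ((localCohomology I i).map S.g).hom.lTensor C w = v := (ih S.X₃).1 ((βT_map C S.g w).trans hu)
      rw [← LinearMap.comp_apply, ← LinearMap.lTensor_comp,
        show LocCohLib.δ I hS i ∘ₗ ((localCohomology I i).map S.g).hom = 0 from
          LinearMap.ext (LocCohLib.δ_map_g I hS i), LinearMap.lTensor_zero, LinearMap.zero_apply]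
    · obtain ⟨u, hu⟩ := LocCohLib.exists_of_map_f_eq_zero (mapI C I) hS' i y
        (@Subsingleton.elim _ (show Subsingleton ((localCohomology (mapI C I) (i + 1)).obj (S.map (bcF C)).X₂ : Type u) by
          assumption) _ _)
      obtain ⟨v, rfl⟩ := (ih S.X₃).2 u
      exact ⟨_, (βT_δ C hS v).trans hu⟩

/-- An element killed by base change along a faithfully flat extension of a localisation dies there. -/
theorem exists_smul_eq_zero_of_β_eq_zero (S : Submonoid A) (B : Type u) [CommRing B] [Algebra A B] [IsLocalization S B]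
    [Algebra B C] [IsScalarTower A B C] [Module.FaithfullyFlat B C] {x : (localCohomology I i).obj M}
    (h : β C I M i x = 0) : ∃ s ∈ S, s • x = 0 := by
  let H : Type u := ((localCohomology I i).obj M : Type u)
  have h1 : (1 : C) ⊗ₜ[A] x = 0 := (bijective_βT C I i M).1 (by rw [βT_tmul, one_smul, h, map_zero])
  have h2 : (1 : B) ⊗ₜ[A] x = 0 := by
    refine Module.FaithfullyFlat.tensorProduct_mk_injective (A := B) (B := C) (B ⊗[A] H) ?_
    rw [map_zero]
    show (1 : C) ⊗ₜ[B] ((1 : B) ⊗ₜ[A] x) = 0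
    refine (TensorProduct.AlgebraTensorModule.cancelBaseChange_symm_tmul (R := A) (A := B) (B := C) (1 : C) x).symm.trans ?_
    rw [h1, map_zero]
  haveI : IsLocalizedModule S (TensorProduct.mk A B H 1) := (isLocalizedModule_iff_isBaseChange S B _).2
    (TensorProduct.isBaseChange A H B)
  obtain ⟨s, hs⟩ := (IsLocalizedModule.eq_zero_iff S (TensorProduct.mk A B H 1)).1 h2
  exact ⟨s, s.2, hs⟩

end Groth.Agent.HTLib
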