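import Groth.Agent.OpenRestrH.Scheme
import Groth.Agent.PuncSecLib.ModPow
import Groth.Agent.PuncSecLib.LocFree
import Groth.Agent.PuncSecLib.Cohom
import Groth.Prelude.Def_Formal

/-!
# Cohomology of a restricted module, naturally
-/

set_option autoImplicit false
set_option linter.style.haveILetI false
set_option backward.isDefEq.respectTransparency false
set_option maxRecDepth 4000

universe u

open CategoryTheory CategoryTheory.Limits AlgebraicGeometry TopologicalSpace Opposite Abelian

noncomputable section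

namespace Groth.Agent.HTLib

section top

variable {X : TopCat.{u}} (U : Opens X)

/-- Cohomology on an open and of the restriction, naturally. -/
theorem exists_equiv_restr (n : ℕ) : ∃ e : ∀ F : CohTop.Ab X, CohBase.HU U F n ≃+ CohTop.H (CohTop.restr F U) n,
    ∀ {F G : CohTop.Ab X} (f : F ⟶ G) (x : CohBase.HU U F n),
      e G (CohBase.hmap U f n x) = Sheaf.H.map ((CohTop.restrFunctor U).map f) n (e F x) := by
  haveI : PreservesFiniteLimits (CohTop.restrFunctor U) :=
    haveI : PreservesLimitsOfSize.{0, 0} (CohTop.restrFunctor U) :=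
      (LocZLib.extendOpenAdj (g := CohCx.incl U) U.isOpenEmbedding).rightAdjoint_preservesLimits
    inferInstance
  haveI : PreservesFiniteColimits (CohTop.restrFunctor U) :=
    haveI : PreservesColimitsOfSize.{0, 0} (CohTop.restrFunctor U) :=
      (LocZLib.restrPushAdj U).leftAdjoint_preservesColimits
    inferInstance
  have key : ∃ e : ∀ F : CohTop.Ab X, CohBase.HU (OpenRestrH.img U) F n ≃+ CohTop.H (CohTop.restr F U) n,
      ∀ {F G : CohTop.Ab X} (f : F ⟶ G) (x : CohBase.HU (OpenRestrH.img U) F n),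
        e G (CohBase.hmap (OpenRestrH.img U) f n x) = Sheaf.H.map ((CohTop.restrFunctor U).map f) n (e F x) := by
    have hX : ∀ (I : CohTop.Ab X) [Injective I] (m : ℕ),
        Subsingleton (Ext.{u} (CohBase.freeAb (⊤ : Opens (TopCat.of U))) ((CohTop.restrFunctor U).obj I) (m + 1)) := by
      intro I _ m
      haveI : Injective ((CohTop.restrFunctor U).obj I) := LocZLib.injective_restr U I
      exact Ext.subsingleton_of_injective _ _ m
    refine ⟨fun F => (SiteBase.extUnitEquiv (G := CohTop.restrFunctor U) _ (OpenRestrH.bijective_unit U) hX F n).trans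
      (CohBase.HEquiv (X := TopCat.of U) (CohTop.restr F U) n).symm, fun {F G} f x => ?_⟩
    apply (CohBase.HEquiv (X := TopCat.of U) (CohTop.restr G U) n).injective
    rw [CohBase.HEquiv_map, AddEquiv.trans_apply, AddEquiv.trans_apply, AddEquiv.apply_symm_apply,
      AddEquiv.apply_symm_apply]
    show SiteBase.extUnitHom _ G n (x.comp (Ext.mk₀ f) (add_zero n)) = _
    rw [SiteBase.extUnitHom_comp, Ext.mapExactFunctor_mk₀]
    rfl
  rw [OpenRestrH.img_eq] at key
  exact key

end top

theorem toAb_restrict_map (X : Scheme.{u}) (U : X.Opens) {M N : X.Modules} (φ : M ⟶ N) :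
    (CohTop.restrFunctor (X := X.toTopCat) U).map ((SheafOfModules.toSheaf _).map φ) =
      (SheafOfModules.toSheaf _).map ((Scheme.Modules.restrictFunctor U.ι).map φ) := rfl

/-- Cohomology of the restriction of a module, naturally. -/
theorem exists_equiv_HHon (X : Scheme.{u}) (U : X.Opens) (i : ℕ) :
    ∃ e : ∀ M : X.Modules, CohBase.HU (X := X.toTopCat) U (Coh.toAb M) i ≃+
        Coh.HH (U : Scheme.{u}) ((Scheme.Modules.restrictFunctor U.ι).obj M) i,
      ∀ {M N : X.Modules} (φ : M ⟶ N) (x : CohBase.HU (X := X.toTopCat) U (Coh.toAb M) i),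
        e N (CohBase.hmap (X := X.toTopCat) U ((SheafOfModules.toSheaf _).map φ) i x) =
          Sheaf.H.map ((SheafOfModules.toSheaf _).map ((Scheme.Modules.restrictFunctor U.ι).map φ)) i (e M x) := by
  obtain ⟨e, he⟩ := exists_equiv_restr (X := X.toTopCat) U i
  refine ⟨fun M => e (Coh.toAb M), fun {M N} φ x => ?_⟩
  rw [← toAb_restrict_map]
  exact he _ x

variable {A : Type u} [CommRing A] (U : (PuncSecLib.Sp A).Opens)

/-- Cohomology of the restricted tilde, naturally. -/
theorem exists_equiv_tR (i : ℕ) : ∃ e : ∀ M : ModuleCat.{u} A,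
      PuncSecLib.H M i U ≃+ Coh.HH (U : Scheme.{u}) ((PuncSecLib.tR U).obj M) i,
    ∀ {M N : Type u} [AddCommGroup M] [Module A M] [AddCommGroup N] [Module A N] (φ : M →ₗ[A] N)
      (x : PuncSecLib.H M i U),
      e (ModuleCat.of A N) (PuncSecLib.hm φ i U x) =
        Sheaf.H.map ((SheafOfModules.toSheaf _).map ((PuncSecLib.tR U).map (ModuleCat.ofHom φ))) i
          (e (ModuleCat.of A M) x) := by
  obtain ⟨e, he⟩ := exists_equiv_HHon (PuncSecLib.Sp A) U i
  exact ⟨fun M => e ((tilde.functor (CommRingCat.of A)).obj M),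
    fun {M N} _ _ _ _ φ x => he ((tilde.functor (CommRingCat.of A)).map (ModuleCat.ofHom φ)) x⟩

theorem exists_modPow_transport {B : Type u} [CommRing B] {X : Scheme.{u}} [X.Over (Spec (CommRingCat.of B))]
    (I : Ideal B) (F : X.Modules) (Q : ℕ → X.Modules) (π : ∀ n, F ⟶ Q n) (τ : ∀ n, Q (n + 1) ⟶ Q n)
    (t : ∀ n, Formal.modPow I (n + 1) F ≅ Q n) (ht : ∀ n, Formal.modPowπ I (n + 1) F ≫ (t n).hom = π n)
    (hτ : ∀ n, π (n + 1) ≫ τ n = π n) (i : ℕ) :
    ∃ θ : ∀ n, Coh.HH X (Q n) i ≃+ Formal.HHmodPow I F i n,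
      (∀ n x, θ n (Sheaf.H.map ((SheafOfModules.toSheaf _).map (π n)) i x) = Formal.toHHmodPow I F i n x) ∧
      ∀ n y, θ n (Sheaf.H.map ((SheafOfModules.toSheaf _).map (τ n)) i y) =
        Formal.HHmodPowTrans I F i n (θ (n + 1) y) := by
  let θ : ∀ n, Coh.HH X (Q n) i ≃+ Formal.HHmodPow I F i n := fun n =>
    { toFun := Sheaf.H.map ((SheafOfModules.toSheaf _).map (t n).inv) i
      invFun := Sheaf.H.map ((SheafOfModules.toSheaf _).map (t n).hom) i
      left_inv := fun x => by rw [Formal.HHmap_comp, Iso.inv_hom_id, CategoryTheory.Functor.map_id]; simp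
      right_inv := fun x => by rw [Formal.HHmap_comp, Iso.hom_inv_id, CategoryTheory.Functor.map_id]; simp
      map_add' := map_add _ }
  refine ⟨θ, fun n x => ?_, fun n y => ?_⟩
  · show Sheaf.H.map _ i (Sheaf.H.map _ i x) = Sheaf.H.map _ i x
    rw [Formal.HHmap_comp, ← ht n, Category.assoc, Iso.hom_inv_id, Category.comp_id]
  · show Sheaf.H.map _ i (Sheaf.H.map _ i y) = Sheaf.H.map _ i (Sheaf.H.map _ i y)
    rw [Formal.HHmap_comp, Formal.HHmap_comp]
    refine congrArg (fun g => Sheaf.H.map ((SheafOfModules.toSheaf _).map g) i y) ?_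
    rw [Iso.comp_inv_eq, Category.assoc, Iso.eq_inv_comp]
    haveI : Epi (Formal.modPowπ I (n + 1 + 1) F) := inferInstanceAs (Epi (cokernel.π _))
    refine ((cancel_epi (Formal.modPowπ I (n + 1 + 1) F)).1 ?_).symm
    rw [← Category.assoc, Formal.modPowπ_trans, ht n, ← Category.assoc, ht (n + 1), hτ]

theorem quotPowπ_succ_comp (I : Ideal A) (M : Type u) [AddCommGroup M] [Module A M] (n : ℕ) :
    (Formal2.quotPowTrans A I M n).comp (Formal2.quotPowπ A I M (n + 1)) = Formal2.quotPowπ A I M n :=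
  LinearMap.ext fun _ => rfl

theorem quotPowTrans_comp_π (I : Ideal A) (M : Type u) [AddCommGroup M] [Module A M] (n : ℕ) :
    (PuncSecLib.tR U).map (ModuleCat.ofHom (Formal2.quotPowπ A I M (n + 1))) ≫
        (PuncSecLib.tR U).map (ModuleCat.ofHom (Formal2.quotPowTrans A I M n)) =
      (PuncSecLib.tR U).map (ModuleCat.ofHom (Formal2.quotPowπ A I M n)) := by
  rw [← Functor.map_comp]
  refine congrArg _ (ModuleCat.hom_ext ?_)
  exact HTLib.quotPowπ_succ_comp I M n

/-- Bijectivity of the map to the formal limit, transported from a module. -/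
theorem exists_equiv_toHHlim (I : Ideal A) (M : Type u) [AddCommGroup M] [Module A M] (i : ℕ) :
    ∃ (e : PuncSecLib.H M i U ≃+ Coh.HH (U : Scheme.{u}) ((PuncSecLib.tR U).obj (ModuleCat.of A M)) i)
      (θ : ∀ n, PuncSecLib.H (Formal2.quotPow A I M n) i U ≃+
        Formal.HHmodPow I ((PuncSecLib.tR U).obj (ModuleCat.of A M)) i n),
      (∀ n x, θ n (PuncSecLib.hm (Formal2.quotPowπ A I M n) i U x) =
        Formal.toHHmodPow I ((PuncSecLib.tR U).obj (ModuleCat.of A M)) i n (e x)) ∧
      ∀ n y, θ n (PuncSecLib.hm (Formal2.quotPowTrans A I M n) i U y) =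
        Formal.HHmodPowTrans I ((PuncSecLib.tR U).obj (ModuleCat.of A M)) i n (θ (n + 1) y) := by
  obtain ⟨e, he⟩ := exists_equiv_tR U i
  choose t ht using fun n => PuncSecLib.exists_modPow_iso_tR U I n M
  obtain ⟨θ, h1, h2⟩ := exists_modPow_transport I ((PuncSecLib.tR U).obj (ModuleCat.of A M))
    (fun n => (PuncSecLib.tR U).obj (ModuleCat.of A (Formal2.quotPow A I M n)))
    (fun n => (PuncSecLib.tR U).map (ModuleCat.ofHom (Formal2.quotPowπ A I M n)))
    (fun n => (PuncSecLib.tR U).map (ModuleCat.ofHom (Formal2.quotPowTrans A I M n)))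
    (fun n => t (n + 1)) (fun n => ht (n + 1)) (quotPowTrans_comp_π U I M) i
  refine ⟨e (ModuleCat.of A M), fun n => (e (ModuleCat.of A (Formal2.quotPow A I M n))).trans (θ n),
    fun n x => ?_, fun n y => ?_⟩
  · rw [AddEquiv.trans_apply, he]
    exact h1 n _
  · rw [AddEquiv.trans_apply, AddEquiv.trans_apply, he]
    exact h2 n _

theorem modPowπ_mapIso {X : Scheme.{u}} [X.Over (PuncSecLib.Sp A)] (I : Ideal A) (n : ℕ) {F G : X.Modules}
    (φ : F ≅ G) : Formal.modPowπ I n F ≫ (PuncSecLib.modPowMapIso I n φ).hom = φ.hom ≫ Formal.modPowπ I n G :=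
  cokernel.π_desc _ _ _

theorem transport_hyp {X : Scheme.{u}} [X.Over (PuncSecLib.Sp A)] (I : Ideal A) (n : ℕ) {F G Q : X.Modules}
    (φ : F ≅ G) (s : Formal.modPow I n G ≅ Q) {π : G ⟶ Q} (hs : Formal.modPowπ I n G ≫ s.hom = π) :
    Formal.modPowπ I n F ≫ (PuncSecLib.modPowMapIso I n φ ≪≫ s).hom = φ.hom ≫ π := by
  rw [Iso.trans_hom, ← Category.assoc, modPowπ_mapIso, Category.assoc, hs]

/-- Bijectivity of the map to the formal limit, transported from a module along an isomorphism. -/
theorem exists_equiv_toHHlim' (I : Ideal A) (M : Type u) [AddCommGroup M] [Module A M]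
    {F : (U : Scheme.{u}).Modules} (φ : F ≅ (PuncSecLib.tR U).obj (ModuleCat.of A M)) (i : ℕ) :
    ∃ (e : PuncSecLib.H M i U ≃+ Coh.HH (U : Scheme.{u}) F i)
      (θ : ∀ n, PuncSecLib.H (Formal2.quotPow A I M n) i U ≃+ Formal.HHmodPow I F i n),
      (∀ n x, θ n (PuncSecLib.hm (Formal2.quotPowπ A I M n) i U x) =
        Formal.toHHmodPow I F i n (e x)) ∧
      ∀ n y, θ n (PuncSecLib.hm (Formal2.quotPowTrans A I M n) i U y) =
        Formal.HHmodPowTrans I F i n (θ (n + 1) y) := by
  obtain ⟨e, he⟩ := exists_equiv_tR U i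
  choose t ht using fun n => PuncSecLib.exists_modPow_iso_tR U I n M
  obtain ⟨θ, h1, h2⟩ := exists_modPow_transport I F
    (fun n => (PuncSecLib.tR U).obj (ModuleCat.of A (Formal2.quotPow A I M n)))
    (fun n => φ.hom ≫ (PuncSecLib.tR U).map (ModuleCat.ofHom (Formal2.quotPowπ A I M n)))
    (fun n => (PuncSecLib.tR U).map (ModuleCat.ofHom (Formal2.quotPowTrans A I M n)))
    (fun n => PuncSecLib.modPowMapIso I (n + 1) φ ≪≫ t (n + 1))
    (fun n => transport_hyp I (n + 1) φ (t (n + 1)) (ht (n + 1)))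
    (fun n => by rw [Category.assoc, quotPowTrans_comp_π]) i
  let f : Coh.HH (U : Scheme.{u}) ((PuncSecLib.tR U).obj (ModuleCat.of A M)) i ≃+ Coh.HH (U : Scheme.{u}) F i :=
    { toFun := Sheaf.H.map ((SheafOfModules.toSheaf _).map φ.inv) i
      invFun := Sheaf.H.map ((SheafOfModules.toSheaf _).map φ.hom) i
      left_inv := fun x => by rw [Formal.HHmap_comp, Iso.inv_hom_id, CategoryTheory.Functor.map_id]; simp
      right_inv := fun x => by rw [Formal.HHmap_comp, Iso.hom_inv_id, CategoryTheory.Functor.map_id]; simp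
      map_add' := map_add _ }
  refine ⟨(e (ModuleCat.of A M)).trans f, fun n => (e (ModuleCat.of A (Formal2.quotPow A I M n))).trans (θ n),
    fun n x => ?_, fun n y => ?_⟩
  · rw [AddEquiv.trans_apply, AddEquiv.trans_apply, he, ← h1]
    refine congrArg (θ n) ?_
    show _ = Sheaf.H.map _ i (Sheaf.H.map _ i _)
    rw [Formal.HHmap_comp, Iso.inv_hom_id_assoc]
  · rw [AddEquiv.trans_apply, AddEquiv.trans_apply, he]
    exact h2 n _

end Groth.Agent.HTLib
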