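import Mathlib.RingTheory.Artinian.Module

/-!
# Compatible families in inverse systems with Artinian homology
-/

set_option autoImplicit false

namespace Groth.Agent.HTLib

variable {R : Type*} [CommRing R] {U V W H : ℕ → Type*} [∀ n, AddCommGroup (U n)] [∀ n, Module R (U n)]
  [∀ n, AddCommGroup (V n)] [∀ n, Module R (V n)] [∀ n, AddCommGroup (W n)] [∀ n, Module R (W n)]
  [∀ n, AddCommGroup (H n)] [∀ n, Module R (H n)]

/-- An inverse system of Artinian modules has stable images. -/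
theorem ml_of_artinian [∀ n, IsArtinian R (H n)] (t : ∀ {n m}, n ≤ m → (H m →ₗ[R] H n))
    (ht : ∀ {n m l} (h : n ≤ m) (h' : m ≤ l) (x : H l), t h (t h' x) = t (h.trans h') x) (n : ℕ) :
    ∃ N, ∃ h : n ≤ N, ∀ k (hk : N ≤ k) (c : H N), ∃ c' : H k, t (h.trans hk) c' = t h c := by
  let f : ℕ →o (Submodule R (H n))ᵒᵈ :=
    ⟨fun j => OrderDual.toDual (LinearMap.range (t (Nat.le_add_right n j))), fun i j hij => by
      show LinearMap.range _ ≤ LinearMap.range _
      rintro _ ⟨x, rfl⟩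
      exact ⟨t (Nat.add_le_add_left hij n) x, ht _ _ _⟩⟩
  obtain ⟨j, hj⟩ := IsArtinian.monotone_stabilizes f
  refine ⟨n + j, Nat.le_add_right n j, fun k hk c => ?_⟩
  obtain ⟨l, rfl⟩ : ∃ l, k = n + l := ⟨k - n, by omega⟩
  have h1 : t (Nat.le_add_right n j) c ∈ OrderDual.ofDual (f l) := hj l (by omega) ▸ ⟨c, rfl⟩
  exact h1

omit [∀ n, AddCommGroup (H n)] [∀ n, Module R (H n)] in
/-- With stable images of the kernels, compatible elements of the images lift compatibly. -/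
theorem exists_compatible (a : ∀ n, U n →ₗ[R] V n) (b : ∀ n, V n →ₗ[R] W n) (hba : ∀ n u, b n (a n u) = 0)
    (t : ∀ {n m}, n ≤ m → (V m →ₗ[R] V n))
    (hst : ∀ n, ∃ N, ∃ h : n ≤ N, ∀ k (hk : N ≤ k) (v : V N), b N v = 0 →
      ∃ (v' : V k) (u : U n), b k v' = 0 ∧ t h v - t (h.trans hk) v' = a n u)
    (ht : ∀ {n m l} (h : n ≤ m) (h' : m ≤ l) (x : V l), t h (t h' x) = t (h.trans h') x)
    (tU : ∀ n, U (n + 1) → U n) (htU : ∀ n, Function.Surjective (tU n))
    (hta : ∀ n u, t (Nat.le_succ n) (a (n + 1) u) = a n (tU n u))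
    (z : ∀ n, W n) (hz : ∀ n, ∃ w, b n w = z n) (htz : ∀ {n m} (h : n ≤ m) (w : V m), b m w = z m → b n (t h w) = z n) :
    ∃ w : ∀ n, V n, (∀ n, b n (w n) = z n) ∧ ∀ n, t (Nat.le_succ n) (w (n + 1)) = w n := by
  choose N hN hst using hst
  let good : ∀ n, V n → Prop := fun n e => b n e = z n ∧
    ∀ k (hk : n ≤ k), ∃ (w : V k) (u : U n), b k w = z k ∧ e - t hk w = a n u
  have hgood : ∀ n (w₀ : V (N n)), b (N n) w₀ = z (N n) → good n (t (hN n) w₀) := by
    refine fun n w₀ hw₀ => ⟨htz _ w₀ hw₀, fun k hk => ?_⟩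
    rcases le_total k (N n) with h | h
    · exact ⟨t h w₀, 0, htz h w₀ hw₀, by rw [ht, sub_self, map_zero]⟩
    · obtain ⟨wk, hwk⟩ := hz k
      obtain ⟨v', u, hv', hu⟩ := hst n k h (w₀ - t h wk) (by rw [map_sub, hw₀, htz h wk hwk, sub_self])
      refine ⟨wk + v', u, by rw [map_add, hwk, hv', add_zero], ?_⟩
      rw [← hu, map_add, map_sub, ht]
      abel
  have hstep : ∀ n (e : {e // good n e}), ∃ e' : {e // good (n + 1) e}, t (Nat.le_succ n) e'.1 = e.1 := by
    rintro n ⟨e, he, he'⟩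
    obtain ⟨w, u, hw, hu⟩ := he' (N (n + 1)) ((Nat.le_succ n).trans (hN (n + 1)))
    obtain ⟨u', rfl⟩ := htU n u
    obtain ⟨h1, h2⟩ := hgood (n + 1) w hw
    refine ⟨⟨t (hN (n + 1)) w + a (n + 1) u', by rw [map_add, h1, hba, add_zero], fun k hk => ?_⟩, ?_⟩
    · obtain ⟨w', u'', hw', hu''⟩ := h2 k hk
      exact ⟨w', u'' + u', hw', by rw [map_add, ← hu'']; abel⟩
    · rw [map_add, ht, hta, ← hu]
      abel
  choose step hs using hstep
  obtain ⟨w₀, hw₀⟩ := hz (N 0)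
  let e : ∀ n, {e // good n e} := fun n => Nat.rec ⟨_, hgood 0 w₀ hw₀⟩ step n
  exact ⟨fun n => (e n).1, fun n => (e n).2.1, fun n => hs n (e n)⟩

variable {G : ℕ → Type*} [∀ n, AddCommGroup (G n)] [∀ n, Module R (G n)] {L : Type*} [AddCommGroup L] [Module R L]
  (c : ∀ n, L →ₗ[R] G n) (t : ∀ {n m}, n ≤ m → (G m →ₗ[R] G n))
  (hc : ∀ {n m} (h : n ≤ m) (x : L), t h (c m x) = c n x)

/-- The stable images come from the limit. -/
theorem exists_stage [∀ n, IsArtinian R (G n)]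
    (ht : ∀ {n m l} (h : n ≤ m) (h' : m ≤ l) (x : G l), t h (t h' x) = t (h.trans h') x)
    (hsurj : ∀ y : (∀ n, G n), (∀ n, t (Nat.le_succ n) (y (n + 1)) = y n) → ∃ x, ∀ n, c n x = y n) (n : ℕ) :
    ∃ N, ∀ (k : ℕ) (h : n ≤ k), N ≤ k → ∀ g : G k, ∃ x, c n x = t h g := by
  have hst : ∀ n, ∃ N, ∃ h : n ≤ N, ∀ k (hk : N ≤ k) (g : G N), ∃ g' : G k, t (h.trans hk) g' = t h g := by
    intro n
    let f : ℕ →o (Submodule R (G n))ᵒᵈ :=
      ⟨fun j => OrderDual.toDual (LinearMap.range (t (Nat.le_add_right n j))), fun i j hij => by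
        show LinearMap.range _ ≤ LinearMap.range _
        rintro _ ⟨x, rfl⟩
        exact ⟨t (Nat.add_le_add_left hij n) x, ht _ _ _⟩⟩
    obtain ⟨j, hj⟩ := IsArtinian.monotone_stabilizes f
    refine ⟨n + j, Nat.le_add_right n j, fun k hk g => ?_⟩
    obtain ⟨l, rfl⟩ : ∃ l, k = n + l := ⟨k - n, by omega⟩
    have h1 : t (Nat.le_add_right n j) g ∈ OrderDual.ofDual (f l) := hj l (by omega) ▸ ⟨g, rfl⟩
    exact h1
  choose N hN hst using hst
  let good : ∀ n, G n → Prop := fun n e => ∀ k (hk : n ≤ k), ∃ g, t hk g = e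
  have hgood : ∀ n (g : G (N n)), good n (t (hN n) g) := by
    intro n g k hk
    rcases le_total k (N n) with h | h
    · exact ⟨t h g, ht _ _ _⟩
    · exact hst n k h g
  have hstep : ∀ m (e : {e // good (n + m) e}), ∃ e' : {e // good (n + (m + 1)) e},
      t (Nat.le_succ (n + m)) e'.1 = e.1 := by
    rintro m ⟨e, he⟩
    obtain ⟨g, hg⟩ := he (N (n + (m + 1))) ((Nat.le_succ (n + m)).trans (hN (n + (m + 1))))
    exact ⟨⟨_, hgood _ g⟩, (ht _ _ _).trans hg⟩
  choose step hs using hstep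
  refine ⟨N n, fun k h hk g => ?_⟩
  have hg0 : good n (t h g) := by
    have := hgood n (t hk g)
    rwa [ht] at this
  let e : ∀ m, {e // good (n + m) e} := fun m => Nat.rec ⟨_, hg0⟩ step m
  obtain ⟨x, hx⟩ := hsurj (fun m => t (Nat.le_add_left m n) (e m).1) fun m => by
    show t (Nat.le_succ m) (t (Nat.le_add_left (m + 1) n) (e (m + 1)).1) = t (Nat.le_add_left m n) (e m).1
    rw [ht, ← hs m (e m), ht]
  refine ⟨x, ?_⟩
  have he : ∀ m, t (Nat.le_add_right n m) (e m).1 = t (le_refl n) (t h g) := by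
    intro m
    induction m with
    | zero => rfl
    | succ m ih =>
      rw [← ih, ← hs m (e m), ht]
  rw [hx n]
  show t (Nat.le_add_left n n) (e n).1 = t h g
  rw [← show t (le_refl n) (t h g) = t h g from ht _ _ _, ← he n]

include hc in
/-- An Artinian module injects into some stage. -/
theorem exists_injective_stage [IsArtinian R L] (hinj : ∀ x : L, (∀ n, c n x = 0) → x = 0) :
    ∃ n₀, ∀ n, n₀ ≤ n → ∀ x : L, c n x = 0 → x = 0 := by
  let f : ℕ →o (Submodule R L)ᵒᵈ := ⟨fun n => OrderDual.toDual (LinearMap.ker (c n)), fun i j hij => by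
    show LinearMap.ker _ ≤ LinearMap.ker _
    intro x hx
    rw [LinearMap.mem_ker] at hx ⊢
    rw [← hc hij x, hx, map_zero]⟩
  obtain ⟨n₀, hn₀⟩ := IsArtinian.monotone_stabilizes f
  refine ⟨n₀, fun n hn x hx => hinj x fun m => ?_⟩
  have h0 : c n₀ x = 0 := by rw [← hc hn x, hx, map_zero]
  rcases le_total m n₀ with h | h
  · rw [← hc h x, h0, map_zero]
  · exact (SetLike.ext_iff.1 (congrArg OrderDual.ofDual (hn₀ m h)) x).1 h0

end Groth.Agent.HTLib
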