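import Groth.Agent.HTLib.Rgamma
import Groth.Agent.HTLib.Lim
import Groth.Agent.CechComplLib.Main
import Groth.Agent.DComplLib.Triangle

/-!
# Cohomology with supports against the limit over the reductions
-/

set_option autoImplicit false
set_option linter.style.haveILetI false
set_option backward.isDefEq.respectTransparency false
set_option maxRecDepth 4000

universe u

open CategoryTheory Limits DerCA
attribute [local instance] HasDerivedCategory.standard

noncomputable section

namespace Groth.Agent.HTLib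

open CechComplLib DComplLib

variable {A : Type u} [CommRing A] (I : Ideal A)

/-- The transition maps of the reductions. -/
def quotTr {n m : ℕ} (h : n ≤ m) : quotF (I ^ m) ⟶ quotF (I ^ n) where
  app N := ModuleCat.ofHom (Submodule.mapQ (I ^ m • ⊤ : Submodule A N) (I ^ n • ⊤ : Submodule A N) LinearMap.id
    (Submodule.smul_mono (Ideal.pow_le_pow_right h) le_rfl))
  naturality _ _ _ := ModuleCat.hom_ext (Submodule.linearMap_qext _ (LinearMap.ext fun x => rfl))

theorem quotTr_quotTr {n m l : ℕ} (h : n ≤ m) (h' : m ≤ l) (N : ModuleCat.{u} A) (x : (quotF (I ^ l)).obj N) :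
    ((quotTr I h).app N).hom (((quotTr I h').app N).hom x) = ((quotTr I (h.trans h')).app N).hom x := by
  obtain ⟨x, rfl⟩ := Submodule.Quotient.mk_surjective _ x
  rfl

theorem quotTr_d {n m : ℕ} (h : n ≤ m) (K : DRing.Cx A) (i j : ℤ) (x : ((quotCx (I ^ m)).obj K).X i) :
    ((quotTr I h).app (K.X j)).hom ((((quotCx (I ^ m)).obj K).d i j).hom x) =
      (((quotCx (I ^ n)).obj K).d i j).hom (((quotTr I h).app (K.X i)).hom x) :=
  congr($((quotTr I h).naturality (K.d i j)).hom x)

theorem quotTrans_surjective (n : ℕ) (N : ModuleCat.{u} A) :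
    Function.Surjective ((quotTr I (Nat.le_succ n)).app N).hom := fun x => by
  obtain ⟨x, rfl⟩ := Submodule.Quotient.mk_surjective _ x
  exact ⟨Submodule.Quotient.mk x, rfl⟩

/-- The map to a reduction. -/
def ev0 (K : DRing.Cx A) (n : ℕ) : K ⟶ (quotCx (I ^ n)).obj K where
  f i := (quotπ (I ^ n)).app (K.X i)
  comm' i j _ := ((quotπ (I ^ n)).naturality (K.d i j)).symm

/-- The evaluation of the completion. -/
abbrev evA (K : DRing.Cx A) (n : ℕ) : (adicCx I).obj K ⟶ (quotCx (I ^ n)).obj K :=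
  (NatTrans.mapHomologicalComplex (adicEval I n) (ComplexShape.up ℤ)).app K

theorem adicηCx_evA (K : DRing.Cx A) (n : ℕ) : adicηCx I K ≫ evA I K n = ev0 I K n := by
  ext i : 1
  exact ModuleCat.hom_ext (LinearMap.ext fun x => rfl)

section lift

variable (K : DRing.Cx A) (i : ℤ)

theorem exists_adic (w : ∀ n, ((quotCx (I ^ n)).obj K).X i)
    (hw : ∀ n, ((quotTr I (Nat.le_succ n)).app (K.X i)).hom (w (n + 1)) = w n) :
    ∃ ξ : ((adicCx I).obj K).X i, ∀ n, ((evA I K n).f i).hom ξ = w n := by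
  refine ⟨(⟨w, fun {m n} hmn => ?_⟩ : AdicCompletion I (K.X i)), fun n => rfl⟩
  induction n, hmn using Nat.le_induction with
  | base =>
    obtain ⟨z, hz⟩ := Submodule.Quotient.mk_surjective _ (w m)
    rw [← hz]
    rfl
  | succ n hn ih =>
    rw [← ih, ← hw n]
    obtain ⟨z, hz⟩ := Submodule.Quotient.mk_surjective _ (w (n + 1))
    rw [← hz]
    rfl

theorem adic_ext {ξ η : ((adicCx I).obj K).X i} (h : ∀ n, ((evA I K n).f i).hom ξ = ((evA I K n).f i).hom η) :
    ξ = η :=
  Subtype.ext (funext h)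

/-- Compatible classes come from the completion. -/
theorem exists_class (c : ∀ n, ((quotCx (I ^ n)).obj K).homology i)
    (hc : ∀ n, (HomologicalComplex.homologyMap (quotTransCx I K n) i).hom (c (n + 1)) = c n) :
    ∃ z : ((adicCx I).obj K).homology i, ∀ n, (HomologicalComplex.homologyMap (evA I K n) i).hom z = c n := by
  have hstep : ∀ n (w : {w : LocCohLib.Zmod ((quotCx (I ^ n)).obj K) i // LocCohLib.cls _ i w = c n}),
      ∃ w' : {w : LocCohLib.Zmod ((quotCx (I ^ (n + 1))).obj K) i // LocCohLib.cls _ i w = c (n + 1)},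
        ((quotTr I (Nat.le_succ n)).app (K.X i)).hom w'.1.1 = w.1.1 := by
    rintro n ⟨w, hw⟩
    obtain ⟨w₁, hw₁⟩ := LocCohLib.cls_surjective _ i (c (n + 1))
    have h0 : LocCohLib.cls _ i (LocCohLib.mapZ i (quotTransCx I K n) w₁ - w) = 0 := by
      rw [map_sub, ← LocCohLib.homologyMap_cls, hw₁, hc, hw, sub_self]
    obtain ⟨v, hv⟩ := (LocCohLib.cls_eq_zero_iff' _ (CochainComplex.prev ℤ i) _).1 h0
    obtain ⟨v', rfl⟩ := quotTrans_surjective I n (K.X (i - 1)) v
    have hd : ((((quotCx (I ^ (n + 1))).obj K).d (i - 1) i).hom v') ∈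
        LocCohLib.Zmod ((quotCx (I ^ (n + 1))).obj K) i := congr($(((quotCx (I ^ (n + 1))).obj K).d_comp_d _ _ _).hom v')
    refine ⟨⟨w₁ - ⟨_, hd⟩, ?_⟩, ?_⟩
    · rw [map_sub, hw₁, (LocCohLib.cls_eq_zero_iff' _ (CochainComplex.prev ℤ i) _).2 ⟨v', rfl⟩, sub_zero]
    · show ((quotTr I _).app (K.X i)).hom (w₁.1 - (((quotCx (I ^ (n + 1))).obj K).d (i - 1) i).hom v') = _
      rw [map_sub, quotTr_d, hv]
      exact sub_sub_cancel _ _
  choose step hs using hstep
  obtain ⟨w₀, hw₀⟩ := LocCohLib.cls_surjective _ i (c 0)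
  let w : ∀ n, {w : LocCohLib.Zmod ((quotCx (I ^ n)).obj K) i // LocCohLib.cls _ i w = c n} :=
    fun n => Nat.rec ⟨w₀, hw₀⟩ step n
  obtain ⟨ξ, hξ⟩ := exists_adic I K i (fun n => (w n).1.1) fun n => hs n (w n)
  have hd : ξ ∈ LocCohLib.Zmod ((adicCx I).obj K) i := by
    refine LinearMap.mem_ker.2 (adic_ext I K _ fun n => ?_)
    refine (congr($((evA I K n).comm i _).hom ξ)).symm.trans ?_
    refine (congrArg (((quotCx (I ^ n)).obj K).d i _).hom (hξ n)).trans ?_
    rw [(w n).1.2, map_zero]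
  refine ⟨LocCohLib.cls _ i ⟨ξ, hd⟩, fun n => ?_⟩
  rw [LocCohLib.homologyMap_cls, ← (w n).2]
  exact congrArg _ (Subtype.ext (hξ n))

/-- A class vanishing on all reductions vanishes. -/
theorem class_eq_zero
    (hml : ∀ n, ∃ N, ∃ h : n ≤ N, ∀ k (hk : N ≤ k) (c : ((quotCx (I ^ N)).obj K).homology (i - 1)),
      ∃ c' : ((quotCx (I ^ k)).obj K).homology (i - 1),
        (HomologicalComplex.homologyMap ((NatTrans.mapHomologicalComplex (quotTr I (h.trans hk))
          (ComplexShape.up ℤ)).app K) (i - 1)).hom c' =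
        (HomologicalComplex.homologyMap ((NatTrans.mapHomologicalComplex (quotTr I h)
          (ComplexShape.up ℤ)).app K) (i - 1)).hom c)
    (z : ((adicCx I).obj K).homology i) (hz : ∀ n, (HomologicalComplex.homologyMap (evA I K n) i).hom z = 0) :
    z = 0 := by
  obtain ⟨ξ, rfl⟩ := LocCohLib.cls_surjective _ i z
  have hex : ∀ n, ∃ w, (((quotCx (I ^ n)).obj K).d (i - 1) i).hom w = ((evA I K n).f i).hom ξ.1 := fun n => by
    have h := hz n
    rw [LocCohLib.homologyMap_cls] at h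
    exact (LocCohLib.cls_eq_zero_iff' _ (CochainComplex.prev ℤ i) _).1 h
  have hker : ∀ n, LinearMap.ker (((quotCx (I ^ n)).obj K).d (i - 1) i).hom =
      LocCohLib.Zmod ((quotCx (I ^ n)).obj K) (i - 1) := fun n => by
    show _ = LinearMap.ker (((quotCx (I ^ n)).obj K).d (i - 1) ((ComplexShape.up ℤ).next (i - 1))).hom
    rw [CochainComplex.next, sub_add_cancel]
  obtain ⟨w, hw, hwt⟩ := exists_compatible (R := A)
    (fun n => (((quotCx (I ^ n)).obj K).d (i - 1 - 1) (i - 1)).hom)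
    (fun n => (((quotCx (I ^ n)).obj K).d (i - 1) i).hom)
    (fun n u => congr($(((quotCx (I ^ n)).obj K).d_comp_d _ _ _).hom u))
    (fun {n m} h => ((quotTr I h).app (K.X (i - 1))).hom)
    (fun n => by
      obtain ⟨N, h, hN⟩ := hml n
      refine ⟨N, h, fun k hk v hv => ?_⟩
      obtain ⟨c', hc'⟩ := hN k hk (LocCohLib.cls _ (i - 1) ⟨v, (SetLike.ext_iff.1 (hker N) v).1 hv⟩)
      obtain ⟨⟨v', hv'⟩, rfl⟩ := LocCohLib.cls_surjective _ (i - 1) c'
      rw [LocCohLib.homologyMap_cls, LocCohLib.homologyMap_cls, eq_comm, ← sub_eq_zero, ← map_sub] at hc'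
      obtain ⟨u, hu⟩ := (LocCohLib.cls_eq_zero_iff' _ (CochainComplex.prev ℤ (i - 1)) _).1 hc'
      exact ⟨v', u, (SetLike.ext_iff.1 (hker k) v').2 hv', hu.symm⟩)
    (fun h h' x => quotTr_quotTr I h h' _ x)
    (fun n => ((quotTr I (Nat.le_succ n)).app (K.X (i - 1 - 1))).hom) (fun n => quotTrans_surjective I n _)
    (fun n u => quotTr_d I _ K _ _ u)
    (fun n => ((evA I K n).f i).hom ξ.1) hex
    (fun h w hw => (quotTr_d I h K _ _ w).symm.trans ((congrArg _ hw).trans (ξ.1.2 h)))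
  obtain ⟨η, hη⟩ := exists_adic I K (i - 1) w hwt
  refine (LocCohLib.cls_eq_zero_iff' _ (CochainComplex.prev ℤ i) _).2 ⟨η, adic_ext I K i fun n => ?_⟩
  refine (congr($((evA I K n).comm (i - 1) i).hom η)).symm.trans ?_
  exact (congrArg _ (hη n)).trans (hw n)

end lift

section bridge

variable [IsNoetherianRing A] (M : ModuleCat.{u} A) [Module.Finite A M] (J : Ideal A) [DRing.HasRgammaI J]

omit [Module.Finite A M] in
theorem exists_theta₀ {fs : List A} (hfs : Ideal.ofList fs = J) :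
    ∃ (θ₀ : DRing.toD (extCech M fs) ≅ (DRing.RgammaI J).obj ((DerivedCategory.singleFunctor (ModuleCat.{u} A) 0).obj M))
      (θ : ∀ n : ℕ, DRing.toD ((quotCx (I ^ n)).obj (extCech M fs)) ≅
        (DRing.RgammaI J).obj ((DerivedCategory.singleFunctor (ModuleCat.{u} A) 0).obj ((quotF (I ^ n)).obj M))),
      (∀ n, DerivedCategory.Q.map (ev0 I (extCech M fs) n) ≫ (θ n).hom = θ₀.hom ≫
        (DRing.RgammaI J).map ((DerivedCategory.singleFunctor (ModuleCat.{u} A) 0).map ((quotπ (I ^ n)).app M))) ∧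
      ∀ {n m : ℕ} (h : n ≤ m), DerivedCategory.Q.map
          ((NatTrans.mapHomologicalComplex (quotTr I h) (ComplexShape.up ℤ)).app (extCech M fs)) ≫ (θ n).hom =
        (θ m).hom ≫
        (DRing.RgammaI J).map ((DerivedCategory.singleFunctor (ModuleCat.{u} A) 0).map ((quotTr I h).app M)) := by
  obtain ⟨θ₀, hθ₀⟩ := exists_iso_RgammaI_extCech J M hfs
  choose θ hθ using fun n : ℕ => exists_iso_RgammaI_quot J (I ^ n) M hfs
  refine ⟨θ₀, θ, fun n => (TorsCoreflLib.comp_ε_bijective J _ _ (pt_extCech J M hfs)).1 ?_,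
    fun {n m} h => (TorsCoreflLib.comp_ε_bijective J _ _ (pt_quot_extCech J (I ^ m) M hfs)).1 ?_⟩
  · show (DerivedCategory.Q.map _ ≫ (θ n).hom) ≫ (DRing.RgammaIε J).app _ =
      (θ₀.hom ≫ _) ≫ (DRing.RgammaIε J).app _
    have hnat := (DRing.RgammaIε J).naturality
      ((DerivedCategory.singleFunctor (ModuleCat.{u} A) 0).map ((quotπ (I ^ n)).app M))
    dsimp only [Functor.id_map, Functor.id_obj] at hnat
    rw [Category.assoc, hθ, Category.assoc, hnat, reassoc_of% hθ₀]
    refine (DerivedCategory.Q.map_comp _ _).symm.trans (Eq.trans ?_ (DerivedCategory.Q.map_comp _ _))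
    refine congrArg DerivedCategory.Q.map ?_
    have h1 : ev0 I (extCech M fs) n ≫ (quotCx (I ^ n)).map (aug M fs) = aug M fs ≫ ev0 I _ n := by
      ext q : 1
      exact ((quotπ (I ^ n)).naturality ((aug M fs).f q)).symm
    show ev0 I (extCech M fs) n ≫ _ ≫ _ = _
    rw [← Category.assoc, h1, Category.assoc]
    refine congrArg (aug M fs ≫ ·) (HomologicalComplex.to_single_hom_ext ?_)
    rw [HomologicalComplex.comp_f, Iso.app_hom, HomologicalComplex.singleMapHomologicalComplex_hom_app_self]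
    have h2 := (quotπ (I ^ n)).naturality (HomologicalComplex.singleObjXSelf (ComplexShape.up ℤ) 0 M).hom
    dsimp only [Functor.id_map, Functor.id_obj] at h2
    show (quotπ (I ^ n)).app _ ≫ (quotF (I ^ n)).map _ ≫ _ = _
    rw [← Category.assoc, ← h2]
    exact (Category.assoc _ _ _).trans (HomologicalComplex.single_map_f_self _ _ _).symm
  · show (DerivedCategory.Q.map _ ≫ (θ n).hom) ≫ (DRing.RgammaIε J).app _ =
      ((θ m).hom ≫ _) ≫ (DRing.RgammaIε J).app _
    have hnat := (DRing.RgammaIε J).naturality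
      ((DerivedCategory.singleFunctor (ModuleCat.{u} A) 0).map ((quotTr I h).app M))
    dsimp only [Functor.id_map, Functor.id_obj] at hnat
    rw [Category.assoc, hθ, Category.assoc, hnat, reassoc_of% (hθ m)]
    refine (DerivedCategory.Q.map_comp _ _).symm.trans (Eq.trans ?_ (DerivedCategory.Q.map_comp _ _))
    refine congrArg DerivedCategory.Q.map ?_
    show (NatTrans.mapHomologicalComplex (quotTr I h) (ComplexShape.up ℤ)).app _ ≫ _ ≫ _ = _
    rw [← Category.assoc, ← (NatTrans.mapHomologicalComplex (quotTr I h) (ComplexShape.up ℤ)).naturality,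
      Category.assoc, natTrans_single, Category.assoc]
    rfl

/-- Cohomology with supports in `V(J)` is the limit over the reductions, given bijectivity of the completion map and stable images. -/
theorem bijective_limit_of_ml [DRing.HasDerivedCompletion I] (i : ℕ)
    (hbij : Function.Bijective ((DerivedCategory.homologyFunctor (ModuleCat.{u} A) (i : ℤ)).map
      (DRing.toDerivedCompletion I ((DRing.RgammaI J).obj ((DerivedCategory.singleFunctor (ModuleCat.{u} A) 0).obj M)))).hom)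
    (hml : ∀ j : ℕ, j + 1 = i → ∀ n : ℕ, ∃ N, ∃ h : n ≤ N, ∀ k (hk : N ≤ k)
      (c : (HF (PrimeSpectrum.zeroLocus (J : Set A)) j).obj ((quotF (I ^ N)).obj M)),
        ∃ c' : (HF (PrimeSpectrum.zeroLocus (J : Set A)) j).obj ((quotF (I ^ k)).obj M),
          ((HF _ j).map ((quotTr I (h.trans hk)).app M)).hom c' = ((HF _ j).map ((quotTr I h).app M)).hom c) :
    (∀ x : (HF (PrimeSpectrum.zeroLocus (J : Set A)) i).obj M,
      (∀ n, ((HF _ i).map ((quotπ (I ^ n)).app M)).hom x = 0) → x = 0) ∧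
    ∀ y : ∀ n : ℕ, (HF (PrimeSpectrum.zeroLocus (J : Set A)) i).obj ((quotF (I ^ n)).obj M),
      (∀ n, ((HF _ i).map ((quotTr I (Nat.le_succ n)).app M)).hom (y (n + 1)) = y n) →
        ∃ x, ∀ n, ((HF _ i).map ((quotπ (I ^ n)).app M)).hom x = y n := by
  obtain ⟨fs, hfs⟩ := exists_ofList (J.fg_of_isNoetherianRing)
  obtain ⟨θ₀, θ, hev, htr⟩ := exists_theta₀ I M J hfs
  let K := extCech M fs
  obtain ⟨e, he⟩ := ((isCompl_adic_extCech M I fs).of_iso θ₀.symm).exists_iso
    (isCompl_toDerivedCompletion (I := I) _)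
  have hη : Function.Bijective (HomologicalComplex.homologyMap (adicηCx I K) (i : ℤ)).hom := by
    have h1 : DerivedCategory.Q.map (adicηCx I K) =
        θ₀.hom ≫ DRing.toDerivedCompletion I _ ≫ e.inv := by
      rw [← he]; simp [K]
    let H := DerivedCategory.homologyFunctor (ModuleCat.{u} A) (i : ℤ)
    have h2 : Function.Bijective (H.map (DerivedCategory.Q.map (adicηCx I K))).hom := by
      rw [h1, Functor.map_comp, Functor.map_comp]
      exact ((H.mapIso e.symm).toLinearEquiv.bijective.comp hbij).comp (H.mapIso θ₀).toLinearEquiv.bijective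
    have h3 := hQIso_natural (adicηCx I K) (i : ℤ)
    rw [show HomologicalComplex.homologyMap (adicηCx I K) (i : ℤ) =
      (hQIso K (i : ℤ)).inv ≫ H.map (DerivedCategory.Q.map (adicηCx I K)) ≫ (hQIso ((adicCx I).obj K) (i : ℤ)).hom by
        rw [h3, Iso.inv_hom_id_assoc]]
    exact ((hQIso ((adicCx I).obj K) (i : ℤ)).toLinearEquiv.bijective.comp h2).comp
      (hQIso K (i : ℤ)).symm.toLinearEquiv.bijective
  have sq : ∀ (j : ℕ) {C C' : DRing.Cx A} (g : C ⟶ C') {N N' : ModuleCat.{u} A}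
      (θC : DRing.toD C ≅ (DRing.RgammaI J).obj ((DerivedCategory.singleFunctor (ModuleCat.{u} A) 0).obj N))
      (θC' : DRing.toD C' ≅ (DRing.RgammaI J).obj ((DerivedCategory.singleFunctor (ModuleCat.{u} A) 0).obj N'))
      (φ : N ⟶ N'), DerivedCategory.Q.map g ≫ θC'.hom = θC.hom ≫
        (DRing.RgammaI J).map ((DerivedCategory.singleFunctor (ModuleCat.{u} A) 0).map φ) →
      ∀ (Ψ : ∀ P : ModuleCat.{u} A,
        Dual.HD A ((DRing.RgammaI J).obj ((DerivedCategory.singleFunctor (ModuleCat.{u} A) 0).obj P)) (j : ℤ) ≃ₗ[A]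
          ((HF (PrimeSpectrum.zeroLocus (J : Set A)) j).obj P : Type u)),
      (∀ (P Q : ModuleCat.{u} A) (f : P ⟶ Q) x,
        Ψ Q (((DerivedCategory.homologyFunctor (ModuleCat.{u} A) (j : ℤ)).map
          ((DRing.RgammaI J).map ((DerivedCategory.singleFunctor (ModuleCat.{u} A) 0).map f))).hom x) =
          ((HF (PrimeSpectrum.zeroLocus (J : Set A)) j).map f).hom (Ψ P x)) →
      ∀ c, Ψ N' (((DerivedCategory.homologyFunctor (ModuleCat.{u} A) (j : ℤ)).map θC'.hom).hom
          ((hQIso C' (j : ℤ)).inv.hom ((HomologicalComplex.homologyMap g (j : ℤ)).hom c))) =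
        ((HF _ j).map φ).hom (Ψ N (((DerivedCategory.homologyFunctor (ModuleCat.{u} A) (j : ℤ)).map θC.hom).hom
          ((hQIso C (j : ℤ)).inv.hom c))) := by
    intro j C C' g N N' θC θC' φ hsq Ψ hΨ c
    rw [← hΨ]
    refine congrArg (Ψ N') ?_
    have h : HomologicalComplex.homologyMap g (j : ℤ) ≫ (hQIso C' (j : ℤ)).inv ≫
        (DerivedCategory.homologyFunctor (ModuleCat.{u} A) (j : ℤ)).map θC'.hom =
      ((hQIso C (j : ℤ)).inv ≫ (DerivedCategory.homologyFunctor (ModuleCat.{u} A) (j : ℤ)).map θC.hom) ≫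
        (DerivedCategory.homologyFunctor (ModuleCat.{u} A) (j : ℤ)).map
          ((DRing.RgammaI J).map ((DerivedCategory.singleFunctor (ModuleCat.{u} A) 0).map φ)) := by
      rw [Category.assoc, ← Functor.map_comp, ← hsq, Functor.map_comp, Iso.eq_inv_comp, ← Category.assoc,
        ← hQIso_natural]
      simp
    exact congr($(h).hom c)
  obtain ⟨Ψ, hΨ⟩ := exists_HT_RgammaI J i
  let H := DerivedCategory.homologyFunctor (ModuleCat.{u} A) (i : ℤ)
  let Φ₀ : K.homology (i : ℤ) ≃ₗ[A] ((HF (PrimeSpectrum.zeroLocus (J : Set A)) i).obj M : Type u) :=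
    ((hQIso K (i : ℤ)).symm ≪≫ H.mapIso θ₀).toLinearEquiv.trans (Ψ M)
  let Φ : ∀ n, ((quotCx (I ^ n)).obj K).homology (i : ℤ) ≃ₗ[A]
      ((HF (PrimeSpectrum.zeroLocus (J : Set A)) i).obj ((quotF (I ^ n)).obj M) : Type u) := fun n =>
    ((hQIso ((quotCx (I ^ n)).obj K) (i : ℤ)).symm ≪≫ H.mapIso (θ n)).toLinearEquiv.trans (Ψ _)
  have hΦ : ∀ n c, Φ n ((HomologicalComplex.homologyMap (ev0 I K n) (i : ℤ)).hom c) =
      ((HF _ i).map ((quotπ (I ^ n)).app M)).hom (Φ₀ c) := fun n c => sq i _ θ₀ (θ n) _ (hev n) Ψ hΨ c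
  have hΦt : ∀ n c, Φ n ((HomologicalComplex.homologyMap (quotTransCx I K n) (i : ℤ)).hom c) =
      ((HF _ i).map ((quotTr I (Nat.le_succ n)).app M)).hom (Φ (n + 1) c) := fun n c =>
    sq i _ (θ (n + 1)) (θ n) _ (htr (Nat.le_succ n)) Ψ hΨ c
  have hml' : ∀ n, ∃ N, ∃ h : n ≤ N, ∀ k (hk : N ≤ k) (c : ((quotCx (I ^ N)).obj K).homology ((i : ℤ) - 1)),
      ∃ c' : ((quotCx (I ^ k)).obj K).homology ((i : ℤ) - 1),
        (HomologicalComplex.homologyMap ((NatTrans.mapHomologicalComplex (quotTr I (h.trans hk))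
          (ComplexShape.up ℤ)).app K) ((i : ℤ) - 1)).hom c' =
        (HomologicalComplex.homologyMap ((NatTrans.mapHomologicalComplex (quotTr I h)
          (ComplexShape.up ℤ)).app K) ((i : ℤ) - 1)).hom c := fun n => by
    rcases i with _ | j
    · refine ⟨n, le_refl n, fun k hk c => ⟨0, ?_⟩⟩
      haveI : Subsingleton (((quotCx (I ^ n)).obj K).homology (((0 : ℕ) : ℤ) - 1) : Type u) :=
        ModuleCat.subsingleton_of_isZero (ShortComplex.isZero_homology_of_isZero_X₂ _
          ((quotF (I ^ n)).map_isZero (ExtCechLib.isZero_extCech_X M fs _ (Or.inl (by norm_num)))))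
      exact Subsingleton.elim _ _
    · obtain ⟨N, h, hN⟩ := hml j rfl n
      obtain ⟨Ψ', hΨ'⟩ := exists_HT_RgammaI J j
      rw [show ((j + 1 : ℕ) : ℤ) - 1 = (j : ℤ) by push_cast; ring]
      let Φ' : ∀ m, ((quotCx (I ^ m)).obj K).homology (j : ℤ) ≃ₗ[A]
          ((HF (PrimeSpectrum.zeroLocus (J : Set A)) j).obj ((quotF (I ^ m)).obj M) : Type u) := fun m =>
        ((hQIso ((quotCx (I ^ m)).obj K) (j : ℤ)).symm ≪≫
          (DerivedCategory.homologyFunctor (ModuleCat.{u} A) (j : ℤ)).mapIso (θ m)).toLinearEquiv.trans (Ψ' _)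
      refine ⟨N, h, fun k hk c => ?_⟩
      obtain ⟨c', hc'⟩ := hN k hk (Φ' N c)
      refine ⟨(Φ' k).symm c', (Φ' n).injective ?_⟩
      refine (sq j _ (θ k) (θ n) _ (htr (h.trans hk)) Ψ' hΨ' _).trans ?_
      refine Eq.trans ?_ (sq j _ (θ N) (θ n) _ (htr h) Ψ' hΨ' c).symm
      exact (congrArg _ ((Φ' k).apply_symm_apply c')).trans hc'
  have hcomp : ∀ n c, (HomologicalComplex.homologyMap (evA I K n) (i : ℤ)).hom
      ((HomologicalComplex.homologyMap (adicηCx I K) (i : ℤ)).hom c) =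
      (HomologicalComplex.homologyMap (ev0 I K n) (i : ℤ)).hom c := fun n c => by
    rw [← adicηCx_evA, HomologicalComplex.homologyMap_comp]
    rfl
  refine ⟨fun x hx => ?_, fun y hy => ?_⟩
  · obtain ⟨c, rfl⟩ := Φ₀.surjective x
    have h0 : (HomologicalComplex.homologyMap (adicηCx I K) (i : ℤ)).hom c = 0 :=
      class_eq_zero I K (i : ℤ) hml' _ fun n => by
        rw [hcomp]
        exact (Φ n).injective (by rw [hΦ, hx, map_zero])
    rw [show c = 0 from hη.1 (h0.trans (map_zero _).symm), map_zero]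
  · obtain ⟨z, hz⟩ := exists_class I K (i : ℤ) (fun n => (Φ n).symm (y n)) fun n => (Φ n).injective (by
      rw [hΦt, LinearEquiv.apply_symm_apply, LinearEquiv.apply_symm_apply, hy])
    obtain ⟨c, rfl⟩ := hη.2 z
    exact ⟨Φ₀ c, fun n => by rw [← hΦ, ← hcomp, hz, LinearEquiv.apply_symm_apply]⟩

/-- Cohomology with supports in `V(J)` is the limit over the reductions, given bijectivity of the completion map. -/
theorem bijective_limit [DRing.HasDerivedCompletion I] (i : ℕ)
    (hbij : Function.Bijective ((DerivedCategory.homologyFunctor (ModuleCat.{u} A) (i : ℤ)).map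
      (DRing.toDerivedCompletion I ((DRing.RgammaI J).obj ((DerivedCategory.singleFunctor (ModuleCat.{u} A) 0).obj M)))).hom)
    (hart : ∀ j : ℕ, j + 1 = i → ∀ n : ℕ,
      IsArtinian A ((HF (PrimeSpectrum.zeroLocus (J : Set A)) j).obj ((quotF (I ^ n)).obj M) : Type u)) :
    (∀ x : (HF (PrimeSpectrum.zeroLocus (J : Set A)) i).obj M,
      (∀ n, ((HF _ i).map ((quotπ (I ^ n)).app M)).hom x = 0) → x = 0) ∧
    ∀ y : ∀ n : ℕ, (HF (PrimeSpectrum.zeroLocus (J : Set A)) i).obj ((quotF (I ^ n)).obj M),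
      (∀ n, ((HF _ i).map ((quotTr I (Nat.le_succ n)).app M)).hom (y (n + 1)) = y n) →
        ∃ x, ∀ n, ((HF _ i).map ((quotπ (I ^ n)).app M)).hom x = y n := by
  refine bijective_limit_of_ml I M J i hbij fun j hj => ?_
  haveI := hart j hj
  exact ml_of_artinian (R := A) (H := fun n => ((HF (PrimeSpectrum.zeroLocus (J : Set A)) j).obj ((quotF (I ^ n)).obj M) : Type u))
    (fun h => ((HF _ j).map ((quotTr I h).app M)).hom) fun h h' x => by
      rw [← LinearMap.comp_apply, ← ModuleCat.hom_comp, ← Functor.map_comp]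
      refine congrArg (fun f => ((HF (PrimeSpectrum.zeroLocus (J : Set A)) j).map f).hom x) ?_
      exact ModuleCat.hom_ext (LinearMap.ext fun x => quotTr_quotTr I h h' M x)

end bridge

end Groth.Agent.HTLib
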