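import Groth.Agent.FaltingsAnnLib.Kill

/-!
# Gluing over an antichain
-/

set_option autoImplicit false
set_option linter.style.haveILetI false
set_option backward.isDefEq.respectTransparency false

universe u

noncomputable section

namespace Groth.Agent.HTLib

open FaltingsAnnLib

variable {A : Type u} [CommRing A] [IsNoetherianRing A]

/-- At a minimal point of a support an element is torsion after inverting. -/
theorem exists_smul_mem_torsionSub {M : Type u} [AddCommGroup M] [Module A M] {U : Set (PrimeSpectrum A)}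
    {q : PrimeSpectrum A} (hmin : ∀ p ∈ U, p ≤ q → p = q) {x : M} (hx : x ∈ gamma U M) :
    ∃ t ∉ q.asIdeal, t • x ∈ DRing.torsionSub q.asIdeal M := by
  classical
  let I0 : Ideal A := annElt (A := A) x
  have hfin := Ideal.finite_minimalPrimes_of_isNoetherianRing A I0
  let others := hfin.toFinset.erase q.asIdeal
  have hne : ∀ P ∈ others, ¬ P ≤ q.asIdeal := fun P hP hle => by
    obtain ⟨hPq, hPm⟩ := Finset.mem_erase.1 hP
    rw [Set.Finite.mem_toFinset] at hPm
    exact hPq (congrArg PrimeSpectrum.asIdeal (hmin ⟨P, hPm.1.1⟩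
      (zeroLocus_annElt_subset hx ((PrimeSpectrum.mem_zeroLocus _ _).2 hPm.1.2)) hle))
  choose! e he heq using fun P hP => SetLike.not_le_iff_exists.1 (hne P hP)
  let t0 := ∏ P ∈ others, e P
  have ht0 : t0 ∉ q.asIdeal := fun h => by
    obtain ⟨P, hP, h'⟩ := Ideal.IsPrime.prod_mem_iff.1 h
    exact heq P hP h'
  have hrad : q.asIdeal * Ideal.span {t0} ≤ I0.radical := by
    rw [← Ideal.sInf_minimalPrimes, le_sInf_iff]
    intro P hP
    by_cases hPq : P = q.asIdeal
    · exact hPq ▸ Ideal.mul_le_left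
    · have hP' : P ∈ others := Finset.mem_erase.2 ⟨hPq, hfin.mem_toFinset.2 hP⟩
      exact Ideal.mul_le_right.trans ((Ideal.span_singleton_le_iff_mem _).2
        (Ideal.prod_le_inf.trans (Finset.inf_le hP') (Ideal.prod_mem_prod fun P hP => he P hP)))
  obtain ⟨N, hN⟩ := Ideal.exists_pow_le_of_le_radical_of_fg hrad (IsNoetherian.noetherian _)
  refine ⟨t0 ^ N, fun h => ht0 (q.2.mem_of_pow_mem N h), N, fun c hc => ?_⟩
  rw [smul_smul]
  refine mem_annElt.1 (hN ?_)
  rw [mul_pow, Ideal.span_singleton_pow]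
  exact Ideal.mul_mem_mul hc (Ideal.mem_span_singleton_self _)

/-- Correcting an element by a boundary to move its support off an antichain. -/
theorem glue {E F : Type u} [AddCommGroup E] [Module A E] [AddCommGroup F] [Module A F] [Module.Injective A E]
    (d : E →ₗ[A] F) {U U' : Set (PrimeSpectrum A)} (hU'U : U' ⊆ U) (hU' : StableUnderSpecialization U')
    (hanti : ∀ q ∈ U \ U', ∀ p, q < p → p ∈ U') {y : F} (hy : y ∈ gamma U F)
    (hloc : ∀ q ∈ U \ U', ∀ t ∉ q.asIdeal, t • y ∈ DRing.torsionSub q.asIdeal F →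
      ∃ w ∈ DRing.torsionSub q.asIdeal E, ∃ s ∉ q.asIdeal, s • (d w - t • y) = 0) :
    ∃ W ∈ gamma U E, y - d W ∈ gamma U' F := by
  classical
  let I0 : Ideal A := annElt (A := A) y
  have hfin := Ideal.finite_minimalPrimes_of_isNoetherianRing A I0
  let S : Set (PrimeSpectrum A) := {q | q ∈ U \ U' ∧ q.asIdeal ∈ I0.minimalPrimes}
  have hS : S.Finite := (hfin.preimage fun p _ q _ h => PrimeSpectrum.ext h).subset fun q hq => hq.2
  have key : ∀ q ∈ S, ∃ w ∈ DRing.torsionSub q.asIdeal E, d w - y ∈ gamma ({q}ᶜ) F := fun q hq => by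
    let V : Set (PrimeSpectrum A) := PrimeSpectrum.zeroLocus (I0 : Set A)
    obtain ⟨t, ht, hty⟩ := exists_smul_mem_torsionSub (U := V) (q := q)
      (fun p hp hpq => le_antisymm hpq (hq.2.2 ⟨p.2, (PrimeSpectrum.mem_zeroLocus _ _).1 hp⟩ hpq))
      (x := y) (mem_gamma_of_smul I0 subset_rfl fun a ha => mem_annElt.1 ha)
    obtain ⟨w', hw', s, hs, hs0⟩ := hloc q hq.1 t ht hty
    haveI := LocCohLib.injective_torsionSub q.asIdeal E
    obtain ⟨n, w, hw⟩ := exists_div t (⟨w', hw'⟩ : DRing.torsionSub q.asIdeal E)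
    have hw₀ : t ^ (n + 1) • (w : E) = t ^ n • w' := congrArg Subtype.val hw
    refine ⟨w, w.2, fun p hp => ⟨s * t ^ (n + 1), ?_, ?_⟩⟩
    · obtain rfl : p = q := of_not_not hp
      exact p.2.mul_notMem hs fun h => ht (p.2.mem_of_pow_mem _ h)
    · rw [mul_smul, smul_sub, ← map_smul, hw₀, map_smul, show t ^ (n + 1) • y = t ^ n • t • y by
        rw [pow_succ, mul_smul], ← smul_sub, smul_comm, hs0, smul_zero]
  choose! w hwt hw using key
  let W := ∑ q ∈ hS.toFinset, w q
  have hWU : W ∈ gamma U E := Submodule.sum_mem _ fun q hq => by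
    have hq' := hS.mem_toFinset.1 hq
    refine torsionSub_le_gamma q.asIdeal (fun p hp => ?_) (hwt q hq')
    rcases eq_or_lt_of_le (show q ≤ p from (PrimeSpectrum.mem_zeroLocus _ _).1 hp) with rfl | h
    · exact hq'.1.1
    · exact hU'U (hanti q hq'.1 p h)
  refine ⟨W, hWU, fun p hp => ?_⟩
  by_cases hpU : p ∈ U
  swap
  · exact sub_mem hy (map_mem_gamma d hWU) p hpU
  suffices h : y - d W ∈ gamma ({p}ᶜ) F from h p fun h => h rfl
  have hother : ∀ q ∈ S, q ≠ p → d (w q) ∈ gamma ({p}ᶜ) F := fun q hq hne =>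
    map_mem_gamma d (mem_gamma_compl_of_torsion
      (fun h => hp (hanti q hq.1 p (lt_of_le_of_ne h hne))) (hwt q hq))
  rw [map_sum]
  by_cases hpS : p ∈ S
  · rw [← Finset.add_sum_erase _ _ (hS.mem_toFinset.2 hpS), ← sub_sub]
    refine sub_mem ?_ (Submodule.sum_mem _ fun q hq => ?_)
    · rw [← neg_sub]
      exact neg_mem (hw p hpS)
    · obtain ⟨hne, hq'⟩ := Finset.mem_erase.1 hq
      exact hother q (hS.mem_toFinset.1 hq') hne
  · refine sub_mem ?_ (Submodule.sum_mem _ fun q hq => ?_)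
    · intro r hr
      obtain rfl : r = p := of_not_not hr
      by_contra hcon
      push_neg at hcon
      have hle : I0 ≤ r.asIdeal := fun c hc => by_contra fun hc' => hcon c hc' (mem_annElt.1 hc)
      obtain ⟨P, hPm, hPr⟩ := Ideal.exists_minimalPrimes_le hle
      let q : PrimeSpectrum A := ⟨P, hPm.1.1⟩
      have hqU : q ∈ U := zeroLocus_annElt_subset hy ((PrimeSpectrum.mem_zeroLocus _ _).2 hPm.1.2)
      have hqU' : q ∉ U' := fun h => hp (hU' ((PrimeSpectrum.le_iff_specializes q r).1 hPr) h)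
      rcases eq_or_lt_of_le (show q ≤ r from hPr) with h | h
      · exact hpS ⟨⟨hpU, hp⟩, h ▸ hPm⟩
      · exact hp (hanti q ⟨hqU, hqU'⟩ r h)
    · exact hother q (hS.mem_toFinset.1 hq) fun h => hpS (h ▸ hS.mem_toFinset.1 hq)

end Groth.Agent.HTLib
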