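import Groth.Agent.HTLib.Cls
import Groth.Agent.HTLib.Glue

/-!
# Cohomology with supports and its values at the minimal points
-/

set_option autoImplicit false
set_option linter.style.haveILetI false
set_option backward.isDefEq.respectTransparency false
set_option maxRecDepth 4000

universe u

open CategoryTheory Limits
attribute [local instance] HasDerivedCategory.standard

noncomputable section

namespace Groth.Agent.HTLib

open DualCxLib (InjRep)
open FaltingsAnnLib (gamma ZT map_mem_gamma gamma_mono exists_div mem_torsionSub_iff_gamma)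

variable {A : Type u} [CommRing A]

/-- The closure of a point. -/
abbrev vq (q : PrimeSpectrum A) : Set (PrimeSpectrum A) := PrimeSpectrum.zeroLocus (q.asIdeal : Set A)

theorem vq_subset {U : Set (PrimeSpectrum A)} (hU : StableUnderSpecialization U) {q : PrimeSpectrum A} (hq : q ∈ U) :
    vq q ⊆ U := fun p hp =>
  hU ((PrimeSpectrum.le_iff_specializes q p).1 ((PrimeSpectrum.mem_zeroLocus _ _).1 hp)) hq

/-- Vanishing after inverting. -/
def LocZero (q : PrimeSpectrum A) {i : ℕ} {M : ModuleCat.{u} A} (x : (HF (vq q) i).obj M) : Prop :=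
  ∃ s ∉ q.asIdeal, s • x = 0

/-- At `q` the kernel of `ψ` in degree `i` lies in that of `φ`. -/
def KerLe (q : PrimeSpectrum A) (i : ℕ) {M N P : ModuleCat.{u} A} (φ : M ⟶ N) (ψ : M ⟶ P) : Prop :=
  ∀ z : (HF (vq q) i).obj M, LocZero q (((HF (vq q) i).map ψ).hom z) → LocZero q (((HF (vq q) i).map φ).hom z)

/-- `φ` kills the cohomology in degree `i` at `q`. -/
def LocKills (q : PrimeSpectrum A) (i : ℕ) {M N : ModuleCat.{u} A} (φ : M ⟶ N) : Prop :=
  ∀ z : (HF (vq q) i).obj M, LocZero q (((HF (vq q) i).map φ).hom z)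

theorem LocKills.kerLe {q : PrimeSpectrum A} {i : ℕ} {M N P : ModuleCat.{u} A} {φ : M ⟶ N} (h : LocKills q i φ)
    (ψ : M ⟶ P) : KerLe q i φ ψ := fun z _ => h z

theorem map_smul_zero {T : Set (PrimeSpectrum A)} {i : ℕ} {M N : ModuleCat.{u} A} (φ : M ⟶ N) (s : A)
    {x : (HF T i).obj M} (h : s • x = 0) : s • ((HF T i).map φ).hom x = 0 := by
  rw [← map_smul, h, map_zero]

theorem cls_sub {M : Type u} [AddCommGroup M] [Module A M] (S : InjRep (Dual.inD A M)) (T : Set (PrimeSpectrum A))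
    {i : ℕ} (y y' : ZT S.E T (i : ℤ)) : cls S T (y - y') = cls S T y - cls S T y' := by
  rw [sub_eq_add_neg, sub_eq_add_neg, cls_add, show -y' = (-1 : A) • y' from (neg_one_smul A y').symm, cls_smul,
    neg_one_smul]

theorem cls_eq_zero_iff' {M : Type u} [AddCommGroup M] [Module A M] (S : InjRep (Dual.inD A M))
    {T : Set (PrimeSpectrum A)} {i : ℕ} {p : ℤ} (hp : p + 1 = (i : ℤ)) (y : ZT S.E T (i : ℤ)) :
    cls S T y = 0 ↔ ∃ w ∈ gamma T (S.E.X p), S.E.d p (i : ℤ) w = y.1 := by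
  obtain rfl : p = (i : ℤ) - 1 := by omega
  exact cls_eq_zero_iff S y

theorem d_eq_zero_congr (E : DRing.Cx A) {i j k : ℤ} (h : j = k) {x : E.X i} (hx : E.d i j x = 0) :
    E.d i k x = 0 := by
  subst h; exact hx

section degreeZero

theorem ι_injective_zero {T : Set (PrimeSpectrum A)} {M : ModuleCat.{u} A} {D : Ideal A}
    (hD : PrimeSpectrum.zeroLocus (D : Set A) ⊆ T) (x : Abelian.Ext.{u} (qq D) M 0)
    (h : ι T 0 M D hD x = 0) : x = 0 := by
  obtain ⟨D', -, hle, h0⟩ := (ι_eq_zero_iff hD x).1 h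
  obtain ⟨f, rfl⟩ := (Abelian.Ext.mk₀_bijective _ _).2 x
  rw [Abelian.Ext.mk₀_comp_mk₀, Abelian.Ext.mk₀_eq_zero_iff] at h0
  haveI : Epi (qmap hle) := (ModuleCat.epi_iff_surjective _).2 fun z => by
    obtain ⟨z, rfl⟩ := Submodule.Quotient.mk_surjective _ z
    exact ⟨Submodule.Quotient.mk z, rfl⟩
  rw [show f = 0 from zero_of_epi_comp (qmap hle) h0, Abelian.Ext.mk₀_zero]

theorem incl_injective_zero {T T' : Set (PrimeSpectrum A)} (h : T' ⊆ T) (M : ModuleCat.{u} A) :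
    Function.Injective (incl h 0 M) := by
  refine (injective_iff_map_eq_zero _).2 fun z hz => ?_
  obtain ⟨D, hD, x, rfl⟩ := exists_ι z
  rw [incl_ι] at hz
  rw [ι_injective_zero _ x hz, map_zero]

end degreeZero

variable [IsNoetherianRing A] {U U' : Set (PrimeSpectrum A)} (hU : StableUnderSpecialization U) (hU'U : U' ⊆ U)
  (hU' : StableUnderSpecialization U') (hanti : ∀ q ∈ U \ U', ∀ p, q < p → p ∈ U')

include hU' hanti in
theorem eq_of_le {q : PrimeSpectrum A} (hq : q ∈ U \ U') {p : PrimeSpectrum A} (hp : p ∈ U) (hpq : p ≤ q) : p = q := by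
  by_contra hne
  by_cases hpU' : p ∈ U'
  · exact hq.2 (hU' ((PrimeSpectrum.le_iff_specializes p q).1 hpq) hpU')
  · exact hq.2 (hanti p ⟨hp, hpU'⟩ q (lt_of_le_of_ne hpq hne))

include hU hU'U hU' hanti in
/-- A class killed by `ψ` maps under `φ` into the smaller support. -/
theorem exists_incl_eq {i : ℕ} {M N P : Type u} [AddCommGroup M] [Module A M] [AddCommGroup N] [Module A N]
    [AddCommGroup P] [Module A P] (φ : M →ₗ[A] N) (ψ : M →ₗ[A] P)
    (hloc : ∀ q ∈ U \ U', KerLe q i (ModuleCat.ofHom φ) (ModuleCat.ofHom ψ))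
    (x : (HF U i).obj (ModuleCat.of A M)) (hx : ((HF U i).map (ModuleCat.ofHom ψ)).hom x = 0) :
    ∃ w, incl hU'U i _ w = ((HF U i).map (ModuleCat.ofHom φ)).hom x := by
  obtain ⟨S⟩ := exists_rep (A := A) M
  obtain ⟨S'⟩ := exists_rep (A := A) N
  obtain ⟨S''⟩ := exists_rep (A := A) P
  obtain ⟨g, hg⟩ := exists_lift S S' φ
  obtain ⟨k, hk⟩ := exists_lift S S'' ψ
  obtain ⟨y, rfl⟩ := cls_surjective S x
  rw [map_cls hk, cls_eq_zero_iff] at hx
  obtain ⟨v, hv, hdv⟩ := hx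
  haveI := S'.inj ((i : ℤ) - 1)
  obtain ⟨W, hW, hWy⟩ := glue (S'.E.d ((i : ℤ) - 1) (i : ℤ)).hom hU'U hU' hanti
    (y := (g.f (i : ℤ)).hom y.1) (apply_mem_ZT g y.2).1 fun q hq t ht hty => by
      obtain ⟨t₁, ht₁, hy₁⟩ := exists_smul_mem_torsionSub (fun p => eq_of_le hU' hanti hq) y.2.1
      obtain ⟨t₂, ht₂, hv₂⟩ := exists_smul_mem_torsionSub (fun p => eq_of_le hU' hanti hq) hv
      let c := t₁ * t₂
      have hc : c ∉ q.asIdeal := q.2.mul_notMem ht₁ ht₂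
      have hcy : c • y.1 ∈ gamma (vq q) (S.E.X (i : ℤ)) := (mem_torsionSub_iff_gamma _ _).1 (by
        rw [show c • y.1 = t₂ • t₁ • y.1 by rw [smul_smul, mul_comm]]
        exact Submodule.smul_mem _ _ hy₁)
      have hcv : c • v ∈ gamma (vq q) (S''.E.X ((i : ℤ) - 1)) := (mem_torsionSub_iff_gamma _ _).1 (by
        rw [mul_smul]
        exact Submodule.smul_mem _ _ hv₂)
      let z : ZT S.E (vq q) (i : ℤ) := ⟨c • y.1, hcy, (S.E.d (i : ℤ) ((i : ℤ) + 1)).hom.map_smul c y.1 |>.trans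
        ((congrArg (c • ·) y.2.2).trans (smul_zero c))⟩
      obtain ⟨s, hs, hs0⟩ := hloc q hq (cls S (vq q) z) ⟨1, fun h => q.2.ne_top ((Ideal.eq_top_iff_one _).2 h), by
        rw [one_smul, map_cls hk]
        refine (cls_eq_zero_iff S'' _).2 ⟨c • v, hcv, ?_⟩
        show S''.E.d _ _ (c • v) = (k.f (i : ℤ)).hom (c • y.1)
        rw [map_smul, map_smul, hdv]⟩
      rw [map_cls hg, ← cls_smul, cls_eq_zero_iff] at hs0
      obtain ⟨w₀, hw₀, hdw₀⟩ := hs0
      haveI := LocCohLib.injective_torsionSub q.asIdeal (S'.E.X ((i : ℤ) - 1))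
      obtain ⟨n, w, hw⟩ := exists_div (s * c)
        (t • (⟨w₀, (mem_torsionSub_iff_gamma _ _).2 hw₀⟩ : DRing.torsionSub q.asIdeal (S'.E.X ((i : ℤ) - 1))))
      have hw' : (s * c) ^ (n + 1) • (w : S'.E.X ((i : ℤ) - 1)) = (s * c) ^ n • t • w₀ := congrArg Subtype.val hw
      refine ⟨w, w.2, (s * c) ^ (n + 1), fun h => q.2.mul_notMem hs hc (q.2.mem_of_pow_mem _ h), ?_⟩
      have hdw : (S'.E.d ((i : ℤ) - 1) (i : ℤ)).hom w₀ = (s * c) • (g.f (i : ℤ)).hom y.1 := by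
        rw [mul_smul, ← map_smul (g.f (i : ℤ)).hom c y.1]
        exact hdw₀
      rw [smul_sub, ← map_smul, hw', map_smul, map_smul, hdw, sub_eq_zero, smul_smul, smul_smul, smul_smul]
      congr 1
      ring
  have hdW : (S'.E.d (i : ℤ) ((i : ℤ) + 1)).hom ((S'.E.d ((i : ℤ) - 1) (i : ℤ)).hom W) = 0 := by
    show (S'.E.d ((i : ℤ) - 1) (i : ℤ) ≫ S'.E.d (i : ℤ) ((i : ℤ) + 1)).hom W = 0
    rw [S'.E.d_comp_d]
    rfl
  refine ⟨cls S' U' ⟨_, hWy, LinearMap.mem_ker.2 ?_⟩, ?_⟩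
  · rw [map_sub, hdW, sub_zero]
    exact (apply_mem_ZT g y.2).2
  · rw [incl_cls, map_cls hg, ← sub_eq_zero, ← cls_sub, cls_eq_zero_iff]
    refine ⟨-W, neg_mem hW, ?_⟩
    show (S'.E.d _ _).hom (-W) = _ - _
    rw [map_neg, sub_sub_cancel_left]

include hU hU'U hU' hanti in
/-- A class of the smaller support dying in the larger one is killed by `φ`. -/
theorem map_eq_zero_of_incl_eq_zero {i : ℕ} {M N : Type u} [AddCommGroup M] [Module A M] [AddCommGroup N]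
    [Module A N] (φ : M →ₗ[A] N) (hloc : ∀ q ∈ U \ U', LocKills q i (ModuleCat.ofHom φ))
    (x : (HF U' (i + 1)).obj (ModuleCat.of A M)) (hx : incl hU'U (i + 1) _ x = 0) :
    ((HF U' (i + 1)).map (ModuleCat.ofHom φ)).hom x = 0 := by
  obtain ⟨S⟩ := exists_rep (A := A) M
  obtain ⟨S'⟩ := exists_rep (A := A) N
  obtain ⟨g, hg⟩ := exists_lift S S' φ
  obtain ⟨y, rfl⟩ := cls_surjective S x
  have hi : (i : ℤ) + 1 = ((i + 1 : ℕ) : ℤ) := by push_cast; ring
  rw [incl_cls, cls_eq_zero_iff' S hi] at hx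
  obtain ⟨v, hv, hdv⟩ := hx
  haveI := S'.inj ((i : ℤ) - 1)
  obtain ⟨W, hW, hWv⟩ := glue (S'.E.d ((i : ℤ) - 1) (i : ℤ)).hom hU'U hU' hanti
    (y := (g.f (i : ℤ)).hom v) (map_mem_gamma (g.f (i : ℤ)).hom hv) fun q hq t ht hty => by
      obtain ⟨t₁, ht₁, hv₁⟩ := exists_smul_mem_torsionSub (fun p => eq_of_le hU' hanti hq) hv
      obtain ⟨t₂, ht₂, hy₂⟩ := y.2.1 q hq.2
      let c := t₂ * t₁
      have hc : c ∉ q.asIdeal := q.2.mul_notMem ht₂ ht₁
      have hcv : c • v ∈ gamma (vq q) (S.E.X (i : ℤ)) := (mem_torsionSub_iff_gamma _ _).1 (by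
        rw [mul_smul]
        exact Submodule.smul_mem _ _ hv₁)
      have hdc : S.E.d (i : ℤ) ((i : ℤ) + 1) (c • v) = 0 := by
        refine d_eq_zero_congr S.E hi.symm ?_
        rw [map_smul, hdv, show c = t₁ * t₂ from mul_comm _ _, mul_smul]
        exact (congrArg (t₁ • ·) hy₂).trans (smul_zero t₁)
      let z : ZT S.E (vq q) (i : ℤ) := ⟨c • v, hcv, hdc⟩
      obtain ⟨s, hs, hs0⟩ := hloc q hq (cls S (vq q) z)
      rw [map_cls hg, ← cls_smul, cls_eq_zero_iff] at hs0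
      obtain ⟨w₀, hw₀, hdw₀⟩ := hs0
      haveI := LocCohLib.injective_torsionSub q.asIdeal (S'.E.X ((i : ℤ) - 1))
      obtain ⟨n, w, hw⟩ := exists_div (s * c)
        (t • (⟨w₀, (mem_torsionSub_iff_gamma _ _).2 hw₀⟩ : DRing.torsionSub q.asIdeal (S'.E.X ((i : ℤ) - 1))))
      have hw' : (s * c) ^ (n + 1) • (w : S'.E.X ((i : ℤ) - 1)) = (s * c) ^ n • t • w₀ := congrArg Subtype.val hw
      refine ⟨w, w.2, (s * c) ^ (n + 1), fun h => q.2.mul_notMem hs hc (q.2.mem_of_pow_mem _ h), ?_⟩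
      have hdw : (S'.E.d ((i : ℤ) - 1) (i : ℤ)).hom w₀ = (s * c) • (g.f (i : ℤ)).hom v := by
        rw [mul_smul, ← map_smul (g.f (i : ℤ)).hom c v]
        exact hdw₀
      rw [smul_sub, ← map_smul, hw', map_smul, map_smul, hdw, sub_eq_zero, smul_smul, smul_smul, smul_smul]
      congr 1
      ring
  rw [map_cls hg, cls_eq_zero_iff' S' hi]
  refine ⟨_, hWv, ?_⟩
  show (S'.E.d (i : ℤ) ((i + 1 : ℕ) : ℤ)).hom ((g.f (i : ℤ)).hom v - (S'.E.d ((i : ℤ) - 1) (i : ℤ)).hom W) =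
    (g.f ((i + 1 : ℕ) : ℤ)).hom y.1
  rw [map_sub, show (S'.E.d (i : ℤ) ((i + 1 : ℕ) : ℤ)).hom ((S'.E.d ((i : ℤ) - 1) (i : ℤ)).hom W) = 0 from
    congr($(S'.E.d_comp_d ((i : ℤ) - 1) (i : ℤ) ((i + 1 : ℕ) : ℤ)).hom W), sub_zero, ← hdv]
  exact congr($(g.comm (i : ℤ) ((i + 1 : ℕ) : ℤ)).hom v)

end Groth.Agent.HTLib
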