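import Groth.Agent.HTLib.FlatBC
import Groth.Agent.HTLib.Point

/-!
# The conditions at a point through a flat extension of the local ring
-/

set_option autoImplicit false
set_option linter.style.haveILetI false
set_option backward.isDefEq.respectTransparency false

universe u

open CategoryTheory TensorProduct

noncomputable section

namespace Groth.Agent.HTLib

variable {A : Type u} [CommRing A] [IsNoetherianRing A] (q : PrimeSpectrum A)

theorem exists_equiv_natural (i : ℕ) : ∃ Φ : ∀ M : ModuleCat.{u} A,
      ((localCohomology q.asIdeal i).obj M : Type u) ≃ₗ[A] ((HF (vq q) i).obj M : Type u),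
    ∀ (M N : ModuleCat.{u} A) (f : M ⟶ N) (x : (localCohomology q.asIdeal i).obj M),
      Φ N (((localCohomology q.asIdeal i).map f).hom x) = ((HF (vq q) i).map f).hom (Φ M x) := by
  choose Φ hb hΦ using fun M : ModuleCat.{u} A => exists_equiv_H q.asIdeal i M
  refine ⟨fun M => LinearEquiv.ofBijective (Φ M) (hb M), fun M N f x => ?_⟩
  obtain ⟨n, ξ, rfl⟩ := LocCohLib.exists_ι x
  show Φ N _ = ((HF (vq q) i).map f).hom (Φ M _)
  rw [LocCohLib.map_ι, hΦ, hΦ, map_ι]

section

variable (C : Type u) [CommRing C] [IsNoetherianRing C] [Algebra A C] [Module.Flat A C] (B : Type u) [CommRing B]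
  [Algebra A B] [IsLocalization.AtPrime B q.asIdeal] [Algebra B C] [IsScalarTower A B C] [Module.FaithfullyFlat B C]

include B in
/-- The condition at `q` follows from the one over the extension. -/
theorem kerLe_of_flat {i : ℕ} {M N P : ModuleCat.{u} A} (φ : M ⟶ N) (ψ : M ⟶ P)
    (h : ∀ y : (localCohomology (mapI C q.asIdeal) i).obj ((bcF C).obj M),
      ((localCohomology (mapI C q.asIdeal) i).map ((bcF C).map ψ)).hom y = 0 →
        ((localCohomology (mapI C q.asIdeal) i).map ((bcF C).map φ)).hom y = 0) : KerLe q i φ ψ := by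
  obtain ⟨Φ, hΦ⟩ := exists_equiv_natural q i
  intro z ⟨s, hs, hs0⟩
  obtain ⟨x, rfl⟩ := (Φ M).surjective z
  rw [← hΦ, ← map_smul, LinearEquiv.map_eq_zero_iff] at hs0
  have hu : IsUnit (algebraMap A C s) := by
    rw [IsScalarTower.algebraMap_apply A B C]
    exact (IsLocalization.map_units B (⟨s, hs⟩ : q.asIdeal.primeCompl)).map _
  have h1 : ((localCohomology (mapI C q.asIdeal) i).map ((bcF C).map ψ)).hom (β C q.asIdeal M i x) = 0 := by
    have h2 := congrArg (β C q.asIdeal P i) hs0
    rw [β_smul, map_zero] at h2
    rw [← β_map]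
    exact hu.smul_eq_zero.1 h2
  obtain ⟨t, ht, ht0⟩ := exists_smul_eq_zero_of_β_eq_zero C (I := q.asIdeal) q.asIdeal.primeCompl B
    (x := ((localCohomology q.asIdeal i).map φ).hom x) ((β_map C φ x).trans (h _ h1))
  exact ⟨t, ht, by rw [← hΦ, ← map_smul, ht0, map_zero]⟩

include B in
/-- Vanishing at `q` follows from the one over the extension. -/
theorem locKills_of_flat {i : ℕ} {M N : ModuleCat.{u} A} (φ : M ⟶ N)
    (h : ∀ y : (localCohomology (mapI C q.asIdeal) i).obj ((bcF C).obj M),
      ((localCohomology (mapI C q.asIdeal) i).map ((bcF C).map φ)).hom y = 0) : LocKills q i φ := fun z =>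
  kerLe_of_flat q C B φ (0 : M ⟶ M) (fun y _ => h y) z
    ⟨1, fun hq => q.2.ne_top ((Ideal.eq_top_iff_one _).2 hq), by rw [map_zero', smul_zero]⟩

end

/-- The base change to the local ring is localisation. -/
theorem exists_equiv_localized {i : ℕ} : ∃ e : ∀ (M : Type u) [AddCommGroup M] [Module A M],
    ((localCohomology (mapI (Localization.AtPrime q.asIdeal) q.asIdeal) i).obj
      ((bcF (Localization.AtPrime q.asIdeal)).obj (ModuleCat.of A M)) : Type u) ≃+
    ((localCohomology (IsLocalRing.maximalIdeal (Localization.AtPrime q.asIdeal)) i).obj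
      (ModuleCat.of (Localization.AtPrime q.asIdeal) (LocalizedModule q.asIdeal.primeCompl M)) : Type u),
    ∀ (M N : Type u) [AddCommGroup M] [Module A M] [AddCommGroup N] [Module A N] (f : M →ₗ[A] N) y,
      e N (((localCohomology (mapI (Localization.AtPrime q.asIdeal) q.asIdeal) i).map
          ((bcF (Localization.AtPrime q.asIdeal)).map (ModuleCat.ofHom f))).hom y) =
        ((localCohomology (IsLocalRing.maximalIdeal (Localization.AtPrime q.asIdeal)) i).map
          (ModuleCat.ofHom (LocalizedModule.map q.asIdeal.primeCompl f))).hom (e M y) := by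
  let B := Localization.AtPrime q.asIdeal
  have hI : mapI B q.asIdeal = IsLocalRing.maximalIdeal B := Localization.AtPrime.map_eq_maximalIdeal
  let u : ∀ (M : Type u) [AddCommGroup M] [Module A M],
      (bcF B).obj (ModuleCat.of A M) ≅ ModuleCat.of B (LocalizedModule q.asIdeal.primeCompl M) := fun M _ _ =>
    (LocalizedModule.equivTensorProduct q.asIdeal.primeCompl M).symm.toModuleIso
  have hu : ∀ (M N : Type u) [AddCommGroup M] [Module A M] [AddCommGroup N] [Module A N] (f : M →ₗ[A] N),
      (bcF B).map (ModuleCat.ofHom f) ≫ (u N).hom =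
        (u M).hom ≫ ModuleCat.ofHom (LocalizedModule.map q.asIdeal.primeCompl f) := by
    intro M N _ _ _ _ f
    refine ModuleCat.hom_ext (LinearMap.ext fun (w : B ⊗[A] M) => ?_)
    show (LocalizedModule.equivTensorProduct q.asIdeal.primeCompl N).symm (f.baseChange B w) =
      LocalizedModule.map q.asIdeal.primeCompl f ((LocalizedModule.equivTensorProduct q.asIdeal.primeCompl M).symm w)
    induction w using TensorProduct.induction_on with
    | zero => simp
    | tmul b m =>
      rw [LinearMap.baseChange_tmul, show b ⊗ₜ[A] f m = b • ((1 : B) ⊗ₜ[A] f m) by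
          rw [TensorProduct.smul_tmul', smul_eq_mul, mul_one],
        show b ⊗ₜ[A] m = b • ((1 : B) ⊗ₜ[A] m) by rw [TensorProduct.smul_tmul', smul_eq_mul, mul_one],
        map_smul, map_smul, map_smul, LocalizedModule.equivTensorProduct_symm_apply_tmul_one,
        LocalizedModule.equivTensorProduct_symm_apply_tmul_one, LocalizedModule.map_mk]
    | add x y hx hy => rw [map_add, map_add, map_add, map_add, hx, hy]
  have key : ∀ (J : Ideal B), J = IsLocalRing.maximalIdeal B → ∃ e : ∀ (M : Type u) [AddCommGroup M] [Module A M],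
      ((localCohomology J i).obj ((bcF B).obj (ModuleCat.of A M)) : Type u) ≃+
      ((localCohomology (IsLocalRing.maximalIdeal B) i).obj
        (ModuleCat.of B (LocalizedModule q.asIdeal.primeCompl M)) : Type u),
      ∀ (M N : Type u) [AddCommGroup M] [Module A M] [AddCommGroup N] [Module A N] (f : M →ₗ[A] N) y,
        e N (((localCohomology J i).map ((bcF B).map (ModuleCat.ofHom f))).hom y) =
          ((localCohomology (IsLocalRing.maximalIdeal B) i).map
            (ModuleCat.ofHom (LocalizedModule.map q.asIdeal.primeCompl f))).hom (e M y) := by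
    rintro J rfl
    refine ⟨fun M _ _ => ((localCohomology _ i).mapIso (u M)).toLinearEquiv.toAddEquiv, fun M N _ _ _ _ f y => ?_⟩
    show ((localCohomology _ i).map ((bcF B).map (ModuleCat.ofHom f)) ≫ (localCohomology _ i).map (u N).hom).hom y =
      ((localCohomology _ i).map (u M).hom ≫ (localCohomology _ i).map
        (ModuleCat.ofHom (LocalizedModule.map q.asIdeal.primeCompl f))).hom y
    rw [← Functor.map_comp, ← Functor.map_comp, hu]
  exact key _ hI

end Groth.Agent.HTLib
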