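import Groth.Agent.HTLib.Local
import Groth.Agent.HTLib.LocTrans
import Groth.Agent.BootLib.CompletionLoc
import Groth.Agent.S8796
import Groth.Agent.S0379
import Groth.Agent.S1779

/-!
# The kernels on the powers at a point of the support
-/

set_option autoImplicit false
set_option linter.style.haveILetI false
set_option backward.isDefEq.respectTransparency false
set_option maxRecDepth 4000

universe u

open CategoryTheory IsLocalRing TensorProduct
attribute [local instance] HasDerivedCategory.standard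

noncomputable section

namespace Groth.Agent.HTLib

/-- The kernel condition transported to the local cohomology module. -/
theorem ker_le_localCohomology {C : Type u} [CommRing C] [IsNoetherianRing C] [IsLocalRing C] {Q : Ideal C}
    (hQ : Q = maximalIdeal C) {i : ℕ} {M N P M' N' P' : ModuleCat.{u} C} (α : M ≅ M') (β : N ≅ N') (γ : P ≅ P')
    {φ : M ⟶ N} {ψ : M ⟶ P} {φ' : M' ⟶ N'} {ψ' : M' ⟶ P'} (hφ : φ ≫ β.hom = α.hom ≫ φ')
    (hψ : ψ ≫ γ.hom = α.hom ≫ ψ')
    (h : ∀ x : (HF (vc C) i).obj M', ((HF (vc C) i).map ψ').hom x = 0 → ((HF (vc C) i).map φ').hom x = 0)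
    (y : (localCohomology Q i).obj M) (hy : ((localCohomology Q i).map ψ).hom y = 0) :
    ((localCohomology Q i).map φ).hom y = 0 := by
  subst hQ
  change (localCohomology (closedPoint C).asIdeal i).obj M at y
  change ((localCohomology (closedPoint C).asIdeal i).map ψ).hom y = 0 at hy
  show ((localCohomology (closedPoint C).asIdeal i).map φ).hom y = 0
  obtain ⟨Φ, hΦ⟩ := exists_equiv_natural (closedPoint C) i
  have key : ∀ {X X' : ModuleCat.{u} C} (f : M ⟶ X) (f' : M' ⟶ X') (e : X ≅ X'), f ≫ e.hom = α.hom ≫ f' →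
      ((HF (vc C) i).map f').hom (((HF (vc C) i).map α.hom).hom (Φ M y)) =
        ((HF (vc C) i).map e.hom).hom (Φ X (((localCohomology (closedPoint C).asIdeal i).map f).hom y)) := by
    intro X X' f f' e hf
    rw [hΦ]
    refine (congr($(((HF (vc C) i).map_comp α.hom f').symm).hom (Φ M y))).trans ?_
    rw [← hf, Functor.map_comp]
    rfl
  have h1 : ((HF (vc C) i).map ψ').hom (((HF (vc C) i).map α.hom).hom (Φ M y)) = 0 := by
    rw [key ψ ψ' γ hψ, hy, map_zero, map_zero]
  have h2 := h _ h1
  rw [key φ φ' β hφ] at h2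
  exact (LinearEquiv.map_eq_zero_iff _).1
    (((HF (vc C) i).mapIso β).toLinearEquiv.injective (h2.trans (map_zero _).symm))

variable {A : Type u} [CommRing A] [IsNoetherianRing A]

omit [IsNoetherianRing A] in
/-- The powers after a flat base change. -/
theorem exists_pw_equiv (C : Type u) [CommRing C] [Algebra A C] [Module.Flat A C] (I : Ideal A) (M : Type u)
    [AddCommGroup M] [Module A M] (k : ℕ) :
    ∃ ξ : C ⊗[A] ↥(pw I M k) ≃ₗ[C] ↥(pw (I.map (algebraMap A C)) (C ⊗[A] M) k),
      ∀ z, (ξ z : C ⊗[A] M) = (pw I M k).subtype.baseChange C z := by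
  let f := (pw I M k).subtype.baseChange C
  have hf : Function.Injective f :=
    Module.Flat.lTensor_preserves_injective_linearMap (M := C) _ (pw I M k).subtype_injective
  have hr : LinearMap.range f = pw (I.map (algebraMap A C)) (C ⊗[A] M) k := by
    refine le_antisymm ?_ ?_
    · rintro _ ⟨z, rfl⟩
      induction z using TensorProduct.induction_on with
      | zero => rw [map_zero]; exact zero_mem _
      | add a b ha hb => rw [map_add]; exact add_mem ha hb
      | tmul c x =>
        obtain ⟨x, hx⟩ := x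
        show c ⊗ₜ x ∈ _
        refine Submodule.smul_induction_on hx (fun a ha y _ => ?_) fun a b ha hb => ?_
        · rw [TensorProduct.tmul_smul, ← algebraMap_smul C a (c ⊗ₜ[A] y)]
          refine Submodule.smul_mem_smul ?_ trivial
          rw [← Ideal.map_pow]
          exact Ideal.mem_map_of_mem _ ha
        · rw [TensorProduct.tmul_add]; exact add_mem ha hb
    · refine Submodule.smul_le.2 fun r hr n hn => ?_
      clear hn
      rw [← Ideal.map_pow] at hr
      refine Submodule.span_induction (fun x hx => ?_) ⟨0, by rw [map_zero, zero_smul]⟩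
        (fun a b _ _ ha hb => by rw [add_smul]; exact add_mem ha hb)
        (fun a b _ hb => by rw [smul_assoc]; exact Submodule.smul_mem _ a hb) hr
      obtain ⟨a, ha, rfl⟩ := hx
      induction n using TensorProduct.induction_on with
      | zero => rw [smul_zero]; exact zero_mem _
      | add a b ha hb => rw [smul_add]; exact add_mem ha hb
      | tmul c y =>
        exact ⟨c ⊗ₜ ⟨a • y, Submodule.smul_mem_smul ha trivial⟩, by
          show c ⊗ₜ (a • y) = _
          rw [TensorProduct.tmul_smul, algebraMap_smul]⟩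
  exact ⟨(LinearEquiv.ofInjective f hf).trans (LinearEquiv.ofEq _ _ hr), fun z => rfl⟩

/-- The criteria over a faithfully flat extension of the local ring give those at the point. -/
theorem exists_systems_of_flat (q : PrimeSpectrum A) (I : Ideal A) (M : Type u) [AddCommGroup M] [Module A M]
    (B : Type u) [CommRing B] [Algebra A B] [IsLocalization.AtPrime B q.asIdeal] (C : Type u) [CommRing C]
    [IsNoetherianRing C] [IsLocalRing C] [Algebra A C] [Module.Flat A C] [Algebra B C] [IsScalarTower A B C]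
    [Module.FaithfullyFlat B C] (hmC : q.asIdeal.map (algebraMap A C) = maximalIdeal C) (s : ℕ)
    (h1 : ∀ i ≤ s, ∀ m, ∃ K, ∀ (k : ℕ) (h : m ≤ k), K ≤ k →
      ∀ x : (HF (vc C) i).obj (ModuleCat.of C (pw (I.map (algebraMap A C)) (C ⊗[A] M) k)),
        ((HF (vc C) i).map (ModuleCat.ofHom (pwMap (I.map (algebraMap A C)) (C ⊗[A] M) h))).hom x = 0)
    (h2 : ∀ i ≤ s + 1, ∀ m, ∃ K, ∀ (k : ℕ) (h : m ≤ k), K ≤ k →
      ∀ x : (HF (vc C) i).obj (ModuleCat.of C (pw (I.map (algebraMap A C)) (C ⊗[A] M) k)),
        ((HF (vc C) i).map (ModuleCat.ofHom (pw (I.map (algebraMap A C)) (C ⊗[A] M) k).subtype)).hom x = 0 →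
        ((HF (vc C) i).map (ModuleCat.ofHom (pwMap (I.map (algebraMap A C)) (C ⊗[A] M) h))).hom x = 0) :
    (∀ i ≤ s, ∀ m, ∃ (k : ℕ) (h : m ≤ k), LocKills q i (ModuleCat.ofHom (pwMap I M h))) ∧
    ∀ i ≤ s + 1, ∀ m, ∃ (k : ℕ) (h : m ≤ k),
      KerLe q i (ModuleCat.ofHom (pwMap I M h)) (ModuleCat.ofHom (pw I M k).subtype) := by
  choose ξ hξ using exists_pw_equiv C I M
  let e : ∀ k, (bcF C).obj (ModuleCat.of A (pw I M k)) ≅
      ModuleCat.of C (pw (I.map (algebraMap A C)) (C ⊗[A] M) k) := fun k => (ξ k).toModuleIso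
  have hsq : ∀ {m k : ℕ} (h : m ≤ k), (bcF C).map (ModuleCat.ofHom (pwMap I M h)) ≫ (e m).hom =
      (e k).hom ≫ ModuleCat.ofHom (pwMap (I.map (algebraMap A C)) (C ⊗[A] M) h) := fun {m k} h =>
    ModuleCat.hom_ext (LinearMap.ext fun z => Subtype.ext (by
      show (ξ m ((pwMap I M h).baseChange C z) : C ⊗[A] M) = (ξ k z : C ⊗[A] M)
      rw [hξ, hξ, ← LinearMap.comp_apply, ← LinearMap.baseChange_comp]
      rfl))
  have hsub : ∀ k, (bcF C).map (ModuleCat.ofHom (pw I M k).subtype) ≫ (Iso.refl (ModuleCat.of C (C ⊗[A] M))).hom =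
      (e k).hom ≫ ModuleCat.ofHom (pw (I.map (algebraMap A C)) (C ⊗[A] M) k).subtype := fun k =>
    ModuleCat.hom_ext (LinearMap.ext fun z => (hξ k z).symm)
  refine ⟨fun i hi m => ?_, fun i hi m => ?_⟩
  · obtain ⟨K, hK⟩ := h1 i hi m
    refine ⟨max K m, le_max_right _ _, locKills_of_flat q C B _ fun y => ?_⟩
    exact ker_le_localCohomology hmC (e (max K m)) (e m)
      (e (max K m)) (ψ := 0) (ψ' := 0) (hsq (le_max_right K m)) (by simp)
      (fun x _ => hK _ _ (le_max_left K m) x) y (by simp)
  · obtain ⟨K, hK⟩ := h2 i hi m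
    refine ⟨max K m, le_max_right _ _, kerLe_of_flat q C B _ _ fun y hy => ?_⟩
    exact ker_le_localCohomology hmC (e (max K m)) (e m) (Iso.refl _)
      (hsq (le_max_right K m)) (hsub (max K m)) (hK _ _ (le_max_left K m)) y hy

/-- At a point of `T` the systems of the powers have stable kernels. -/
theorem exists_at_point (hdc : ∃ ω : Dual.D A, Dual.IsDualizing A ω) (I : Ideal A) (d : ℕ) (hcd : LocCoh.CdLE A I d) (M : Type u) [AddCommGroup M] [Module A M] [Module.Finite A M] (T : Set (PrimeSpectrum A)) (hTI : T ⊆ PrimeSpectrum.zeroLocus (I : Set A)) (hT : StableUnderSpecialization T) (s : ℕ) (h4 : ∀ p r q : PrimeSpectrum A, p ≤ r → r ≤ q → ¬ I ≤ p.asIdeal → I ≤ r.asIdeal → r ∉ T → q ∈ T → (s : ℕ∞) ≤ LocCoh.depth (Localization.AtPrime p.asIdeal) (LocalizedModule p.asIdeal.primeCompl M) ∨ ((d + s : ℕ) : WithBot ℕ∞) < (LocCoh.depth (Localization.AtPrime p.asIdeal) (LocalizedModule p.asIdeal.primeCompl M) : WithBot ℕ∞) + Formal2.dimBetween A p.asIdeal q.asIdeal) (h6 : ∀ q : PrimeSpectrum A, q ∈ T →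 ∀ p' : PrimeSpectrum (AdicCompletion (I.map (algebraMap A (Localization.AtPrime q.asIdeal))) (Localization.AtPrime q.asIdeal)), ¬ (I.map (algebraMap A (AdicCompletion (I.map (algebraMap A (Localization.AtPrime q.asIdeal))) (Localization.AtPrime q.asIdeal)))) ≤ p'.asIdeal → (∀ q' : PrimeSpectrum (AdicCompletion (I.map (algebraMap A (Localization.AtPrime q.asIdeal))) (Localization.AtPrime q.asIdeal)), p' ≤ q' → (I.map (algebraMap A (AdicCompletion (I.map (algebraMap A (Localization.AtPrime q.asIdeal))) (Localization.AtPrime q.asIdeal)))) ≤ q'.asIdeal → q'.asIdeal.IsMaximal) → (s : ℕ∞) < LocCoh.depth (Localization.AtPrime p'.asIdeal) (LocalizedModule p'.asIdeal.primeCompl (AdicCompletion (I.map (algebraMap A (Localization.AtPrime q.asIdeal))) (LocalizedModule q.asIdeal.primeCompl M))))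
    (q : PrimeSpectrum A) (hq : q ∈ T) :
    (∀ i ≤ s, ∀ m, ∃ (k : ℕ) (h : m ≤ k), LocKills q i (ModuleCat.ofHom (pwMap I M h))) ∧
    ∀ i ≤ s + 1, ∀ m, ∃ (k : ℕ) (h : m ≤ k),
      KerLe q i (ModuleCat.ofHom (pwMap I M h)) (ModuleCat.ofHom (pw I M k).subtype) := by
  obtain ⟨ω, hω⟩ := hdc
  let B := Localization.AtPrime q.asIdeal
  let J := I.map (algebraMap A B)
  let MB := LocalizedModule q.asIdeal.primeCompl M
  haveI : IsNoetherianRing B := IsLocalization.isNoetherianRing q.asIdeal.primeCompl _ inferInstance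
  have hIq : I ≤ q.asIdeal := hTI hq
  have hJ : J ≠ ⊤ := fun h => (maximalIdeal.isMaximal B).ne_top (top_le_iff.1 (h.ge.trans (by
    rw [Ideal.map_le_iff_le_comap]
    exact hIq.trans_eq (IsLocalization.AtPrime.under_maximalIdeal B q.asIdeal).symm)))
  let C := AdicCompletion J B
  haveI := RegLocal.isLocalRing_completion B J hJ
  haveI : Module.FaithfullyFlat B C := RegLocal.faithfullyFlat_completion B J hJ
  haveI : IsNoetherianRing C := RegLocal.isNoetherianRing_adicCompletion J J.fg_of_isNoetherianRing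
  haveI : Module.Flat A B := IsLocalization.flat _ q.asIdeal.primeCompl
  haveI : Module.Flat A C := Module.Flat.trans A B C
  haveI : DRing.HasLBaseChange (algebraMap A B) := DRingLib.hasLBaseChange _
  haveI : DRing.HasLBaseChange (algebraMap B C) := DRingLib.hasLBaseChange _
  have hB := DualCxLib.isDualizing_lbc q.asIdeal.primeCompl B hω
  have hC : Dual.IsDualizing C ((DualCxLib.bcD B C).obj _) := S1779.result B J _ hB
  let I' := I.map (algebraMap A C)
  have hI' : I' = J.map (algebraMap B C) := by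
    show I.map (algebraMap A C) = _
    rw [Ideal.map_map, ← IsScalarTower.algebraMap_eq]
  haveI : IsAdicComplete I' C := by
    rw [hI']
    exact AdicCompletion.isAdicComplete_self J J.fg_of_isNoetherianRing
  have hmC : q.asIdeal.map (algebraMap A C) = maximalIdeal C := by
    rw [RegLocal.maximalIdeal_completion B J hJ, ← Localization.AtPrime.map_eq_maximalIdeal, Ideal.map_map,
      ← IsScalarTower.algebraMap_eq]
  have hcdC : LocCoh.CdLE C I' d := (S0379.result A C I d).1 hcd
  let N := C ⊗[A] M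
  have hdep : ∀ P : PrimeSpectrum C,
      LocCoh.depth (Localization.AtPrime P.asIdeal) (LocalizedModule P.asIdeal.primeCompl (AdicCompletion J MB)) =
        LocCoh.depth (Localization.AtPrime P.asIdeal) (LocalizedModule P.asIdeal.primeCompl N) := by
    intro P
    let pB : PrimeSpectrum B := PrimeSpectrum.comap (algebraMap B C) P
    let p : PrimeSpectrum A := PrimeSpectrum.comap (algebraMap A C) P
    haveI : P.asIdeal.LiesOver pB.asIdeal := ⟨rfl⟩
    haveI : P.asIdeal.LiesOver p.asIdeal := ⟨rfl⟩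
    obtain ⟨g, hg⟩ := BootLib.isBaseChange_completion J MB
    rw [BootLib.depth_localized_baseChange hg pB.asIdeal P.asIdeal,
      ← BootLib.depth_localized_baseChange (TensorProduct.isBaseChange B MB C) pB.asIdeal P.asIdeal,
      BootLib.depth_localized_baseChange ((IsLocalizedModule.isBaseChange q.asIdeal.primeCompl B
        (LocalizedModule.mkLinearMap q.asIdeal.primeCompl M)).comp (TensorProduct.isBaseChange B MB C))
        p.asIdeal P.asIdeal,
      BootLib.depth_localized_baseChange (TensorProduct.isBaseChange A M C) p.asIdeal P.asIdeal]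
  have h6' : ∀ P : PrimeSpectrum C, ¬ I' ≤ P.asIdeal →
      (∀ r : PrimeSpectrum C, P ≤ r → I' ≤ r.asIdeal → r.asIdeal = maximalIdeal C) →
      (s : ℕ∞) < LocCoh.depth (Localization.AtPrime P.asIdeal) (LocalizedModule P.asIdeal.primeCompl N) :=
    fun P hP hr => hdep P ▸ h6 q hq P hP fun r h1 h2 => by rw [hr r h1 h2]; exact maximalIdeal.isMaximal C
  have h4' : ∀ P : PrimeSpectrum C, ¬ I' ≤ P.asIdeal →
      (∃ r : PrimeSpectrum C, P ≤ r ∧ I' ≤ r.asIdeal ∧ r.asIdeal ≠ maximalIdeal C) →
      (s : ℕ∞) ≤ LocCoh.depth (Localization.AtPrime P.asIdeal) (LocalizedModule P.asIdeal.primeCompl N) ∨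
      (((d + s : ℕ) : ℕ∞) : WithBot ℕ∞) < ((LocCoh.depth (Localization.AtPrime P.asIdeal)
        (LocalizedModule P.asIdeal.primeCompl N) : ℕ∞) : WithBot ℕ∞) + ringKrullDim (C ⧸ P.asIdeal) := by
    intro P hP _
    let pB : PrimeSpectrum B := PrimeSpectrum.comap (algebraMap B C) P
    let p : PrimeSpectrum A := PrimeSpectrum.comap (algebraMap A B) pB
    haveI : pB.asIdeal.LiesOver p.asIdeal := ⟨rfl⟩
    haveI : P.asIdeal.LiesOver pB.asIdeal := ⟨rfl⟩
    have hmap : p.asIdeal.map (algebraMap A B) = pB.asIdeal := IsLocalization.map_under q.asIdeal.primeCompl B pB.asIdeal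
    have hpq : p ≤ q := (Ideal.comap_mono (le_maximalIdeal pB.2.ne_top)).trans_eq
      (IsLocalization.AtPrime.under_maximalIdeal B q.asIdeal)
    have hpI : ¬ I ≤ p.asIdeal := fun h => hP (by
      rw [hI', Ideal.map_le_iff_le_comap, Ideal.map_le_iff_le_comap]
      exact h)
    have hMp : LocCoh.depth (Localization.AtPrime pB.asIdeal) (LocalizedModule pB.asIdeal.primeCompl MB) =
        LocCoh.depth (Localization.AtPrime p.asIdeal) (LocalizedModule p.asIdeal.primeCompl M) :=
      BootLib.depth_localized_baseChange_of_minimal (IsLocalizedModule.isBaseChange q.asIdeal.primeCompl B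
        (LocalizedModule.mkLinearMap q.asIdeal.primeCompl M)) p.asIdeal pB.asIdeal (by
          rw [hmap, Ideal.minimalPrimes_eq_subsingleton_self]; rfl)
    have hge : LocCoh.depth (Localization.AtPrime pB.asIdeal) (LocalizedModule pB.asIdeal.primeCompl MB) ≤
        LocCoh.depth (Localization.AtPrime P.asIdeal) (LocalizedModule P.asIdeal.primeCompl (AdicCompletion J MB)) := by
      obtain ⟨g, hg⟩ := BootLib.isBaseChange_completion J MB
      exact le_self_add.trans_eq (BootLib.depth_localized_baseChange hg pB.asIdeal P.asIdeal).symm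
    rw [← hdep]
    by_cases hr : ∀ r : PrimeSpectrum A, p ≤ r → r ≤ q → I ≤ r.asIdeal → r ∈ T
    · refine Or.inl ((le_of_lt ?_).trans hge)
      rw [hMp]
      exact BootLib.depth_gt_of_completion I M T s h6 p q hpq hpI hIq hr
    push Not at hr
    obtain ⟨r, h1, h2, h3, h5⟩ := hr
    rcases h4 p r q h1 h2 hpI h3 h5 hq with h | h
    · exact Or.inl ((h.trans_eq hMp.symm).trans hge)
    have hPc : P ≤ closedPoint C := le_maximalIdeal P.2.ne_top
    have hcomap : (closedPoint C).asIdeal.comap (algebraMap B C) = maximalIdeal B :=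
      ((maximalIdeal.isMaximal B).eq_of_le (Ideal.comap_ne_top _ (maximalIdeal.isMaximal C).ne_top)
        (Ideal.map_le_iff_le_comap.1 (RegLocal.maximalIdeal_completion B J hJ).ge)).symm
    have hin := BootLib.conditions_completion J d MB hB s P (closedPoint C) hPc (by
      rw [← hI']
      show I' ≤ maximalIdeal C
      rw [← hmC]
      exact Ideal.map_mono hIq)
    rw [show Formal2.dimBetween C P.asIdeal (closedPoint C).asIdeal = ringKrullDim (C ⧸ P.asIdeal) by
      rw [BootLib.dimBetween_eq hC hPc, ← DualCxLib.ringKrullDim_quotient_eq hC P]] at hin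
    refine hin (Or.inr ?_)
    have hpc : pB ≤ PrimeSpectrum.comap (algebraMap B C) (closedPoint C) := Ideal.comap_mono hPc
    have hd : Formal2.dimBetween B pB.asIdeal (PrimeSpectrum.comap (algebraMap B C) (closedPoint C)).asIdeal =
        ringKrullDim (B ⧸ pB.asIdeal) := by
      rw [BootLib.dimBetween_eq hB hpc, show PrimeSpectrum.comap (algebraMap B C) (closedPoint C) = closedPoint B from
        PrimeSpectrum.ext hcomap, ← DualCxLib.ringKrullDim_quotient_eq hB pB]
    show _ < ((LocCoh.depth (Localization.AtPrime pB.asIdeal) (LocalizedModule pB.asIdeal.primeCompl MB) : ℕ∞) :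
      WithBot ℕ∞) + Formal2.dimBetween B pB.asIdeal (PrimeSpectrum.comap (algebraMap B C) (closedPoint C)).asIdeal
    rw [hd, hMp, ← hmap]
    exact h
  exact exists_systems_of_flat q I M B C hmC s (exists_kills I' N ⟨_, hC⟩ d hcdC s h4' h6')
    (exists_ker_le I' N ⟨_, hC⟩ d hcdC s h4' h6')

end Groth.Agent.HTLib
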