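import Groth.Agent.HTLib.Colim
import Groth.Agent.PuncSecLib.Kill
import Groth.Agent.LocCohLib.FiniteTest

/-!
# Cohomology on a punctured open against local cohomology
-/

set_option autoImplicit false
set_option linter.style.haveILetI false
set_option backward.isDefEq.respectTransparency false
set_option maxRecDepth 4000

universe u

open CategoryTheory CategoryTheory.Limits AlgebraicGeometry TopologicalSpace Opposite

noncomputable section

namespace Groth.Agent.HTLib

namespace Bridge

open PuncSecLib (mseq exists_embedding η)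

variable {A : Type u} [CommRing A] [IsNoetherianRing A] (J : Ideal A) {M : Type u} [AddCommGroup M] [Module A M]

/-- The open complement. -/
abbrev UJ : (Spec (CommRingCat.of A)).Opens := LocCoh.puncturedOpen A J

/-- Local cohomology in `J`. -/
abbrev LC (i : ℕ) (M : Type u) [AddCommGroup M] [Module A M] : ModuleCat.{u} A :=
  (localCohomology J i).obj (ModuleCat.of A M)

/-- Local cohomology of a map. -/
abbrev lm {N : Type u} [AddCommGroup N] [Module A N] (i : ℕ) (f : M →ₗ[A] N) (z : LC J i M) : LC J i N :=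
  ((localCohomology J i).map (ModuleCat.ofHom f)).hom z

variable (M) in
/-- The chosen injective module around `M`. -/
def emE : ModuleCat.{u} A := (exists_embedding (A := A) M).choose

variable (M) in
/-- The chosen embedding. -/
def emι : M →ₗ[A] emE (A := A) M := (exists_embedding (A := A) M).choose_spec.choose

instance injective_emE : Module.Injective A (emE (A := A) M) :=
  (exists_embedding (A := A) M).choose_spec.choose_spec.1

theorem emι_injective : Function.Injective (emι (A := A) M) :=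
  (exists_embedding (A := A) M).choose_spec.choose_spec.2

variable (M) in
/-- The quotient of the embedding. -/
abbrev emQ : Type u := (emE (A := A) M : Type u) ⧸ LinearMap.range (emι (A := A) M)

variable (M) in
/-- The projection. -/
abbrev emπ : (emE (A := A) M : Type u) →ₗ[A] emQ (A := A) M := (LinearMap.range (emι (A := A) M)).mkQ

theorem emπ_surjective : Function.Surjective (emπ (A := A) M) := Submodule.mkQ_surjective _

theorem emex : LinearMap.range (emι (A := A) M) = LinearMap.ker (emπ (A := A) M) := (Submodule.ker_mkQ _).symm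

theorem emS : (mseq (emex (A := A) (M := M))).ShortExact where
  exact := ShortComplex.Exact.moduleCat_of_range_eq_ker _ _ emex
  mono_f := (ModuleCat.mono_iff_injective _).2 emι_injective
  epi_g := (ModuleCat.epi_iff_surjective _).2 emπ_surjective

theorem exists_map_embedding {N : Type u} [AddCommGroup N] [Module A N] (φ : M →ₗ[A] N) :
    ∃ (g : (emE (A := A) M : Type u) →ₗ[A] (emE (A := A) N : Type u)) (g' : emQ (A := A) M →ₗ[A] emQ (A := A) N),
      (emι N).comp φ = g.comp (emι M) ∧ (emπ N).comp g = g'.comp (emπ M) := by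
  obtain ⟨g, hg⟩ := Module.Injective.out (emι (A := A) M) emι_injective ((emι (A := A) N).comp φ)
  refine ⟨g, Submodule.mapQ _ _ g fun x hx => ?_, (LinearMap.ext hg).symm, rfl⟩
  obtain ⟨m, rfl⟩ := hx
  exact ⟨φ m, (hg m).symm⟩

/-- The degree zero comparison relation. -/
def Rel0 (s : PuncSecLib.H M 0 (UJ J)) (z : LC J 1 M) : Prop :=
  ∃ (e : emE (A := A) M) (w : LC J 0 (emQ (A := A) M)),
    η _ (UJ J) e = PuncSecLib.hm (emι M) 0 (UJ J) s ∧
    LocCohLib.h0 J (ModuleCat.of A (emQ (A := A) M)) w = emπ M e ∧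
    LocCohLib.δ J (emS (M := M)) 0 w = z

theorem rel0_exists (s : PuncSecLib.H M 0 (UJ J)) : ∃ z, Rel0 J s z := by
  obtain ⟨e, he⟩ := PuncSecLib.η_surjective_of_injective (M := (emE (A := A) M : Type u)) (UJ J)
    (PuncSecLib.hm (emι M) 0 (UJ J) s)
  have h0 : η (emQ (A := A) M) (UJ J) (emπ M e) = 0 := by
    rw [← PuncSecLib.hm_η, he]
    exact PuncSecLib.hm_hm_eq_zero emex 0 _ s
  obtain ⟨w, hw⟩ := (SetLike.ext_iff.1 (LocCohLib.range_h0 (I := J) (M := ModuleCat.of A (emQ (A := A) M))) _).2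
    ((PuncSecLib.η_eq_zero_iff_pow _).1 h0)
  exact ⟨_, e, w, he, hw, rfl⟩

theorem rel0_sub {s s' : PuncSecLib.H M 0 (UJ J)} {z z' : LC J 1 M} (h : Rel0 J s z) (h' : Rel0 J s' z') :
    Rel0 J (s - s') (z - z') := by
  obtain ⟨e, w, he, hw, hz⟩ := h
  obtain ⟨e', w', he', hw', hz'⟩ := h'
  refine ⟨e - e', w - w', ?_, ?_, ?_⟩
  · rw [map_sub, map_sub, he, he']
  · rw [map_sub, map_sub, hw, hw']
  · show LocCohLib.δ J (emS (M := M)) 0 (w - w') = z - z'
    rw [map_sub, hz, hz']

theorem rel0_zero {z : LC J 1 M} (h : Rel0 J (0 : PuncSecLib.H M 0 (UJ J)) z) : z = 0 := by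
  obtain ⟨e, w, he, hw, rfl⟩ := h
  rw [map_zero] at he
  obtain ⟨v, hv⟩ := (SetLike.ext_iff.1 (LocCohLib.range_h0 (I := J) (M := (mseq (emex (A := A) (M := M))).X₂)) e).2
    ((PuncSecLib.η_eq_zero_iff_pow _).1 he)
  have hw' : w = ((localCohomology J 0).map (mseq (emex (A := A) (M := M))).g).hom v :=
    LocCohLib.h0_injective (hw.trans
      ((LocCohLib.h0_map (mseq (emex (A := A) (M := M))).g v).trans (congrArg (emπ M) hv)).symm)
  rw [hw']
  exact LocCohLib.δ_map_g J (emS (M := M)) 0 v

theorem rel0_unique {s : PuncSecLib.H M 0 (UJ J)} {z z' : LC J 1 M} (h : Rel0 J s z) (h' : Rel0 J s z') : z = z' :=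
  sub_eq_zero.1 (rel0_zero J (by simpa only [sub_self] using rel0_sub J h h'))

variable (M) in
/-- The comparison in degree zero. -/
def γ₀ : PuncSecLib.H M 0 (UJ J) →+ LC J 1 M :=
  AddMonoidHom.ofMapSub (fun s => (rel0_exists J s).choose) fun s s' =>
    rel0_unique J (rel0_exists J (s - s')).choose_spec
      (rel0_sub J (rel0_exists J s).choose_spec (rel0_exists J s').choose_spec)

theorem γ₀_eq {s : PuncSecLib.H M 0 (UJ J)} {z : LC J 1 M} (h : Rel0 J s z) : γ₀ J M s = z :=
  rel0_unique J (rel0_exists J s).choose_spec h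

theorem γ₀_η (m : M) : γ₀ J M (η M (UJ J) m) = 0 := by
  refine γ₀_eq J ⟨emι M m, 0, (PuncSecLib.hm_η _ _ m).symm, ?_, map_zero _⟩
  rw [map_zero]
  exact ((Submodule.Quotient.mk_eq_zero (LinearMap.range (emι (A := A) M))).2 (LinearMap.mem_range_self _ m)).symm

theorem exists_of_γ₀_eq_zero {s : PuncSecLib.H M 0 (UJ J)} (h : γ₀ J M s = 0) : ∃ m, η M (UJ J) m = s := by
  obtain ⟨e, w, he, hw, hz⟩ := (rel0_exists J s).choose_spec
  have hz0 : LocCohLib.δ J (emS (M := M)) 0 w = 0 := hz.trans h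
  obtain ⟨v, hv⟩ := LocCohLib.exists_of_δ_eq_zero J (emS (M := M)) 0 w hz0
  let g : (emE (A := A) M : Type u) := LocCohLib.h0 J (mseq (emex (A := A) (M := M))).X₂ v
  have hg : η _ (UJ J) g = 0 := (PuncSecLib.η_eq_zero_iff_pow _).2
    ((SetLike.ext_iff.1 (LocCohLib.range_h0 (I := J) (M := (mseq (emex (A := A) (M := M))).X₂)) g).1
      (LinearMap.mem_range_self _ v))
  have hπ : emπ M g = emπ M e := ((LocCohLib.h0_map _ v).symm.trans (congrArg _ hv)).trans hw
  obtain ⟨m, hm⟩ : e - g ∈ LinearMap.range (emι (A := A) M) := by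
    rw [emex, LinearMap.mem_ker, map_sub, hπ, sub_self]
  exact ⟨m, PuncSecLib.hm_injective_zero emι_injective (UJ J) (by
    rw [PuncSecLib.hm_η, hm, map_sub, he, hg, sub_zero])⟩

theorem γ₀_surjective : Function.Surjective (γ₀ J M) := fun z => by
  haveI : Injective (mseq (emex (A := A) (M := M))).X₂ :=
    Module.injective_object_of_injective_module A (emE (A := A) M)
  haveI := LocCohLib.subsingleton_of_injective (I := J) (M := (mseq (emex (A := A) (M := M))).X₂) 0
  obtain ⟨w, hw⟩ := LocCohLib.exists_of_map_f_eq_zero J (emS (M := M)) 0 z (Subsingleton.elim _ _)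
  obtain ⟨e, he⟩ := emπ_surjective (LocCohLib.h0 J (ModuleCat.of A (emQ (A := A) M)) w)
  have h0 : PuncSecLib.hm (emπ M) 0 (UJ J) (η _ (UJ J) e) = 0 := by
    rw [PuncSecLib.hm_η, he]
    exact (PuncSecLib.η_eq_zero_iff_pow _).2
      ((SetLike.ext_iff.1 (LocCohLib.range_h0 (I := J) (M := ModuleCat.of A (emQ (A := A) M))) _).1
        (LinearMap.mem_range_self _ w))
  obtain ⟨s, hs⟩ := PuncSecLib.exists_of_hm_eq_zero emι_injective emπ_surjective emex 0 (UJ J) _ h0
  exact ⟨s, γ₀_eq J ⟨e, w, hs.symm, he.symm, hw⟩⟩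

theorem γ₀_natural {N : Type u} [AddCommGroup N] [Module A N] (φ : M →ₗ[A] N) (s : PuncSecLib.H M 0 (UJ J)) :
    γ₀ J N (PuncSecLib.hm φ 0 (UJ J) s) = lm J 1 φ (γ₀ J M s) := by
  obtain ⟨g, g', hg, hg'⟩ := exists_map_embedding φ
  obtain ⟨e, w, he, hw, hz⟩ := (rel0_exists J s).choose_spec
  refine γ₀_eq J ⟨g e, lm J 0 g' w, ?_, ?_, ?_⟩
  · rw [← PuncSecLib.hm_η, he, ← PuncSecLib.hm_comp, ← hg, PuncSecLib.hm_comp]
  · refine (LocCohLib.h0_map (ModuleCat.ofHom g') w).trans ((congrArg g' hw).trans ?_)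
    exact (LinearMap.congr_fun hg' e).symm
  · let Φ : mseq (emex (A := A) (M := M)) ⟶ mseq (emex (A := A) (M := N)) :=
      ShortComplex.homMk (ModuleCat.ofHom φ) (ModuleCat.ofHom g) (ModuleCat.ofHom g')
        (ModuleCat.hom_ext hg) (ModuleCat.hom_ext hg')
    refine (LocCohLib.δ_naturality J (emS (M := M)) (emS (M := N)) Φ 0 w).symm.trans ?_
    exact congrArg (lm J 1 φ) hz

/-- A comparison in a positive degree. -/
structure Comp (i : ℕ) where
  app : ∀ (M : Type u) [AddCommGroup M] [Module A M], PuncSecLib.H M (i + 1) (UJ J) →+ LC J (i + 2) M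
  bij : ∀ (M : Type u) [AddCommGroup M] [Module A M], Function.Bijective (app M)
  natural : ∀ {M N : Type u} [AddCommGroup M] [Module A M] [AddCommGroup N] [Module A N] (φ : M →ₗ[A] N)
    (x : PuncSecLib.H M (i + 1) (UJ J)), app N (PuncSecLib.hm φ (i + 1) (UJ J) x) = lm J (i + 2) φ (app M x)

/-- A compatible comparison one degree below gives one above. -/
theorem exists_comp_of_lower (i : ℕ)
    (γ : ∀ (M : Type u) [AddCommGroup M] [Module A M], PuncSecLib.H M i (UJ J) →+ LC J (i + 1) M)
    (hsurj : ∀ (M : Type u) [AddCommGroup M] [Module A M], Function.Surjective (γ M))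
    (hnat : ∀ {M N : Type u} [AddCommGroup M] [Module A M] [AddCommGroup N] [Module A N] (φ : M →ₗ[A] N)
      (x : PuncSecLib.H M i (UJ J)), γ N (PuncSecLib.hm φ i (UJ J) x) = lm J (i + 1) φ (γ M x))
    (hker : ∀ (M : Type u) [AddCommGroup M] [Module A M] (w : PuncSecLib.H (emQ (A := A) M) i (UJ J)),
      γ _ w = 0 → ∃ y, PuncSecLib.hm (emπ M) i (UJ J) y = w)
    (hzero : ∀ (M : Type u) [AddCommGroup M] [Module A M] (y : PuncSecLib.H (emE (A := A) M : Type u) i (UJ J)),
      γ _ y = 0) :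
    Nonempty (Comp J i) := by
  have hδsurj : ∀ (M : Type u) [AddCommGroup M] [Module A M],
      Function.Surjective (PuncSecLib.δ (A := A) (emι_injective (M := M)) emπ_surjective emex i (UJ J)) := by
    intro M _ _ x
    haveI := PuncSecLib.subsingleton_of_injective' (M := (emE (A := A) M : Type u)) i (UJ J)
    exact PuncSecLib.exists_δ_of_hm_eq_zero emι_injective emπ_surjective emex i (UJ J) x (Subsingleton.elim _ _)
  have key : ∀ (M : Type u) [AddCommGroup M] [Module A M], ∃ c : PuncSecLib.H M (i + 1) (UJ J) →+ LC J (i + 2) M,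
      Function.Bijective c ∧ ∀ w, c (PuncSecLib.δ (A := A) (emι_injective (M := M)) emπ_surjective emex i (UJ J) w) =
        LocCohLib.δ J (emS (M := M)) (i + 1) (γ _ w) := by
    intro M _ _
    let dU := PuncSecLib.δ (A := A) (emι_injective (M := M)) emπ_surjective emex i (UJ J)
    let dL : PuncSecLib.H (emQ (A := A) M) i (UJ J) →+ LC J (i + 2) M :=
      (LocCohLib.δ J (emS (M := M)) (i + 1)).toAddMonoidHom.comp (γ (emQ (A := A) M))
    haveI : Injective (mseq (emex (A := A) (M := M))).X₂ :=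
      Module.injective_object_of_injective_module A (emE (A := A) M)
    have hk : dU.ker = dL.ker := by
      ext w
      rw [AddMonoidHom.mem_ker, AddMonoidHom.mem_ker]
      constructor
      · intro hw
        obtain ⟨y, hy⟩ := PuncSecLib.exists_of_δ_eq_zero emι_injective emπ_surjective emex i (UJ J) w hw
        show LocCohLib.δ J (emS (M := M)) (i + 1) (γ _ w) = 0
        rw [← hy, hnat, hzero]
        simp [lm]
      · intro hw
        haveI := LocCohLib.subsingleton_of_injective (I := J) (M := (mseq (emex (A := A) (M := M))).X₂) i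
        obtain ⟨v, hv⟩ := LocCohLib.exists_of_δ_eq_zero J (emS (M := M)) (i + 1) (γ _ w) hw
        rw [Subsingleton.elim v 0, map_zero] at hv
        obtain ⟨y, rfl⟩ := hker M w hv.symm
        exact PuncSecLib.δ_hm emι_injective emπ_surjective emex i (UJ J) y
    choose r hr using hδsurj M
    have hrd : ∀ w, dL (r (dU w)) = dL w := fun w => by
      have : r (dU w) - w ∈ dL.ker := hk ▸ (AddMonoidHom.mem_ker.2 (by rw [map_sub, hr, sub_self]))
      rwa [AddMonoidHom.mem_ker, map_sub, sub_eq_zero] at this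
    refine ⟨AddMonoidHom.mk' (fun x => dL (r x)) fun x y => ?_, ⟨(injective_iff_map_eq_zero _).2 fun x hx => ?_,
      fun z => ?_⟩, fun w => hrd w⟩
    · rw [← map_add, ← hrd (r x + r y), map_add dU]
      rw [hr, hr]
    · have : r x ∈ dU.ker := hk ▸ (AddMonoidHom.mem_ker.2 hx)
      rw [← hr x]
      exact this
    · haveI := LocCohLib.subsingleton_of_injective (I := J) (M := (mseq (emex (A := A) (M := M))).X₂) (i + 1)
      obtain ⟨v, hv⟩ := LocCohLib.exists_of_map_f_eq_zero J (emS (M := M)) (i + 1) z (Subsingleton.elim _ _)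
      obtain ⟨w, rfl⟩ := hsurj _ v
      exact ⟨dU w, (hrd w).trans hv⟩
  choose c hc hcδ using key
  refine ⟨⟨c, hc, fun {M N} _ _ _ _ φ x => ?_⟩⟩
  obtain ⟨w, rfl⟩ := hδsurj M x
  obtain ⟨g, g', hg, hg'⟩ := exists_map_embedding φ
  rw [← PuncSecLib.δ_natural (emι_injective (M := M)) emπ_surjective emex (emι_injective (M := N)) emπ_surjective emex
    φ g g' hg hg' i (UJ J) w, hcδ, hcδ, hnat]
  let Φ : mseq (emex (A := A) (M := M)) ⟶ mseq (emex (A := A) (M := N)) :=
    ShortComplex.homMk (ModuleCat.ofHom φ) (ModuleCat.ofHom g) (ModuleCat.ofHom g')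
      (ModuleCat.hom_ext hg) (ModuleCat.hom_ext hg')
  exact (LocCohLib.δ_naturality J (emS (M := M)) (emS (M := N)) Φ (i + 1) _).symm

theorem exists_comp : ∀ i, Nonempty (Comp J i)
  | 0 => by
    refine exists_comp_of_lower J 0 (fun M _ _ => γ₀ J M) (fun M _ _ => γ₀_surjective J)
      (fun {M N} _ _ _ _ φ x => γ₀_natural J φ x) (fun M _ _ w hw => ?_) fun M _ _ y => ?_
    · obtain ⟨k, rfl⟩ := exists_of_γ₀_eq_zero J hw
      obtain ⟨e, rfl⟩ := emπ_surjective k
      exact ⟨η _ (UJ J) e, PuncSecLib.hm_η _ _ e⟩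
    · obtain ⟨e, rfl⟩ := PuncSecLib.η_surjective_of_injective (M := (emE (A := A) M : Type u)) (UJ J) y
      exact γ₀_η J e
  | i + 1 => by
    obtain ⟨C⟩ := exists_comp i
    refine exists_comp_of_lower J (i + 1) (fun M _ _ => C.app M) (fun M _ _ => (C.bij M).2)
      (fun {M N} _ _ _ _ φ x => C.natural φ x) (fun M _ _ w hw => ?_) fun M _ _ y => ?_
    · exact ⟨0, by rw [map_zero]; exact ((C.bij _).1 (hw.trans (map_zero _).symm)).symm⟩
    · haveI := PuncSecLib.subsingleton_of_injective' (M := (emE (A := A) M : Type u)) i (UJ J)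
      rw [Subsingleton.elim y 0, map_zero]

end Bridge

section equiv

variable {A : Type u} [CommRing A] [IsNoetherianRing A] (J : Ideal A)

/-- Local cohomology is cohomology with supports in the zero locus, naturally. -/
theorem exists_equiv_natural_ideal (i : ℕ) : ∃ Φ : ∀ M : ModuleCat.{u} A,
      ((localCohomology J i).obj M : Type u) ≃ₗ[A] ((HF (PrimeSpectrum.zeroLocus (J : Set A)) i).obj M : Type u),
    ∀ (M N : ModuleCat.{u} A) (f : M ⟶ N) (x : (localCohomology J i).obj M),
      Φ N (((localCohomology J i).map f).hom x) =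
        ((HF (PrimeSpectrum.zeroLocus (J : Set A)) i).map f).hom (Φ M x) := by
  choose Φ hb hΦ using fun M : ModuleCat.{u} A => exists_equiv_H J i M
  refine ⟨fun M => LinearEquiv.ofBijective (Φ M) (hb M), fun M N f x => ?_⟩
  obtain ⟨n, ξ, rfl⟩ := LocCohLib.exists_ι x
  show Φ N _ = ((HF _ i).map f).hom (Φ M _)
  rw [LocCohLib.map_ι, hΦ, hΦ, map_ι]

end equiv

end Groth.Agent.HTLib
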