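import Groth.Agent.HTLib.Colim
import Groth.Agent.FaltingsAnnLib.Main

/-!
# Classes of cocycles in cohomology with supports
-/

set_option autoImplicit false
set_option linter.style.haveILetI false
set_option backward.isDefEq.respectTransparency false
set_option maxRecDepth 4000

universe u

open CategoryTheory Limits
attribute [local instance] HasDerivedCategory.standard

noncomputable section

namespace Groth.Agent.HTLib

open DualCxLib (InjRep HK sMap)
open FaltingsAnnLib (gamma annElt ZT zeroLocus_annElt_subset apply_one_mem_gamma projQ map_mem_gamma)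

variable {A : Type u} [CommRing A] {M : Type u} [AddCommGroup M] [Module A M]
  (S : InjRep (Dual.inD A M))

/-- The class in `Ext` of an element killed by an ideal. -/
theorem mem_Z_liftQ {i : ℕ} (y : S.E.X (i : ℤ)) (hy : S.E.d (i : ℤ) ((i : ℤ) + 1) y = 0) (D : Ideal A)
    (hD : D ≤ LinearMap.ker (LinearMap.toSpanSingleton A (S.E.X (i : ℤ)) y)) :
    (D.liftQ (LinearMap.toSpanSingleton A (S.E.X (i : ℤ)) y) hD : (A ⧸ D) →ₗ[A] S.E.X (i : ℤ)) ∈
      S.Z (A ⧸ D) (i : ℤ) :=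
  (S.mem_Z _).2 fun z => by
    obtain ⟨z, rfl⟩ := Submodule.Quotient.mk_surjective _ z
    show (S.E.d _ _).hom (z • y) = 0
    rw [map_smul]
    exact (congrArg (z • ·) hy).trans (smul_zero z)

/-- `Ext` as morphisms of the derived category. -/
abbrev extEquiv (D : Ideal A) (i : ℕ) :
    Abelian.Ext.{u} (qq D) (ModuleCat.of A M) i ≃ₗ[A] HK (Dual.inD A M) (i : ℤ) (A ⧸ D) :=
  Abelian.Ext.homLinearEquiv (R := A)

/-- The class in `Ext` of a cocycle. -/
def extCls {i : ℕ} (D : Ideal A) (f : S.Z (A ⧸ D) (i : ℤ)) : Abelian.Ext.{u} (qq D) (ModuleCat.of A M) i :=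
  (extEquiv D i).symm (S.toHK (i : ℤ) f)

theorem hom_extCls {i : ℕ} (D : Ideal A) (f : S.Z (A ⧸ D) (i : ℤ)) : (extCls S D f).hom = S.toHK (i : ℤ) f :=
  (extEquiv D i).apply_symm_apply _

theorem extCls_comp {i : ℕ} {D D' : Ideal A} (h : D' ≤ D) (f : S.Z (A ⧸ D) (i : ℤ)) :
    (Abelian.Ext.mk₀ (qmap h)).comp (extCls S D f) (zero_add i) =
      extCls S D' ⟨f.1 ∘ₗ projQ h, S.comp_mem_Z _ f⟩ := by
  refine (extEquiv D' i).injective ?_
  show ((Abelian.Ext.mk₀ (qmap h)).comp (extCls S D f) (zero_add i)).hom = (extCls S D' _).hom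
  rw [Abelian.Ext.comp_hom, Abelian.Ext.mk₀_hom, ShiftedHom.mk₀_comp, hom_extCls, hom_extCls]
  exact (S.toHK_comp (i : ℤ) (projQ h) f).symm

theorem extCls_surjective {i : ℕ} (D : Ideal A) : Function.Surjective (extCls S (i := i) D) :=
  (extEquiv D i).symm.surjective.comp (S.toHK_surjective (i : ℤ))

variable (T : Set (PrimeSpectrum A))

/-- The class of a cocycle supported in `T`. -/
def cls {i : ℕ} (y : ZT S.E T (i : ℤ)) : (HF T i).obj (ModuleCat.of A M) :=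
  ι T i _ (annElt y.1) (zeroLocus_annElt_subset y.2.1)
    (extCls S _ ⟨_, mem_Z_liftQ S y.1 y.2.2 (annElt y.1) fun _ h => h⟩)

variable {T}

theorem cls_eq {i : ℕ} (y : ZT S.E T (i : ℤ)) (D : Ideal A) (hD : PrimeSpectrum.zeroLocus (D : Set A) ⊆ T)
    (f : S.Z (A ⧸ D) (i : ℤ)) (hf : f.1 1 = y.1) : cls S T y = ι T i _ D hD (extCls S D f) := by
  have hle : D ≤ annElt y.1 := fun a ha => by
    rw [FaltingsAnnLib.mem_annElt, ← hf, ← map_smul, show a • (1 : A ⧸ D) = 0 by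
      rw [Algebra.smul_def, mul_one]
      exact Ideal.Quotient.eq_zero_iff_mem.2 ha, map_zero]
  rw [cls, ← ι_comp _ hD hle, extCls_comp]
  refine congrArg (fun g => ι T i _ D hD (extCls S D g)) (Subtype.ext (LinearMap.ext fun z => ?_))
  obtain ⟨z, rfl⟩ := Submodule.Quotient.mk_surjective _ z
  show z • y.1 = f.1 (Submodule.Quotient.mk z)
  rw [← hf, ← map_smul]
  refine congrArg f.1 ?_
  rw [Algebra.smul_def, mul_one]
  rfl

theorem cls_surjective {i : ℕ} : Function.Surjective (cls S T (i := i)) := by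
  intro x
  obtain ⟨D, hD, ξ, rfl⟩ := exists_ι x
  obtain ⟨f, rfl⟩ := extCls_surjective S D ξ
  exact ⟨⟨f.1 1, apply_one_mem_gamma hD f.1, (S.mem_Z f.1).1 f.2 1⟩, cls_eq S _ D hD f rfl⟩

theorem cls_eq_zero_iff {i : ℕ} (y : ZT S.E T (i : ℤ)) :
    cls S T y = 0 ↔ ∃ w ∈ gamma T (S.E.X ((i : ℤ) - 1)), S.E.d ((i : ℤ) - 1) (i : ℤ) w = y.1 := by
  constructor
  · intro h
    rw [cls, ι_eq_zero_iff] at h
    obtain ⟨D, hD, hle, h0⟩ := h
    rw [extCls_comp] at h0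
    have h1 := (hom_extCls S D _).symm.trans (congrArg Abelian.Ext.hom h0)
    rw [show (0 : Abelian.Ext.{u} (qq D) (ModuleCat.of A M) i).hom = 0 from (extEquiv D i).map_zero] at h1
    obtain ⟨g, hg⟩ := (S.toHK_eq_zero_iff _ _).1 h1
    exact ⟨g 1, apply_one_mem_gamma hD g, (hg 1).trans (one_smul A y.1)⟩
  · rintro ⟨w, hw, hdw⟩
    let D : Ideal A := annElt y.1 * annElt w
    have hDy : D ≤ annElt y.1 := Ideal.mul_le_left
    have hDw : D ≤ annElt w := Ideal.mul_le_right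
    have hD : PrimeSpectrum.zeroLocus (D : Set A) ⊆ T :=
      zeroLocus_mul (zeroLocus_annElt_subset y.2.1) (zeroLocus_annElt_subset hw)
    rw [cls, ← ι_comp _ hD hDy, extCls_comp]
    refine (congrArg (ι T i _ D hD) ((extEquiv D i).injective ?_)).trans (map_zero _)
    rw [map_zero]
    show (extCls S D _).hom = 0
    rw [hom_extCls]
    refine (S.toHK_eq_zero_iff _ _).2 ⟨D.liftQ (LinearMap.toSpanSingleton A _ w) hDw, fun z => ?_⟩
    obtain ⟨z, rfl⟩ := Submodule.Quotient.mk_surjective _ z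
    show S.E.d _ _ (z • w) = z • y.1
    rw [map_smul, hdw]

theorem cls_smul {i : ℕ} (a : A) (y : ZT S.E T (i : ℤ)) : cls S T (a • y) = a • cls S T y := by
  let D : Ideal A := annElt y.1
  let f : S.Z (A ⧸ D) (i : ℤ) := ⟨_, mem_Z_liftQ S y.1 y.2.2 D fun _ h => h⟩
  rw [cls_eq S (a • y) D (zeroLocus_annElt_subset y.2.1) (a • f) (by
    show a • ((1 : A) • y.1) = a • y.1
    rw [one_smul]), show extCls S D (a • f) = a • extCls S D f by
      simp only [extCls, map_smul]]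
  exact map_smul _ _ _

theorem cls_add {i : ℕ} (y y' : ZT S.E T (i : ℤ)) : cls S T (y + y') = cls S T y + cls S T y' := by
  let D : Ideal A := annElt y.1 * annElt y'.1
  have hDy : D ≤ annElt y.1 := Ideal.mul_le_left
  have hDy' : D ≤ annElt y'.1 := Ideal.mul_le_right
  have hD : PrimeSpectrum.zeroLocus (D : Set A) ⊆ T :=
    zeroLocus_mul (zeroLocus_annElt_subset y.2.1) (zeroLocus_annElt_subset y'.2.1)
  let f : S.Z (A ⧸ D) (i : ℤ) := ⟨_, mem_Z_liftQ S y.1 y.2.2 D hDy⟩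
  let f' : S.Z (A ⧸ D) (i : ℤ) := ⟨_, mem_Z_liftQ S y'.1 y'.2.2 D hDy'⟩
  rw [cls_eq S (y + y') D hD (f + f') (by
    show (1 : A) • y.1 + (1 : A) • y'.1 = y.1 + y'.1
    rw [one_smul, one_smul]), cls_eq S y D hD f (one_smul A y.1), cls_eq S y' D hD f' (one_smul A y'.1),
    show extCls S D (f + f') = extCls S D f + extCls S D f' by simp only [extCls, map_add], map_add]

theorem incl_cls {T' : Set (PrimeSpectrum A)} (h : T' ⊆ T) {i : ℕ} (y : ZT S.E T' (i : ℤ)) :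
    incl h i _ (cls S T' y) = cls S T ⟨y.1, FaltingsAnnLib.gamma_mono h y.2.1, y.2.2⟩ :=
  incl_ι h (zeroLocus_annElt_subset y.2.1) _

section map

variable {N : Type u} [AddCommGroup N] [Module A N] (S' : InjRep (Dual.inD A N))

/-- A chain map over a map of modules. -/
def Lifts (φ : M →ₗ[A] N) (g : S.E ⟶ S'.E) : Prop :=
  DerivedCategory.Q.map g ≫ S'.iso.hom = S.iso.hom ≫ sMap φ

theorem exists_lift (φ : M →ₗ[A] N) : ∃ g, Lifts S S' φ g := by
  haveI := S'.isKInjective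
  let u' : DerivedCategory.Q.obj S.E ⟶ DerivedCategory.Q.obj S'.E := S.iso.hom ≫ sMap φ ≫ S'.iso.inv
  obtain ⟨g, hg⟩ := (CochainComplex.IsKInjective.Qh_map_bijective
    ((HomotopyCategory.quotient (ModuleCat.{u} A) (ComplexShape.up ℤ)).obj S.E) S'.E).2 u'
  obtain ⟨g, rfl⟩ := (HomotopyCategory.quotient _ _).map_surjective g
  have hg' : DerivedCategory.Q.map g = u' := hg
  exact ⟨g, by rw [Lifts, hg']; simp only [u', Category.assoc, Iso.inv_hom_id, Category.comp_id]⟩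

variable {S S'}

theorem apply_mem_ZT (g : S.E ⟶ S'.E) {i : ℤ} {x : S.E.X i} (hx : x ∈ ZT S.E T i) :
    (g.f i).hom x ∈ ZT S'.E T i := by
  refine ⟨map_mem_gamma (g.f i).hom hx.1, ?_⟩
  show (g.f i ≫ S'.E.d i (i + 1)).hom x = 0
  rw [g.comm i (i + 1)]
  show (g.f (i + 1)).hom (S.E.d i (i + 1) x) = 0
  rw [show S.E.d i (i + 1) x = 0 from hx.2, map_zero]

open CochainComplex.HomComplex in
theorem toHK_postcomp {φ : M →ₗ[A] N} {g : S.E ⟶ S'.E} (hg : Lifts S S' φ g) {P : Type u} [AddCommGroup P]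
    [Module A P] (i : ℤ) (f : S.Z P i) (f' : S'.Z P i) (hf' : f'.1 = (g.f i).hom ∘ₗ f.1) :
    S'.toHK i f' = S.toHK i f ≫ (sMap φ)⟦i⟧' := by
  have h : S'.cyc f' = (S.cyc f).postcomp g := by
    have h1 : ModuleCat.ofHom f'.1 = ModuleCat.ofHom f.1 ≫ g.f i := by rw [hf']; rfl
    have h2 := Cocycle.fromSingleMk_postcomp (ModuleCat.ofHom f.1) (zero_add i) (i + 1) rfl (S.comp_d_eq_zero f) g
    refine Eq.trans ?_ h2
    show Cocycle.fromSingleMk _ _ _ _ _ = Cocycle.fromSingleMk _ _ _ _ _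
    congr 1
  show S'.morCyc i (S'.cyc f') = S.morCyc i (S.cyc f) ≫ (sMap φ)⟦i⟧'
  rw [h, InjRep.morCyc, InjRep.morCyc, Cocycle.equivHomShift_symm_postcomp, Functor.map_comp]
  simp only [Category.assoc]
  have h3 := (DerivedCategory.Q.commShiftIso i).hom.naturality g
  dsimp at h3
  rw [reassoc_of% h3, ← Functor.map_comp, ← Functor.map_comp, hg]

theorem map_cls {φ : M →ₗ[A] N} {g : S.E ⟶ S'.E} (hg : Lifts S S' φ g) {i : ℕ} (y : ZT S.E T (i : ℤ)) :
    ((HF T i).map (ModuleCat.ofHom φ)).hom (cls S T y) =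
      cls S' T ⟨(g.f (i : ℤ)).hom y.1, apply_mem_ZT g y.2⟩ := by
  let f : S.Z (A ⧸ annElt y.1) (i : ℤ) := ⟨_, mem_Z_liftQ S y.1 y.2.2 (annElt y.1) fun _ h => h⟩
  have hmem : (g.f (i : ℤ)).hom ∘ₗ f.1 ∈ S'.Z (A ⧸ annElt y.1) (i : ℤ) := (S'.mem_Z _).2 fun z => by
    show (g.f (i : ℤ) ≫ S'.E.d _ _).hom (f.1 z) = 0
    rw [g.comm]
    show (g.f _).hom (S.E.d _ _ (f.1 z)) = 0
    rw [show S.E.d (i : ℤ) ((i : ℤ) + 1) (f.1 z) = 0 from (S.mem_Z f.1).1 f.2 z, map_zero]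
  rw [cls_eq S' (⟨(g.f (i : ℤ)).hom y.1, apply_mem_ZT g y.2⟩ : ZT S'.E T (i : ℤ)) (annElt y.1)
    (zeroLocus_annElt_subset y.2.1) ⟨_, hmem⟩ (congrArg (g.f (i : ℤ)).hom (one_smul A y.1)), cls, map_ι]
  refine congrArg (ι T i _ _ _) ((extEquiv (annElt y.1) i).injective ?_)
  show ((extCls S _ f).comp (Abelian.Ext.mk₀ (ModuleCat.ofHom φ)) (add_zero i)).hom = (extCls S' _ _).hom
  rw [Abelian.Ext.comp_hom, Abelian.Ext.mk₀_hom, ShiftedHom.comp_mk₀, hom_extCls, hom_extCls]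
  exact (toHK_postcomp hg (i : ℤ) f ⟨_, hmem⟩ rfl).symm

end map

theorem exists_rep (M : Type u) [AddCommGroup M] [Module A M] : Nonempty (InjRep (Dual.inD A M)) :=
  let ⟨S, _⟩ := FaltingsAnnLib.exists_injRep_eq (Dual.inD A M) 0
  ⟨S⟩

end Groth.Agent.HTLib
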