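import Groth.Prelude.Def_DualLC
import Groth.Agent.LocCohLib.Colim
import Groth.Agent.FaltingsAnnLib.Translate

/-!
# Elementwise description of cohomology with supports
-/

set_option autoImplicit false
set_option linter.style.haveILetI false
set_option backward.isDefEq.respectTransparency false

universe u

open CategoryTheory Limits Opposite

noncomputable section

namespace Groth.Agent.HTLib

open LocCohLib (OldE extComp extComp_map_left extComp_map_right)

variable {A : Type u} [CommRing A] (T : Set (PrimeSpectrum A))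

/-- The functor `H^i_T`. -/
abbrev HF (i : ℕ) : ModuleCat.{u} A ⥤ ModuleCat.{u} A :=
  localCohomology.ofDiagram.{u, u} (Dual2.idealsInDiagram T) i

/-- The quotient of `A` by an ideal. -/
abbrev qq (D : Ideal A) : ModuleCat.{u} A := ModuleCat.of A (A ⧸ D)

/-- The projection between two quotients of `A`. -/
def qmap {D D' : Ideal A} (h : D' ≤ D) : qq D' ⟶ qq D :=
  ModuleCat.ofHom (FaltingsAnnLib.projQ h)

theorem qmap_mk {D D' : Ideal A} (h : D' ≤ D) (x : A) :
    (qmap h).hom (Submodule.Quotient.mk x) = Submodule.Quotient.mk x := rfl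

theorem qmap_comp {a b c : Ideal A} (h : b ≤ a) (h' : c ≤ b) : qmap h' ≫ qmap h = qmap (h'.trans h) := by
  ext x; rfl

section generic

variable {J : Type u} [SmallCategory J] [IsFiltered J] (F : J ⥤ ModuleCat.{u} A ⥤ ModuleCat.{u} A)
  (M : ModuleCat.{u} A)

theorem colim_app_surjective (x : (colimit F).obj M) : ∃ j y, ((colimit.ι F j).app M).hom y = x := by
  haveI : PreservesColimitsOfShape J (forget (ModuleCat.{u} A)) :=
    PreservesFilteredColimitsOfSize.preserves_filtered_colimits _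
  let e := colimitObjIsoColimitCompEvaluation F M
  obtain ⟨j, y, hy⟩ := Concrete.colimit_exists_rep
    (F ⋙ (evaluation (ModuleCat.{u} A) (ModuleCat.{u} A)).obj M) (e.hom x)
  refine ⟨j, y, e.toLinearEquiv.injective ?_⟩
  exact (congr($(colimitObjIsoColimitCompEvaluation_ι_app_hom F j M) y)).trans hy

theorem colim_app_eq_zero (j : J) (y : (F.obj j).obj M) (hy : ((colimit.ι F j).app M).hom y = 0) :
    ∃ (k : J) (f : j ⟶ k), ((F.map f).app M).hom y = 0 := by
  haveI : PreservesColimitsOfShape J (forget (ModuleCat.{u} A)) :=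
    PreservesFilteredColimitsOfSize.preserves_filtered_colimits _
  have e1 : colimit.ι (F ⋙ (evaluation (ModuleCat.{u} A) (ModuleCat.{u} A)).obj M) j y = 0 := by
    refine (congr($(colimitObjIsoColimitCompEvaluation_ι_app_hom F j M) y)).symm.trans ?_
    change (colimitObjIsoColimitCompEvaluation F M).hom.hom (((colimit.ι F j).app M).hom y) = 0
    rw [hy, map_zero]
  have h0 : colimit.ι (F ⋙ (evaluation (ModuleCat.{u} A) (ModuleCat.{u} A)).obj M) j y =
      colimit.ι (F ⋙ (evaluation (ModuleCat.{u} A) (ModuleCat.{u} A)).obj M) j 0 :=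
    e1.trans (map_zero _).symm
  obtain ⟨k, f, g, hfg⟩ := (Concrete.colimit_rep_eq_iff_exists
    (F ⋙ (evaluation (ModuleCat.{u} A) (ModuleCat.{u} A)).obj M) y 0).mp h0
  exact ⟨k, f, hfg.trans (map_zero _)⟩

end generic

variable (i : ℕ) (M : ModuleCat.{u} A)

/-- The object attached to an ideal. -/
abbrev jOb (D : Ideal A) (hD : PrimeSpectrum.zeroLocus (D : Set A) ⊆ T) : (Dual2.IdealsIn T)ᵒᵖ := op ⟨D, hD⟩

/-- The class of an extension. -/
def ι (D : Ideal A) (hD : PrimeSpectrum.zeroLocus (D : Set A) ⊆ T) :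
    Abelian.Ext.{u} (qq D) M i →ₗ[A] ((HF T i).obj M : Type u) :=
  ((colimit.ι (localCohomology.diagram (Dual2.idealsInDiagram T) i) (jOb T D hD)).app M).hom ∘ₗ
    (extComp (qq D) M i).symm.toLinearMap

theorem ι_extComp {D : Ideal A} (hD : PrimeSpectrum.zeroLocus (D : Set A) ⊆ T) (y : OldE (qq D) M i) :
    ι T i M D hD (extComp (qq D) M i y) =
      ((colimit.ι (localCohomology.diagram (Dual2.idealsInDiagram T) i) (jOb T D hD)).app M).hom y :=
  congrArg ((colimit.ι (localCohomology.diagram (Dual2.idealsInDiagram T) i) (jOb T D hD)).app M).hom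
    (LinearEquiv.symm_apply_apply _ y)

variable {T i M}

theorem ι_comp {D D' : Ideal A} (hD : PrimeSpectrum.zeroLocus (D : Set A) ⊆ T)
    (hD' : PrimeSpectrum.zeroLocus (D' : Set A) ⊆ T) (h : D' ≤ D) (x : Abelian.Ext.{u} (qq D) M i) :
    ι T i M D' hD' ((Abelian.Ext.mk₀ (qmap h)).comp x (zero_add i)) = ι T i M D hD x := by
  obtain ⟨y, rfl⟩ := (extComp (qq D) M i).surjective x
  rw [← extComp_map_left, ι_extComp, ι_extComp]
  let φ : jOb T D hD ⟶ jOb T D' hD' := (ObjectProperty.homMk (homOfLE h)).op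
  have hw := NatTrans.congr_app (colimit.w (localCohomology.diagram (Dual2.idealsInDiagram T) i) φ) M
  exact congr($(hw).hom y)

theorem zeroLocus_mul {D D' : Ideal A} (hD : PrimeSpectrum.zeroLocus (D : Set A) ⊆ T)
    (hD' : PrimeSpectrum.zeroLocus (D' : Set A) ⊆ T) : PrimeSpectrum.zeroLocus ((D * D' : Ideal A) : Set A) ⊆ T :=
  fun p hp => by
    rcases p.2.mul_le.1 ((PrimeSpectrum.mem_zeroLocus _ _).1 hp) with h | h
    · exact hD ((PrimeSpectrum.mem_zeroLocus _ _).2 h)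
    · exact hD' ((PrimeSpectrum.mem_zeroLocus _ _).2 h)

theorem exists_ι (x : (HF T i).obj M) :
    ∃ (D : Ideal A) (hD : PrimeSpectrum.zeroLocus (D : Set A) ⊆ T) (y : Abelian.Ext.{u} (qq D) M i),
      ι T i M D hD y = x := by
  haveI := FaltingsAnnLib.isFiltered_idealsIn (A := A) T
  obtain ⟨⟨⟨D, hD⟩⟩, y, hy⟩ := colim_app_surjective (localCohomology.diagram (Dual2.idealsInDiagram T) i) M x
  exact ⟨D, hD, extComp (qq D) M i y, (ι_extComp T i M hD y).trans hy⟩

theorem ι_eq_zero_iff {D : Ideal A} (hD : PrimeSpectrum.zeroLocus (D : Set A) ⊆ T)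
    (x : Abelian.Ext.{u} (qq D) M i) :
    ι T i M D hD x = 0 ↔ ∃ (D' : Ideal A) (_ : PrimeSpectrum.zeroLocus (D' : Set A) ⊆ T) (h : D' ≤ D),
      (Abelian.Ext.mk₀ (qmap h)).comp x (zero_add i) = 0 := by
  haveI := FaltingsAnnLib.isFiltered_idealsIn (A := A) T
  constructor
  · intro hx
    obtain ⟨y, rfl⟩ := (extComp (qq D) M i).surjective x
    rw [ι_extComp] at hx
    obtain ⟨⟨⟨D', hD'⟩⟩, f, hf⟩ :=
      colim_app_eq_zero (localCohomology.diagram (Dual2.idealsInDiagram T) i) M (jOb T D hD) y hx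
    have h : D' ≤ D := leOfHom f.unop.hom
    refine ⟨D', hD', h, ?_⟩
    rw [← extComp_map_left]
    refine (extComp _ M i).map_eq_zero_iff.mpr ?_
    exact hf
  · rintro ⟨D', hD', h, hx⟩
    rw [← ι_comp hD hD' h x, hx, map_zero]

theorem map_ι {M' : ModuleCat.{u} A} (f : M ⟶ M') {D : Ideal A} (hD : PrimeSpectrum.zeroLocus (D : Set A) ⊆ T)
    (x : Abelian.Ext.{u} (qq D) M i) :
    ((HF T i).map f).hom (ι T i M D hD x) = ι T i M' D hD (x.comp (Abelian.Ext.mk₀ f) (add_zero i)) := by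
  obtain ⟨y, rfl⟩ := (extComp (qq D) M i).surjective x
  rw [← extComp_map_right, ι_extComp, ι_extComp]
  exact congr($((colimit.ι (localCohomology.diagram (Dual2.idealsInDiagram T) i) (jOb T D hD)).naturality f) y).symm

/-- A compatible family on an abstract colimit factors through it. -/
theorem exists_desc_aux {H N : Type u} [AddCommGroup H] [Module A H] [AddCommGroup N] [Module A N]
    (j : ∀ (D : Ideal A) (_ : PrimeSpectrum.zeroLocus (D : Set A) ⊆ T), Abelian.Ext.{u} (qq D) M i →ₗ[A] H)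
    (hjs : ∀ z : H, ∃ D hD x, j D hD x = z)
    (hjc : ∀ {D D' : Ideal A} (hD : PrimeSpectrum.zeroLocus (D : Set A) ⊆ T)
      (hD' : PrimeSpectrum.zeroLocus (D' : Set A) ⊆ T) (h : D' ≤ D) (x : Abelian.Ext.{u} (qq D) M i),
      j D' hD' ((Abelian.Ext.mk₀ (qmap h)).comp x (zero_add i)) = j D hD x)
    (hj0 : ∀ (D : Ideal A) (hD : PrimeSpectrum.zeroLocus (D : Set A) ⊆ T) (x : Abelian.Ext.{u} (qq D) M i),
      j D hD x = 0 → ∃ (D' : Ideal A) (_ : PrimeSpectrum.zeroLocus (D' : Set A) ⊆ T) (h : D' ≤ D),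
      (Abelian.Ext.mk₀ (qmap h)).comp x (zero_add i) = 0)
    (φ : ∀ (D : Ideal A) (_ : PrimeSpectrum.zeroLocus (D : Set A) ⊆ T), Abelian.Ext.{u} (qq D) M i →ₗ[A] N)
    (hφ : ∀ (D D' : Ideal A) (hD : PrimeSpectrum.zeroLocus (D : Set A) ⊆ T)
      (hD' : PrimeSpectrum.zeroLocus (D' : Set A) ⊆ T) (h : D' ≤ D) (x : Abelian.Ext.{u} (qq D) M i),
      φ D' hD' ((Abelian.Ext.mk₀ (qmap h)).comp x (zero_add i)) = φ D hD x) :
    ∃ Φ : H →ₗ[A] N, ∀ D hD x, Φ (j D hD x) = φ D hD x := by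
  choose D hD y hy using fun x : H => hjs x
  have key : ∀ (z : H) D' hD' y', j D' hD' y' = z → φ _ (hD z) (y z) = φ D' hD' y' := by
    intro z D' hD' y' hy'
    have h12 : j _ (zeroLocus_mul (hD z) hD')
        ((Abelian.Ext.mk₀ (qmap (Ideal.mul_le_right : D z * D' ≤ D' ))).comp y' (zero_add i) -
          (Abelian.Ext.mk₀ (qmap (Ideal.mul_le_left : D z * D' ≤ D z))).comp (y z) (zero_add i)) = 0 := by
      rw [map_sub, hjc hD', hjc (hD z), hy, hy', sub_self]
    obtain ⟨D'', hD'', h, h0⟩ := hj0 _ _ _ h12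
    have h1 : φ _ (zeroLocus_mul (hD z) hD')
        ((Abelian.Ext.mk₀ (qmap (Ideal.mul_le_right : D z * D' ≤ D' ))).comp y' (zero_add i) -
          (Abelian.Ext.mk₀ (qmap (Ideal.mul_le_left : D z * D' ≤ D z))).comp (y z) (zero_add i)) = 0 := by
      rw [← hφ _ D'' _ hD'' h, h0, map_zero]
    rwa [map_sub, hφ _ _ hD', hφ _ _ (hD z), sub_eq_zero, eq_comm] at h1
  refine ⟨{ toFun := fun z => φ _ (hD z) (y z), map_add' := fun z w => ?_, map_smul' := fun r z => ?_ },
    fun D' hD' x => key _ D' hD' x rfl⟩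
  · rw [key (z + w) (D z * D w) (zeroLocus_mul (hD z) (hD w))
      ((Abelian.Ext.mk₀ (qmap Ideal.mul_le_left)).comp (y z) (zero_add i) +
        (Abelian.Ext.mk₀ (qmap Ideal.mul_le_right)).comp (y w) (zero_add i)) (by rw [map_add, hjc (hD z), hjc (hD w), hy, hy]),
      map_add, hφ _ _ (hD z), hφ _ _ (hD w)]
  · rw [key (r • z) (D z) (hD z) (r • y z) (by rw [map_smul, hy]), map_smul, RingHom.id_apply]

/-- A compatible family on the stages factors through the colimit. -/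
theorem exists_desc {N : Type u} [AddCommGroup N] [Module A N]
    (φ : ∀ (D : Ideal A) (_ : PrimeSpectrum.zeroLocus (D : Set A) ⊆ T), Abelian.Ext.{u} (qq D) M i →ₗ[A] N)
    (hφ : ∀ (D D' : Ideal A) (hD : PrimeSpectrum.zeroLocus (D : Set A) ⊆ T)
      (hD' : PrimeSpectrum.zeroLocus (D' : Set A) ⊆ T) (h : D' ≤ D) (x : Abelian.Ext.{u} (qq D) M i),
      φ D' hD' ((Abelian.Ext.mk₀ (qmap h)).comp x (zero_add i)) = φ D hD x) :
    ∃ Φ : ((HF T i).obj M : Type u) →ₗ[A] N, ∀ D hD x, Φ (ι T i M D hD x) = φ D hD x := by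
  exact exists_desc_aux (ι T i M) exists_ι (fun hD hD' h x => ι_comp hD hD' h x)
    (fun D hD x => (ι_eq_zero_iff hD x).1) φ hφ

theorem smul_map {M' : ModuleCat.{u} A} (a : A) (f : M ⟶ M') (x : (HF T i).obj M) :
    ((HF T i).map (a • f)).hom x = a • ((HF T i).map f).hom x := by
  obtain ⟨D, hD, y, rfl⟩ := exists_ι x
  rw [map_ι, map_ι, Abelian.Ext.mk₀_smul, Abelian.Ext.comp_smul, map_smul]

theorem map_zero' {M' : ModuleCat.{u} A} (x : (HF T i).obj M) :
    ((HF T i).map (0 : M ⟶ M')).hom x = 0 := by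
  obtain ⟨D, hD, y, rfl⟩ := exists_ι x
  rw [map_ι, Abelian.Ext.mk₀_zero, Abelian.Ext.comp_zero, map_zero]

section incl

variable {T' : Set (PrimeSpectrum A)}

/-- The map between two supports. -/
theorem exists_incl (h : T' ⊆ T) (i : ℕ) (M : ModuleCat.{u} A) :
    ∃ Φ : ((HF T' i).obj M : Type u) →ₗ[A] ((HF T i).obj M : Type u),
      ∀ D hD x, Φ (ι T' i M D hD x) = ι T i M D (hD.trans h) x :=
  exists_desc (fun D hD => ι T i M D (hD.trans h)) fun _ _ hD hD' hle x => ι_comp (hD.trans h) (hD'.trans h) hle x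

/-- The map between two supports. -/
def incl (h : T' ⊆ T) (i : ℕ) (M : ModuleCat.{u} A) :
    ((HF T' i).obj M : Type u) →ₗ[A] ((HF T i).obj M : Type u) :=
  (exists_incl h i M).choose

theorem incl_ι (h : T' ⊆ T) {D : Ideal A} (hD : PrimeSpectrum.zeroLocus (D : Set A) ⊆ T')
    (x : Abelian.Ext.{u} (qq D) M i) : incl h i M (ι T' i M D hD x) = ι T i M D (hD.trans h) x :=
  (exists_incl h i M).choose_spec D hD x

theorem map_incl (h : T' ⊆ T) {M' : ModuleCat.{u} A} (f : M ⟶ M') (x : (HF T' i).obj M) :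
    ((HF T i).map f).hom (incl h i M x) = incl h i M' (((HF T' i).map f).hom x) := by
  obtain ⟨D, hD, y, rfl⟩ := exists_ι x
  rw [incl_ι, map_ι, map_ι, incl_ι]

theorem incl_incl {T'' : Set (PrimeSpectrum A)} (h' : T'' ⊆ T') (h : T' ⊆ T) (x : (HF T'' i).obj M) :
    incl h i M (incl h' i M x) = incl (h'.trans h) i M x := by
  obtain ⟨D, hD, y, rfl⟩ := exists_ι x
  rw [incl_ι, incl_ι, incl_ι]

theorem incl_self (x : (HF T i).obj M) : incl (subset_refl T) i M x = x := by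
  obtain ⟨D, hD, y, rfl⟩ := exists_ι x
  rw [incl_ι]

theorem eq_zero_of_empty (x : (HF (∅ : Set (PrimeSpectrum A)) i).obj M) : x = 0 := by
  obtain ⟨D, hD, y, rfl⟩ := exists_ι x
  obtain rfl : D = ⊤ := PrimeSpectrum.zeroLocus_empty_iff_eq_top.1 (Set.subset_empty_iff.1 hD)
  have h1 : 𝟙 (qq (⊤ : Ideal A)) = 0 := (ModuleCat.isZero_of_subsingleton _).eq_of_src _ _
  rw [← Abelian.Ext.mk₀_id_comp y, h1, Abelian.Ext.mk₀_zero, Abelian.Ext.zero_comp, map_zero]

end incl

section powers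

variable [IsNoetherianRing A] (I : Ideal A)

theorem zeroLocus_pow_subset (n : ℕ) :
    PrimeSpectrum.zeroLocus ((I ^ n : Ideal A) : Set A) ⊆ PrimeSpectrum.zeroLocus (I : Set A) := fun p hp =>
  (PrimeSpectrum.mem_zeroLocus _ _).2 (p.2.le_of_pow_le ((PrimeSpectrum.mem_zeroLocus _ _).1 hp))

theorem exists_pow_le {D : Ideal A} (hD : PrimeSpectrum.zeroLocus (D : Set A) ⊆ PrimeSpectrum.zeroLocus (I : Set A)) :
    ∃ n, I ^ n ≤ D :=
  Ideal.exists_pow_le_of_le_radical_of_fg ((PrimeSpectrum.zeroLocus_subset_zeroLocus_iff D I).1 hD)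
    (IsNoetherian.noetherian _)

/-- Cohomology with supports in `V(I)` is local cohomology in `I`. -/
theorem exists_equiv_H (i : ℕ) (M : ModuleCat.{u} A) :
    ∃ Φ : ((localCohomology I i).obj M : Type u) →ₗ[A] ((HF (PrimeSpectrum.zeroLocus (I : Set A)) i).obj M : Type u),
      Function.Bijective Φ ∧ ∀ n x, Φ (LocCohLib.ι I i M n x) = ι _ i M (I ^ n) (zeroLocus_pow_subset I n) x := by
  let φ : ∀ n, Abelian.Ext.{u} (LocCohLib.quot I n) M i →ₗ[A]
      ((HF (PrimeSpectrum.zeroLocus (I : Set A)) i).obj M : Type u) :=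
    fun n => ι _ i M (I ^ n) (zeroLocus_pow_subset I n)
  have hφ : ∀ (n m : ℕ) (h : n ≤ m) (x : Abelian.Ext.{u} (LocCohLib.quot I n) M i),
      φ m ((Abelian.Ext.mk₀ (LocCohLib.qmap I h)).comp x (zero_add i)) = φ n x :=
    fun n m h x => ι_comp _ _ (Ideal.pow_le_pow_right h) x
  refine ⟨LocCohLib.desc φ hφ, ⟨(injective_iff_map_eq_zero _).2 fun z hz => ?_, fun z => ?_⟩,
    fun n x => LocCohLib.desc_ι φ hφ n x⟩
  · obtain ⟨n, x, rfl⟩ := LocCohLib.exists_ι z
    rw [LocCohLib.desc_ι] at hz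
    obtain ⟨D, hD, h, h0⟩ := (ι_eq_zero_iff _ _).1 hz
    obtain ⟨m, hm⟩ := exists_pow_le I hD
    refine (LocCohLib.ι_eq_zero_iff x).2 ⟨max n m, le_max_left _ _, ?_⟩
    have h1 : LocCohLib.qmap I (le_max_left n m) =
        qmap ((Ideal.pow_le_pow_right (le_max_right n m)).trans hm) ≫ qmap h := by
      ext z; rfl
    rw [h1, ← Abelian.Ext.mk₀_comp_mk₀, Abelian.Ext.comp_assoc_of_second_deg_zero, h0, Abelian.Ext.comp_zero]
  · obtain ⟨D, hD, x, rfl⟩ := exists_ι z
    obtain ⟨m, hm⟩ := exists_pow_le I hD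
    exact ⟨LocCohLib.ι I i M m ((Abelian.Ext.mk₀ (qmap hm)).comp x (zero_add i)),
      (LocCohLib.desc_ι φ hφ m _).trans (ι_comp hD _ hm x)⟩

end powers

end Groth.Agent.HTLib
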