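import Groth.Agent.HTLib.FlatBC
import Groth.Agent.DualCxLib.InjRep
import Groth.Agent.DualCxLib.Shift

/-!
# The dual condition and its localisation
-/

set_option autoImplicit false
set_option linter.style.haveILetI false
set_option backward.isDefEq.respectTransparency false
set_option maxRecDepth 4000

universe u

open CategoryTheory TensorProduct
attribute [local instance] HasDerivedCategory.standard

noncomputable section

namespace Groth.Agent.HTLib

open DualCxLib (InjRep HK pre sMap hkShift)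

variable {A : Type u} [CommRing A] {M N P : Type u} [AddCommGroup M] [Module A M] [AddCommGroup N] [Module A N]
  [AddCommGroup P] [Module A P]

/-- The image of `φ^*` lies in that of `ψ^*` in degree `k`. -/
def DualLe (ω : Dual.D A) (k : ℤ) (φ : M →ₗ[A] N) (ψ : M →ₗ[A] P) : Prop :=
  LinearMap.range (pre ω k φ) ≤ LinearMap.range (pre ω k ψ)

/-- The same after inverting the elements outside `q`. -/
def DualLeAt (ω : Dual.D A) (q : PrimeSpectrum A) (k : ℤ) (φ : M →ₗ[A] N) (ψ : M →ₗ[A] P) : Prop :=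
  ∀ e : HK ω k N, ∃ s ∉ q.asIdeal, s • pre ω k φ e ∈ LinearMap.range (pre ω k ψ)

theorem pre_hkShift (ω : Dual.D A) (c k : ℤ) (φ : M →ₗ[A] N) (u : HK (ω⟦c⟧) k N) :
    hkShift ω c k M (pre (ω⟦c⟧) k φ u) = pre ω (c + k) φ (hkShift ω c k N u) := by
  simp [DualCxLib.hkShift, Linear.homCongr_apply, DualCxLib.pre_apply]

theorem dualLe_shift_iff (ω : Dual.D A) (c k : ℤ) (φ : M →ₗ[A] N) (ψ : M →ₗ[A] P) :
    DualLe (ω⟦c⟧) k φ ψ ↔ DualLe ω (c + k) φ ψ := by
  refine ⟨?_, ?_⟩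
  · rintro h _ ⟨u, rfl⟩
    obtain ⟨u, rfl⟩ := (hkShift ω c k N).surjective u
    obtain ⟨v, hv⟩ := h ⟨u, rfl⟩
    exact ⟨hkShift ω c k P v, by rw [← pre_hkShift, ← pre_hkShift, hv]⟩
  · rintro h _ ⟨u, rfl⟩
    obtain ⟨v, hv⟩ := h ⟨hkShift ω c k N u, rfl⟩
    obtain ⟨v, rfl⟩ := (hkShift ω c k P).surjective v
    rw [← pre_hkShift, ← pre_hkShift] at hv
    exact ⟨v, (hkShift ω c k M).injective hv⟩

section Lift

variable {B : Type u} [CommRing B] [Algebra A B]

theorem exists_lift_bc {Z : Type u} [AddCommGroup Z] [Module B Z] (g : M →+ Z)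
    (hg : ∀ (a : A) m, g (a • m) = algebraMap A B a • g m) :
    ∃ G : B ⊗[A] M →ₗ[B] Z, ∀ m, G ((1 : B) ⊗ₜ m) = g m := by
  letI : Module A Z := Module.compHom Z (algebraMap A B)
  haveI : IsScalarTower A B Z := ⟨fun a b z => by
    show (a • b) • z = algebraMap A B a • b • z
    rw [Algebra.smul_def, mul_smul]⟩
  exact ⟨LinearMap.liftBaseChange B ({ toFun := g, map_add' := map_add g, map_smul' := hg } : M →ₗ[A] Z),
    fun m => (LinearMap.liftBaseChange_tmul _ _ _ _).trans (one_smul B _)⟩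

theorem bc_ext {Z : Type u} [AddCommGroup Z] [Module B Z] {G G' : B ⊗[A] M →ₗ[B] Z}
    (h : ∀ m, G ((1 : B) ⊗ₜ m) = G' ((1 : B) ⊗ₜ m)) : G = G' := by
  refine LinearMap.ext fun w => ?_
  induction w using TensorProduct.induction_on with
  | zero => rw [map_zero, map_zero]
  | tmul b m => rw [show b ⊗ₜ[A] m = b • ((1 : B) ⊗ₜ[A] m) by rw [TensorProduct.smul_tmul', smul_eq_mul, mul_one],
      map_smul, map_smul, h]
  | add x y hx hy => rw [map_add, map_add, hx, hy]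

variable {q : PrimeSpectrum A} {Y Z : Type u} [AddCommGroup Y] [Module A Y] [AddCommGroup Z] [Module B Z]
  (l : Y →+ Z) (hl : ∀ (a : A) y, l (a • y) = algebraMap A B a • l y)
  (hsurj : ∀ z, ∃ y, ∃ s ∉ q.asIdeal, algebraMap A B s • z = l y)
  (hker : ∀ y, l y = 0 → ∃ s ∉ q.asIdeal, s • y = 0)

include hl hker in
theorem exists_smul_hom_eq_zero [Module.Finite A M] (g : M →ₗ[A] Y) (hg : ∀ m, l (g m) = 0) :
    ∃ s ∉ q.asIdeal, s • g = 0 := by
  classical
  obtain ⟨S, hS⟩ := Module.Finite.fg_top (R := A) (M := M)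
  choose s hs hs0 using fun m => hker _ (hg m)
  refine ⟨∏ m ∈ S, s m, fun h => ?_, LinearMap.ext_on hS fun m hm => ?_⟩
  · obtain ⟨m, -, h'⟩ := Ideal.IsPrime.prod_mem_iff.1 h
    exact hs m h'
  · rw [LinearMap.smul_apply, LinearMap.zero_apply, ← Finset.prod_erase_mul S s hm, mul_smul, hs0, smul_zero]

include hl hsurj hker in
theorem exists_hom_lift [IsNoetherianRing A] [Module.Finite A M] (g : M →+ Z)
    (hg : ∀ (a : A) m, g (a • m) = algebraMap A B a • g m) (hu : ∀ s ∉ q.asIdeal, IsUnit (algebraMap A B s)) :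
    ∃ (f : M →ₗ[A] Y) (s : A), s ∉ q.asIdeal ∧ ∀ m, l (f m) = algebraMap A B s • g m := by
  letI : Module A Z := Module.compHom Z (algebraMap A B)
  let L : Y →ₗ[A] Z := { toFun := l, map_add' := map_add l, map_smul' := hl }
  haveI : IsLocalizedModule q.asIdeal.primeCompl L :=
    { map_units := fun x => (Module.End.isUnit_iff _).2 ⟨fun z z' h => (hu x x.2).smul_left_cancel.1 h, fun z => by
        obtain ⟨v, hv⟩ := (hu x x.2).exists_right_inv
        exact ⟨v • z, show algebraMap A B x • v • z = z by rw [smul_smul, hv, one_smul]⟩⟩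
      surj := fun z => by
        obtain ⟨y, s, hs, h⟩ := hsurj z
        exact ⟨⟨y, ⟨s, hs⟩⟩, h⟩
      exists_of_eq := fun {y y'} h => by
        obtain ⟨s, hs, h0⟩ := hker (y - y') (by rw [map_sub, show l y = l y' from h, sub_self])
        exact ⟨⟨s, hs⟩, by rwa [smul_sub, sub_eq_zero] at h0⟩ }
  haveI := Module.finitePresentation_of_finite A M
  let G : M →ₗ[A] Z := { toFun := g, map_add' := map_add g, map_smul' := hg }
  obtain ⟨f, s, h⟩ := Module.FinitePresentation.exists_lift_of_isLocalizedModule q.asIdeal.primeCompl L G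
  exact ⟨f, s, s.2, fun m => LinearMap.congr_fun h m⟩

end Lift

section Loc

variable [IsNoetherianRing A] (q : PrimeSpectrum A) (B : Type u) [CommRing B] [Algebra A B]
  [IsLocalization.AtPrime B q.asIdeal] {ω : Dual.D A} (S : InjRep ω) {ω' : Dual.D B} (S' : InjRep ω')
  (l : ∀ i, S.E.X i →+ S'.E.X i)
  (hl : ∀ i (a : A) y, l i (a • y) = algebraMap A B a • l i y)
  (hsurj : ∀ i z, ∃ y, ∃ s ∉ q.asIdeal, algebraMap A B s • z = l i y)
  (hker : ∀ i y, l i y = 0 → ∃ s ∉ q.asIdeal, s • y = 0)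
  (hd : ∀ i j y, S'.E.d i j (l i y) = l j (S.E.d i j y))

include hl hsurj hker hd in
/-- The dual condition at `q` is the one over the local ring. -/
theorem dualLe_loc_iff [Module.Finite A M] [Module.Finite A N] [Module.Finite A P] (k : ℤ) (φ : M →ₗ[A] N)
    (ψ : M →ₗ[A] P) : DualLe ω' k (φ.baseChange B) (ψ.baseChange B) ↔ DualLeAt ω q k φ ψ := by
  have hu : ∀ s ∉ q.asIdeal, IsUnit (algebraMap A B s) := fun s hs =>
    IsLocalization.map_units B (⟨s, hs⟩ : q.asIdeal.primeCompl)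
  have hcoc : ∀ {R : Type u} [AddCommGroup R] [Module A R] (F : S'.Z (B ⊗[A] R) k) (r : R),
      S'.E.d k (k + 1) (F.1 ((1 : B) ⊗ₜ r)) = 0 := fun F r => (S'.mem_Z F.1).1 F.2 _
  have hsem : ∀ {R : Type u} [AddCommGroup R] [Module A R] {i : ℤ} (F : B ⊗[A] R →ₗ[B] S'.E.X i) (a : A) (r : R),
      F ((1 : B) ⊗ₜ (a • r)) = algebraMap A B a • F ((1 : B) ⊗ₜ r) := fun F a r => by
    rw [TensorProduct.tmul_smul, ← algebraMap_smul B a ((1 : B) ⊗ₜ[A] r), map_smul]
  constructor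
  · intro h e
    obtain ⟨f, rfl⟩ := S.toHK_surjective k e
    obtain ⟨F, hF⟩ := exists_lift_bc (B := B) ((l k).comp f.1.toAddMonoidHom) fun (a : A) (m : N) => by
      show l k (f.1 (a • m)) = _
      rw [map_smul, hl]
      rfl
    have hFZ : F ∈ S'.Z (B ⊗[A] N) k := by
      refine (S'.mem_Z F).2 fun w => ?_
      have h0 : (S'.E.d k (k + 1)).hom ∘ₗ F = 0 := bc_ext fun m => by
        show (S'.E.d k (k + 1)).hom (F ((1 : B) ⊗ₜ m)) = 0
        rw [hF]
        show (S'.E.d k (k + 1)).hom (l k (f.1 m)) = 0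
        rw [hd, show S.E.d k (k + 1) (f.1 m) = 0 from (S.mem_Z f.1).1 f.2 m, map_zero]
      exact LinearMap.congr_fun h0 w
    obtain ⟨e', he'⟩ := h ⟨S'.toHK k ⟨F, hFZ⟩, rfl⟩
    obtain ⟨G, rfl⟩ := S'.toHK_surjective k e'
    rw [← S'.toHK_comp, ← S'.toHK_comp, ← sub_eq_zero, ← map_sub, S'.toHK_eq_zero_iff] at he'
    obtain ⟨H, hH⟩ := he'
    obtain ⟨g, s₁, hs₁, hg⟩ := exists_hom_lift (l k) (hl k) (hsurj k) (hker k)
      ((G.1 : B ⊗[A] P →ₗ[B] _).toAddMonoidHom.comp (TensorProduct.mk A B P 1).toAddMonoidHom)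
      (fun a r => hsem G.1 a r) hu
    obtain ⟨m₀, s₂, hs₂, hm₀⟩ := exists_hom_lift (l (k - 1)) (hl _) (hsurj _) (hker _)
      ((H : B ⊗[A] M →ₗ[B] _).toAddMonoidHom.comp (TensorProduct.mk A B M 1).toAddMonoidHom)
      (fun a r => hsem H a r) hu
    obtain ⟨t, ht, ht0⟩ := exists_smul_hom_eq_zero (l (k + 1)) (hl _) (hker _) ((S.E.d k (k + 1)).hom ∘ₗ g) fun r => by
      rw [LinearMap.comp_apply, ← hd, hg, map_smul]
      exact (congrArg (algebraMap A B s₁ • ·) (hcoc G r)).trans (smul_zero _)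
    -- the defect of the lifted identity
    let Δ : M →ₗ[A] S.E.X k := s₂ • (g ∘ₗ ψ) - (s₁ * s₂) • (f.1 ∘ₗ φ) - s₁ • ((S.E.d (k - 1) k).hom ∘ₗ m₀)
    obtain ⟨w, hw, hw0⟩ := exists_smul_hom_eq_zero (l k) (hl k) (hker k) Δ fun r => by
      have h1 : S'.E.d (k - 1) k (H ((1 : B) ⊗ₜ r)) = G.1 ((1 : B) ⊗ₜ ψ r) - l k (f.1 (φ r)) := by
        refine (hH _).trans ?_
        show G.1 (ψ.baseChange B ((1 : B) ⊗ₜ r)) - F (φ.baseChange B ((1 : B) ⊗ₜ r)) = _
        rw [LinearMap.baseChange_tmul, LinearMap.baseChange_tmul, hF]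
        rfl
      have h2 : l k (S.E.d (k - 1) k (m₀ r)) = algebraMap A B s₂ • (G.1 ((1 : B) ⊗ₜ ψ r) - l k (f.1 (φ r))) := by
        rw [← h1, ← hd, ← map_smul, hm₀]
        rfl
      show l k (s₂ • g (ψ r) - (s₁ * s₂) • f.1 (φ r) - s₁ • S.E.d (k - 1) k (m₀ r)) = 0
      rw [map_sub, map_sub, hl, hl, hl, h2, hg]
      show algebraMap A B s₂ • algebraMap A B s₁ • G.1 ((1 : B) ⊗ₜ ψ r) - _ - _ = 0
      rw [map_mul]
      module
    have hgZ : (w * t * s₂) • g ∈ S.Z P k := (S.mem_Z _).2 fun r => by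
      have h0 : t • S.E.d k (k + 1) (g r) = 0 := LinearMap.congr_fun ht0 r
      rw [LinearMap.smul_apply, map_smul, show w * t * s₂ = (w * s₂) * t by ring, mul_smul, h0, smul_zero]
    refine ⟨w * t * (s₁ * s₂), q.2.mul_notMem (q.2.mul_notMem hw ht) (q.2.mul_notMem hs₁ hs₂),
      S.toHK k ⟨_, hgZ⟩, ?_⟩
    rw [← map_smul, ← map_smul, ← S.toHK_comp, ← S.toHK_comp, ← sub_eq_zero, ← map_sub, S.toHK_eq_zero_iff]
    refine ⟨(w * t * s₁) • m₀, fun r => ?_⟩
    show S.E.d (k - 1) k ((w * t * s₁) • m₀ r) = (w * t * s₂) • g (ψ r) - (w * t * (s₁ * s₂)) • f.1 (φ r)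
    have h0 : w • (s₂ • g (ψ r) - (s₁ * s₂) • f.1 (φ r) - s₁ • S.E.d (k - 1) k (m₀ r)) = 0 := LinearMap.congr_fun hw0 r
    rw [smul_sub, smul_sub, smul_smul, smul_smul, smul_smul, sub_eq_zero] at h0
    have h0' := congrArg (t • ·) h0
    simp only [smul_sub, smul_smul] at h0'
    rw [map_smul, show w * t * s₁ = t * (w * s₁) by ring, show w * t * s₂ = t * (w * s₂) by ring,
      show w * t * (s₁ * s₂) = t * (w * (s₁ * s₂)) by ring]
    exact h0'.symm
  · rintro h _ ⟨e, rfl⟩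
    obtain ⟨F, rfl⟩ := S'.toHK_surjective k e
    obtain ⟨f, s₁, hs₁, hf⟩ := exists_hom_lift (l k) (hl k) (hsurj k) (hker k)
      ((F.1 : B ⊗[A] N →ₗ[B] _).toAddMonoidHom.comp (TensorProduct.mk A B N 1).toAddMonoidHom)
      (fun a r => hsem F.1 a r) hu
    obtain ⟨t, ht, ht0⟩ := exists_smul_hom_eq_zero (l (k + 1)) (hl _) (hker _) ((S.E.d k (k + 1)).hom ∘ₗ f) fun r => by
      rw [LinearMap.comp_apply, ← hd, hf, map_smul]
      exact (congrArg (algebraMap A B s₁ • ·) (hcoc F r)).trans (smul_zero _)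
    have hfZ : t • f ∈ S.Z N k := (S.mem_Z _).2 fun r => by
      rw [LinearMap.smul_apply, map_smul]
      exact LinearMap.congr_fun ht0 r
    obtain ⟨s, hs, e', he'⟩ := h (S.toHK k ⟨t • f, hfZ⟩)
    obtain ⟨g, rfl⟩ := S.toHK_surjective k e'
    rw [← map_smul, ← map_smul, ← S.toHK_comp, ← S.toHK_comp, ← sub_eq_zero, ← map_sub, S.toHK_eq_zero_iff] at he'
    obtain ⟨m₀, hm₀⟩ := he'
    obtain ⟨u, hu'⟩ := ((hu s hs).mul ((hu t ht).mul (hu s₁ hs₁))).exists_left_inv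
    obtain ⟨G, hG⟩ := exists_lift_bc (B := B) ((l k).comp g.1.toAddMonoidHom) fun (a : A) (m : P) => by
      show l k (g.1 (a • m)) = _
      rw [map_smul, hl]
      rfl
    obtain ⟨H, hH⟩ := exists_lift_bc (B := B) ((l (k - 1)).comp m₀.toAddMonoidHom) fun (a : A) (m : M) => by
      show l (k - 1) (m₀ (a • m)) = _
      rw [map_smul, hl]
      rfl
    have hGZ : u • G ∈ S'.Z (B ⊗[A] P) k := by
      refine (S'.mem_Z _).2 fun w => ?_
      have h0 : (S'.E.d k (k + 1)).hom ∘ₗ G = 0 := bc_ext fun m => by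
        show (S'.E.d k (k + 1)).hom (G ((1 : B) ⊗ₜ m)) = 0
        rw [hG]
        show (S'.E.d k (k + 1)).hom (l k (g.1 m)) = 0
        rw [hd, show S.E.d k (k + 1) (g.1 m) = 0 from (S.mem_Z g.1).1 g.2 m, map_zero]
      rw [LinearMap.smul_apply, map_smul]
      exact (congrArg (u • ·) (LinearMap.congr_fun h0 w)).trans (smul_zero u)
    refine ⟨S'.toHK k ⟨u • G, hGZ⟩, ?_⟩
    rw [← S'.toHK_comp, ← S'.toHK_comp, ← sub_eq_zero, ← map_sub, S'.toHK_eq_zero_iff]
    refine ⟨u • H, fun w => ?_⟩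
    suffices h0 : (S'.E.d (k - 1) k).hom ∘ₗ (u • H) = (u • G) ∘ₗ ψ.baseChange B - F.1 ∘ₗ φ.baseChange B from
      LinearMap.congr_fun h0 w
    refine bc_ext fun r => ?_
    show (S'.E.d (k - 1) k).hom (u • H ((1 : B) ⊗ₜ r)) =
      u • G (ψ.baseChange B ((1 : B) ⊗ₜ r)) - F.1 (φ.baseChange B ((1 : B) ⊗ₜ r))
    rw [map_smul, LinearMap.baseChange_tmul, LinearMap.baseChange_tmul, hH, hG]
    show u • (S'.E.d (k - 1) k).hom (l (k - 1) (m₀ r)) = u • l k (g.1 (ψ r)) - F.1 ((1 : B) ⊗ₜ φ r)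
    rw [hd, show S.E.d (k - 1) k (m₀ r) = g.1 (ψ r) - s • t • f (φ r) from hm₀ r, map_sub, hl, hl, hf, smul_sub]
    congr 1
    show u • algebraMap A B s • algebraMap A B t • algebraMap A B s₁ • F.1 ((1 : B) ⊗ₜ φ r) = _
    rw [smul_smul, smul_smul, smul_smul,
      show u * algebraMap A B s * algebraMap A B t * algebraMap A B s₁ =
        u * (algebraMap A B s * (algebraMap A B t * algebraMap A B s₁)) by ring, hu', one_smul]

end Loc

end Groth.Agent.HTLib
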