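import Groth.Agent.HTLib.Torsion

/-!
# Cohomology with supports and its formal limit
-/

set_option autoImplicit false
set_option linter.style.haveILetI false
set_option backward.isDefEq.respectTransparency false
set_option maxRecDepth 4000

universe u

open CategoryTheory Limits

noncomputable section

namespace Groth.Agent.HTLib

variable {A : Type u} [CommRing A] (T : Set (PrimeSpectrum A)) (I : Ideal A) (M : Type u) [AddCommGroup M] [Module A M]

variable {T I M} {i : ℕ}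

theorem exists_injective_level (hZ : ProZ T I M i) : ∃ m, ∀ k, m ≤ k → ∀ x : (HF T i).obj (ModuleCat.of A M),
    hm T i (pw I M k).mkQ x = 0 → x = 0 := by
  obtain ⟨m, hm0⟩ := hZ.ge 0
  refine ⟨m, fun k hk x hx => ?_⟩
  obtain ⟨w, rfl⟩ := exists_of_map_g_eq_zero (pwSC_shortExact I M k) i x hx
  show hm T i (pw I M k).subtype w = 0
  rw [← hm_hm (show (pw I M 0).subtype ∘ₗ pwMap I M (Nat.zero_le k) = (pw I M k).subtype from rfl),
    hm0 k (Nat.zero_le k) hk]
  exact map_zero _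

theorem exists_pow_kills (hZ : ProZ T I M i) :
    ∃ n : ℕ, ∀ a ∈ I ^ n, ∀ x : (HF T i).obj (ModuleCat.of A M), a • x = 0 := by
  obtain ⟨m, h, hm0⟩ := hZ 0
  refine ⟨m, fun a ha x => ?_⟩
  let μ : M →ₗ[A] ↥(pw I M m) :=
    LinearMap.codRestrict _ (LinearMap.lsmul A M a) fun _ => Submodule.smul_mem_smul ha trivial
  have e : ((pw I M 0).subtype ∘ₗ pwMap I M h) ∘ₗ μ = a • LinearMap.id := rfl
  rw [← hm_id x, ← hm_smul, ← e, hm_comp, hm_comp, hm0]
  exact map_zero _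

variable [IsNoetherianRing A] [Module.Finite A M] {s : ℕ}

/-- Connecting images of high reductions die. -/
theorem exists_δ_dies (hZ : ∀ i ≤ s, ProZ T I M i)
    (hG : ∃ m₀, ∀ m, m₀ ≤ m → ∃ m', m ≤ m' ∧ ∀ (k : ℕ) (h : m ≤ k), m' ≤ k → ∀ (h₀ : m₀ ≤ k) (x),
      hm T (s + 1) (pwMap I M h₀) x = 0 → hm T (s + 1) (pwMap I M h) x = 0)
    (hi : i ≤ s) (n : ℕ) : ∃ K, n ≤ K ∧ ∀ (k : ℕ) (h : n ≤ k), K ≤ k → ∀ y : (HF T (i + 1)).obj (ModuleCat.of A (pw I M k)),
      hm T (i + 1) (pw I M k).subtype y = 0 → hm T (i + 1) (pwMap I M h) y = 0 := by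
  rcases eq_or_lt_of_le hi with rfl | hlt
  swap
  · obtain ⟨K, hK⟩ := (hZ (i + 1) hlt).ge n
    exact ⟨max K n, le_max_right _ _, fun k h hk y _ => hK k h ((le_max_left _ _).trans hk) y⟩
  obtain ⟨m₀, hm₀⟩ := hG
  obtain ⟨K₁, hK₁⟩ := tors_pow T I (tors_of_proZ T I (i + 1) M fun j hj => hZ j (by omega)) m₀ n
  let l := max (max K₁ n) m₀
  obtain ⟨m', hlm', hm'⟩ := hm₀ l (le_max_right _ _)
  have hnl : n ≤ l := (le_max_right _ _).trans (le_max_left _ _)
  refine ⟨m', hnl.trans hlm', fun k h hk y hy => ?_⟩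
  have hlk : l ≤ k := hlm'.trans hk
  have h₀ : m₀ ≤ k := (le_max_right _ _).trans hlk
  rw [← hm_hm (show pwMap I M hnl ∘ₗ pwMap I M hlk = pwMap I M h from rfl)]
  refine hK₁ l hnl ((le_max_left _ _).trans (le_max_left _ _)) _ fun a ha => ?_
  rw [← map_smul]
  refine hm' k hlk hk h₀ (a • y) ?_
  let μ : M →ₗ[A] ↥(pw I M m₀) :=
    LinearMap.codRestrict _ (LinearMap.lsmul A M a) fun _ => Submodule.smul_mem_smul ha trivial
  have e : μ ∘ₗ (pw I M k).subtype = a • pwMap I M h₀ := rfl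
  rw [hm, map_smul]
  show a • hm T (i + 1) (pwMap I M h₀) y = 0
  rw [← hm_smul, ← e, hm_comp, hy]
  exact map_zero _

/-- The images from high reductions come from `M`. -/
theorem exists_stage_formal (hZ : ∀ i ≤ s, ProZ T I M i)
    (hG : ∃ m₀, ∀ m, m₀ ≤ m → ∃ m', m ≤ m' ∧ ∀ (k : ℕ) (h : m ≤ k), m' ≤ k → ∀ (h₀ : m₀ ≤ k) (x),
      hm T (s + 1) (pwMap I M h₀) x = 0 → hm T (s + 1) (pwMap I M h) x = 0)
    (hi : i ≤ s) (n : ℕ) : ∃ K, n ≤ K ∧ ∀ (k : ℕ) (h : n ≤ k), K ≤ k → ∀ z : (HF T i).obj (ModuleCat.of A (M ⧸ pw I M k)),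
      ∃ x, hm T i (pw I M n).mkQ x = hm T i (AdicCompletion.transitionMap I M h) z := by
  obtain ⟨K, hn, hK⟩ := exists_δ_dies hZ hG hi n
  refine ⟨K, hn, fun k h hk z => exists_of_δ_eq_zero (pwSC_shortExact I M n) i _ ?_⟩
  refine Eq.trans ?_ (hK k h hk (δ T (pwSC_shortExact I M k) i z) (map_f_δ (pwSC_shortExact I M k) i z))
  refine Eq.trans ?_ (δ_naturality (pwSC_shortExact I M k) (pwSC_shortExact I M n) (pwHom I M h) i z).symm
  refine congrArg (fun f => δ T (pwSC_shortExact I M n) i (((HF T i).map f).hom z)) ?_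
  exact ModuleCat.hom_ext (Submodule.linearMap_qext _ rfl)

theorem compat_aux {Q : ℕ → Type u} (tr : ∀ {n k : ℕ}, n ≤ k → Q k → Q n) (hid : ∀ n x, tr (le_refl n) x = x)
    (hcomp : ∀ {n k l : ℕ} (h : n ≤ k) (h' : k ≤ l) (x : Q l), tr h (tr h' x) = tr (h.trans h') x)
    (y : ∀ n, Q n) (hy : ∀ n, tr (Nat.le_succ n) (y (n + 1)) = y n) : ∀ (n k : ℕ) (h : n ≤ k), tr h (y k) = y n := by
  intro n k h
  induction k, h using Nat.le_induction with
  | base => exact hid n _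
  | succ k hk ih => rw [← hcomp hk (Nat.le_succ k), hy, ih]

theorem hm_transition_id (n : ℕ) (x : (HF T i).obj (ModuleCat.of A (M ⧸ pw I M n))) :
    hm T i (AdicCompletion.transitionMap I M (le_refl n)) x = x := by
  rw [show AdicCompletion.transitionMap I M (le_refl n) = LinearMap.id from Submodule.linearMap_qext _ rfl, hm_id]

omit [IsNoetherianRing A] [Module.Finite A M] in
theorem transitionMap_comp' {n k l : ℕ} (h : n ≤ k) (h' : k ≤ l) :
    AdicCompletion.transitionMap I M h ∘ₗ AdicCompletion.transitionMap I M h' =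
      AdicCompletion.transitionMap I M (h.trans h') :=
  Submodule.linearMap_qext _ (LinearMap.ext fun _ => rfl)

theorem hm_transition_comp {n k l : ℕ} (h : n ≤ k) (h' : k ≤ l)
    (x : (HF T i).obj (ModuleCat.of A (M ⧸ pw I M l))) :
    hm T i (AdicCompletion.transitionMap I M h) (hm T i (AdicCompletion.transitionMap I M h') x) =
      hm T i (AdicCompletion.transitionMap I M (h.trans h')) x :=
  hm_hm (transitionMap_comp' h h') x

/-- Compatible families in the reductions come from `M`. -/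
theorem exists_limit_formal (hZ : ∀ i ≤ s, ProZ T I M i)
    (hG : ∃ m₀, ∀ m, m₀ ≤ m → ∃ m', m ≤ m' ∧ ∀ (k : ℕ) (h : m ≤ k), m' ≤ k → ∀ (h₀ : m₀ ≤ k) (x),
      hm T (s + 1) (pwMap I M h₀) x = 0 → hm T (s + 1) (pwMap I M h) x = 0)
    (hi : i ≤ s) (y : ∀ n : ℕ, (HF T i).obj (ModuleCat.of A (M ⧸ pw I M (n + 1))))
    (hy : ∀ n, hm T i (AdicCompletion.transitionMap I M (Nat.le_succ (n + 1))) (y (n + 1)) = y n) :
    ∃ x, ∀ n, hm T i (pw I M (n + 1)).mkQ x = y n := by
  obtain ⟨m₁, hm₁⟩ := exists_injective_level (hZ i hi)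
  have hyt : ∀ (n k : ℕ) (h : n ≤ k),
      hm T i (AdicCompletion.transitionMap I M (Nat.succ_le_succ h)) (y k) = y n := by
    exact compat_aux (Q := fun n => (HF T i).obj (ModuleCat.of A (M ⧸ pw I M (n + 1))))
      (fun {n k} h => hm T i (AdicCompletion.transitionMap I M (Nat.succ_le_succ h))) (fun n => hm_transition_id _)
      (fun h h' => hm_transition_comp _ _) y hy
  have hex : ∀ n, ∃ x : (HF T i).obj (ModuleCat.of A M), hm T i (pw I M (n + 1)).mkQ x = y n := by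
    intro n
    obtain ⟨K, hK, hKz⟩ := exists_stage_formal hZ hG hi (n + 1)
    obtain ⟨x, hx⟩ := hKz (K + 1) (hK.trans K.le_succ) (Nat.le_succ K) (y K)
    exact ⟨x, hx.trans (hyt n K ((Nat.le_succ n).trans hK))⟩
  choose x hx using hex
  have key : ∀ a b (hab : a ≤ b), hm T i (pw I M (a + 1)).mkQ (x b) = y a := fun a b hab => by
    refine Eq.trans ?_ ((congrArg _ (hx b)).trans (hyt a b hab))
    exact (hm_hm (show AdicCompletion.transitionMap I M (Nat.succ_le_succ hab) ∘ₗ (pw I M (b + 1)).mkQ =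
      (pw I M (a + 1)).mkQ from rfl) (x b)).symm
  refine ⟨x m₁, fun n => ?_⟩
  rcases le_total n m₁ with h | h
  · exact key n m₁ h
  · have e : x n = x m₁ := sub_eq_zero.1 (hm₁ (m₁ + 1) (Nat.le_succ _) _
      (by rw [hm, map_sub, sub_eq_zero]; exact (key m₁ n h).trans (hx m₁).symm))
    rw [← e]
    exact hx n

end Groth.Agent.HTLib
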