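import Groth.Agent.HTLib.FormalG

/-!
# The colimit form of formal cohomology
-/

set_option autoImplicit false
set_option linter.style.haveILetI false
set_option backward.isDefEq.respectTransparency false
set_option maxRecDepth 4000

universe u

open CategoryTheory AlgebraicGeometry
attribute [local instance] HasDerivedCategory.standard

noncomputable section

namespace Groth.Agent.HTLib

variable {A : Type u} [CommRing A] [IsNoetherianRing A] {ω : Dual.D A} (hω : Dual.IsDualizing A ω) (I 𝔞 : Ideal A)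
  (hI : I ≤ 𝔞) [IsAdicComplete I A] (d : ℕ) (hd : LocCoh.CdLE A I d) (M : Type u) [AddCommGroup M] [Module A M]
  [Module.Finite A M] (s : ℕ)
  (h₂ : ∀ (p : Ideal A) [p.IsPrime], ¬ 𝔞 ≤ p → ¬ I ≤ p →
    (s : ℕ∞) < LocCoh.depth (Localization.AtPrime p) (LocalizedModule p.primeCompl M) ∨
      ∀ (q : Ideal A) [q.IsPrime], p ≤ q → 𝔞 ≤ q →
        ((d + s + 1 : ℕ) : WithBot ℕ∞) <
          ((LocCoh.depth (Localization.AtPrime p) (LocalizedModule p.primeCompl M) : ℕ∞) : WithBot ℕ∞) +
            Formal2.dimBetween A p q)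

omit [IsNoetherianRing A] [IsAdicComplete I A] [Module.Finite A M] in
/-- Restriction commutes with maps of modules. -/
theorem HVres_HVmap {N : Type u} [AddCommGroup N] [Module A N] (φ : M →ₗ[A] N) (i : ℕ)
    {V V' : (Spec (CommRingCat.of A)).Opens} (h : V' ≤ V) (x : Formal2.HV A M i V) :
    Formal2.HVres A N i h (Formal2.HVmap A φ i V x) = Formal2.HVmap A φ i V' (Formal2.HVres A M i h x) :=
  (congr($(((CategoryTheory.Sheaf.cohomologyPresheafFunctor _ i).map
    ((SheafOfModules.toSheaf _).map (Formal2.tmodMap A φ))).naturality (homOfLE h).op) x)).symm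

/-- Bijectivity on a complement from the limit properties in its support. -/
theorem formalCohBijective_of_lim [IsAdicComplete I M] (J : Ideal A) (s : ℕ)
    (h : ∀ i ≤ s + 1, LimInj J I M i ∧ LimSurj J I M i) (hst : TorStage J I M) (i : ℕ) (hi : i ≤ s) :
    Formal2.FormalCohBijective A I M i (LocCoh.puncturedOpen A J) := by
  rcases i with _ | i
  · exact formalCohBijective_zero (h 1 (by omega)).1 (h 1 (by omega)).2 (h 0 (by omega)).2 hst
  · exact formalCohBijective_succ i (h (i + 2) (by omega)).1 (h (i + 2) (by omega)).2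

include hω hI hd h₂ in
theorem formalCohBijective_lt (i : ℕ) (hi : i < s) :
    Formal2.FormalCohBijective A I M i (LocCoh.puncturedOpen A 𝔞) := by
  haveI : IsAdicComplete I M := FiniteCompleteLib.isAdicComplete_of_finite I M
  obtain ⟨t, rfl⟩ : ∃ t, s = t + 1 := ⟨s - 1, by omega⟩
  refine formalCohBijective_of_lim I M 𝔞 t (fun j hj => ?_)
    (formal_support I M hω 𝔞 hI d hd (t + 1) h₂ 0 (Nat.zero_le _)).2.2 i (by omega)
  obtain ⟨h1, h2, -⟩ := formal_support I M hω 𝔞 hI d hd (t + 1) h₂ j hj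
  exact ⟨h1, h2⟩

include hω hI hd h₂ in
/-- Bijectivity on the small admissible opens. -/
theorem exists_admissible_bijective : ∃ V₀ : (Spec (CommRingCat.of A)).Opens,
    Formal2.Admissible A I (LocCoh.puncturedOpen A 𝔞) V₀ ∧
      ∀ V : (Spec (CommRingCat.of A)).Opens, Formal2.Admissible A I (LocCoh.puncturedOpen A 𝔞) V → V ≤ V₀ →
        ∀ i ≤ s, Formal2.FormalCohBijective A I M i V := by
  haveI : IsAdicComplete I M := FiniteCompleteLib.isAdicComplete_of_finite I M
  obtain ⟨J₀, hJ₀, hJI₀, h⟩ := exists_formal_carrier I M hω 𝔞 hI d hd s h₂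
  refine ⟨LocCoh.puncturedOpen A J₀,
    ⟨fun p hp hpa => hp (PrimeSpectrum.zeroLocus_anti_mono_ideal hJ₀ hpa), fun p hp hpI hpJ => hp (hJI₀ ⟨hpJ, hpI⟩)⟩,
    fun V hV hle i hi => ?_⟩
  let S : Set (PrimeSpectrum A) := V.carrierᶜ
  have hS : IsClosed S := V.is_open'.isClosed_compl
  let J : Ideal A := PrimeSpectrum.vanishingIdeal S ⊓ J₀
  have hVJ : PrimeSpectrum.zeroLocus (J : Set A) = S := by
    rw [PrimeSpectrum.zeroLocus_inf, PrimeSpectrum.zeroLocus_vanishingIdeal_eq_closure, hS.closure_eq,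
      Set.union_eq_left]
    exact fun p hp hpV => hle hpV hp
  have hV' : V = LocCoh.puncturedOpen A J := TopologicalSpace.Opens.ext (by
    show V.carrier = (PrimeSpectrum.zeroLocus (J : Set A))ᶜ
    rw [hVJ]
    exact (compl_compl _).symm)
  obtain ⟨hl, hst⟩ := h J inf_le_right (by
    rw [hVJ]
    intro p hp
    by_contra hne
    exact hp.1 (hV.2 p hne hp.2))
  rw [hV']
  exact formalCohBijective_of_lim I M J s hl hst i hi

include hω hI hd h₂ in
theorem formalCohColimBijective_top : Formal2.FormalCohColimBijective A I M s (LocCoh.puncturedOpen A 𝔞) := by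
  obtain ⟨V₀, hV₀, hbij⟩ := exists_admissible_bijective hω I 𝔞 hI d hd M s h₂
  refine ⟨fun V hV x hx => ?_, fun y hy => ?_⟩
  · have hW : Formal2.Admissible A I (LocCoh.puncturedOpen A 𝔞) (V ⊓ V₀) :=
      ⟨inf_le_left.trans hV.1, fun p hp hpI => ⟨hV.2 p hp hpI, hV₀.2 p hp hpI⟩⟩
    refine ⟨V ⊓ V₀, ⟨hW, inf_le_left⟩, (hbij _ hW inf_le_right s le_rfl).1 _ 0 fun n => ?_⟩
    rw [← HVres_HVmap, hx n, map_zero, map_zero]
  · obtain ⟨x, hx⟩ := (hbij _ hV₀ le_rfl s le_rfl).2 (fun n => Formal2.HVres A _ s hV₀.1 (y n)) fun n => by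
      rw [← HVres_HVmap, hy n]
    exact ⟨V₀, hV₀, x, fun n => (hx n).symm⟩

end Groth.Agent.HTLib
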