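import Groth.Agent.HTLib.Dual
import Groth.Agent.HTLib.LocTrans
import Groth.Agent.FaltingsAnnLib.Local
import Groth.Agent.DualCxLib.Gorenstein

/-!
# Uniform stabilisation of kernels from a dualizing complex
-/

set_option autoImplicit false
set_option linter.style.haveILetI false
set_option backward.isDefEq.respectTransparency false
set_option maxRecDepth 4000

universe u

open CategoryTheory TensorProduct IsLocalRing
attribute [local instance] HasDerivedCategory.standard

noncomputable section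

namespace Groth.Agent.HTLib

open DualCxLib (InjRep HK pre sMap)

section Matlis

variable {B : Type u} [CommRing B] [IsLocalRing B] [IsNoetherianRing B] {ω : Dual.D B}
  (hω : Dual.IsDualizing B ω) (hn : Dual.IsNormalized B ω)
  {M N P : Type u} [AddCommGroup M] [Module B M] [AddCommGroup N] [Module B N] [AddCommGroup P] [Module B P]

include hω hn in
/-- The kernel condition on local cohomology is the image condition on the duals. -/
theorem ker_le_iff_dualLe [Module.Finite B M] [Module.Finite B N] [Module.Finite B P] (i : ℕ) (φ : M →ₗ[B] N)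
    (ψ : M →ₗ[B] P) :
    (∀ y : (localCohomology (maximalIdeal B) i).obj (ModuleCat.of B M),
      ((localCohomology (maximalIdeal B) i).map (ModuleCat.ofHom ψ)).hom y = 0 →
        ((localCohomology (maximalIdeal B) i).map (ModuleCat.ofHom φ)).hom y = 0) ↔ DualLe ω (-(i : ℤ)) φ ψ := by
  let S := DualCxLib.model hω
  obtain ⟨f, hf⟩ := S.exists_hull_E0 hω hn
  let e : S.E0 ≃ₗ[B] S.E0 := LinearEquiv.refl B _
  have hj : (-(i : ℤ)) + (i : ℤ) = 0 := neg_add_cancel _
  have hM := S.bijective_phi hω hn e hf i M (-(i : ℤ)) hj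
  have hN := S.bijective_phi hω hn e hf i N (-(i : ℤ)) hj
  have hP := S.bijective_phi hω hn e hf i P (-(i : ℤ)) hj
  refine ⟨fun h => ?_, fun h y hy => ?_⟩
  · rintro _ ⟨u, rfl⟩
    let W : Submodule B (HK ω (-(i : ℤ)) M) := LinearMap.range (pre ω (-(i : ℤ)) ψ)
    haveI : Module.Finite B (HK ω (-(i : ℤ)) M) :=
      S.finite_hom hω.finite_cohomology (Dual.inD B M) (FaltingsAnnLib.finite_HD_inD M) _
    suffices hu : W.mkQ (pre ω (-(i : ℤ)) φ u) = 0 from (Submodule.Quotient.mk_eq_zero W).1 hu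
    have h1 := FaltingsAnnLib.smul_eq_zero_of_dual hf (N := Submodule.span B {W.mkQ (pre ω (-(i : ℤ)) φ u)}) (b := 1)
      (fun Φ => ?_) ⟨_, Submodule.mem_span_singleton_self _⟩
    · rw [one_smul] at h1
      exact congrArg Subtype.val h1
    haveI := hf.isInjective
    obtain ⟨Φ', hΦ'⟩ := (Module.Baer.of_injective ‹Module.Injective B S.E0›).extension_property
      (Submodule.span B {W.mkQ (pre ω (-(i : ℤ)) φ u)}).subtype Subtype.val_injective Φ
    obtain ⟨y, hy⟩ := hM.2 (Φ' ∘ₗ W.mkQ)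
    have hy0 : ((localCohomology (maximalIdeal B) i).map (ModuleCat.ofHom ψ)).hom y = 0 := by
      refine hP.1 ?_
      rw [map_zero, S.phi_natural, hy]
      refine LinearMap.ext fun v => ?_
      show Φ' (W.mkQ (pre ω (-(i : ℤ)) ψ v)) = 0
      rw [show W.mkQ (pre ω (-(i : ℤ)) ψ v) = 0 from (Submodule.Quotient.mk_eq_zero W).2 ⟨v, rfl⟩, map_zero]
    have h2 := congrArg (S.phi hω hn e (ModuleCat.of B N) i (-(i : ℤ)) hj) (h y hy0)
    rw [map_zero, S.phi_natural, hy] at h2
    rw [one_smul]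
    refine LinearMap.ext fun z => ?_
    obtain ⟨b, hb⟩ := Submodule.mem_span_singleton.1 z.2
    rw [show z = b • (⟨_, Submodule.mem_span_singleton_self _⟩ :
      Submodule.span B {W.mkQ (pre ω (-(i : ℤ)) φ u)}) from Subtype.ext hb.symm, map_smul, ← hΦ']
    exact (congrArg (b • ·) (LinearMap.congr_fun h2 u)).trans (smul_zero b)
  · refine hN.1 ?_
    rw [map_zero, S.phi_natural]
    refine LinearMap.ext fun u => ?_
    obtain ⟨v, hv⟩ := h ⟨u, rfl⟩
    rw [LinearMap.comp_apply, show pre ω (-(i : ℤ)) (ModuleCat.ofHom φ).hom u = pre ω (-(i : ℤ)) ψ v from hv.symm]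
    have h2 := congrArg (S.phi hω hn e (ModuleCat.of B P) i (-(i : ℤ)) hj) hy
    rw [map_zero, S.phi_natural] at h2
    exact LinearMap.congr_fun h2 v

end Matlis

variable {A : Type u} [CommRing A] [IsNoetherianRing A] (q : PrimeSpectrum A)

/-- The condition at `q` gives the one over the local ring. -/
theorem ker_le_of_kerLe (B : Type u) [CommRing B] [IsNoetherianRing B] [Algebra A B]
    [IsLocalization.AtPrime B q.asIdeal] [Module.Flat A B] {i : ℕ} {M N P : ModuleCat.{u} A} {φ : M ⟶ N} {ψ : M ⟶ P}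
    (h : KerLe q i φ ψ) (y : (localCohomology (mapI B q.asIdeal) i).obj ((bcF B).obj M))
    (hy : ((localCohomology (mapI B q.asIdeal) i).map ((bcF B).map ψ)).hom y = 0) :
    ((localCohomology (mapI B q.asIdeal) i).map ((bcF B).map φ)).hom y = 0 := by
  obtain ⟨Φ, hΦ⟩ := exists_equiv_natural q i
  have hu : ∀ {s : A}, s ∉ q.asIdeal → IsUnit (algebraMap A B s) := fun {s} hs =>
    IsLocalization.map_units B (⟨s, hs⟩ : q.asIdeal.primeCompl)
  obtain ⟨w, rfl⟩ := (bijective_βT B q.asIdeal i M).2 y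
  haveI : IsLocalizedModule q.asIdeal.primeCompl
      (TensorProduct.mk A B ((localCohomology q.asIdeal i).obj M : Type u) 1) :=
    (isLocalizedModule_iff_isBaseChange q.asIdeal.primeCompl B _).2 (TensorProduct.isBaseChange A _ B)
  obtain ⟨⟨x, s⟩, hx⟩ := IsLocalizedModule.surj q.asIdeal.primeCompl
    (TensorProduct.mk A B ((localCohomology q.asIdeal i).obj M : Type u) 1) w
  have hkey : algebraMap A B s • βT B q.asIdeal M i w = β B q.asIdeal M i x := by
    have h1 := congrArg (βT B q.asIdeal M i) hx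
    rw [show (TensorProduct.mk A B ((localCohomology q.asIdeal i).obj M : Type u) 1) x = (1 : B) ⊗ₜ x from rfl,
      βT_tmul, one_smul] at h1
    rw [← h1]
    show _ = βT B q.asIdeal M i ((s : A) • w)
    clear h1 hx hy
    induction w using TensorProduct.induction_on with
    | zero => simp
    | tmul b z =>
      rw [TensorProduct.smul_tmul', βT_tmul, βT_tmul, Algebra.smul_def, mul_smul]
    | add a c ha hc => rw [smul_add, map_add, map_add, smul_add, ha, hc]
  have hψ : β B q.asIdeal P i (((localCohomology q.asIdeal i).map ψ).hom x) = 0 := by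
    rw [β_map, ← hkey, map_smul, hy, smul_zero]
  obtain ⟨t, ht, ht0⟩ := exists_smul_eq_zero_of_β_eq_zero B (I := q.asIdeal) q.asIdeal.primeCompl B hψ
  obtain ⟨r, hr, hr0⟩ := h (Φ M x) ⟨t, ht, by rw [← hΦ, ← map_smul, ht0, map_zero]⟩
  rw [← hΦ, ← map_smul, LinearEquiv.map_eq_zero_iff] at hr0
  have h2 := congrArg (β B q.asIdeal N i) hr0
  rw [β_smul, map_zero, β_map, ← hkey, map_smul] at h2
  exact (hu s.2).smul_eq_zero.1 ((hu hr).smul_eq_zero.1 h2)

variable {ω : Dual.D A} (hω : Dual.IsDualizing A ω)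

include hω in
/-- The condition at `q` read off on the dualizing complex. -/
theorem exists_kerLe_iff : ∃ c : ℤ, ∀ (i : ℕ) (M N P : Type u) [AddCommGroup M] [Module A M] [Module.Finite A M]
    [AddCommGroup N] [Module A N] [Module.Finite A N] [AddCommGroup P] [Module A P] [Module.Finite A P]
    (φ : M →ₗ[A] N) (ψ : M →ₗ[A] P),
    KerLe q i (ModuleCat.ofHom φ) (ModuleCat.ofHom ψ) ↔ DualLeAt ω q (c - i) φ ψ := by
  let B := Localization.AtPrime q.asIdeal
  let S := (DualCxLib.model hω).rep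
  let C := q.asIdeal.primeCompl
  haveI : IsNoetherianRing B := IsLocalization.isNoetherianRing C B ‹_›
  haveI : Module.Flat A B := IsLocalization.flat B C
  haveI : DRing.HasLBaseChange (algebraMap A B) := DRingLib.hasLBaseChange _
  let ωB : Dual.D B := DRing.toD ((DTen.extCx (algebraMap A B)).obj S.E)
  have hωB : Dual.IsDualizing B ωB :=
    DualCxLib.isDualizing_of_iso (S.lbcIso C B) (DualCxLib.isDualizing_lbc C B hω)
  let SB : InjRep ωB := ⟨(DTen.extCx (algebraMap A B)).obj S.E, S.a,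
    fun k hk => DRingLib.isZero_extCx_X _ (S.vanishes k hk), fun k => DualCxLib.injective_extCx_X C B (S.inj k),
    Iso.refl _⟩
  let l : ∀ k, S.E.X k →+ SB.E.X k := fun k => ((DualCxLib.locUnit B S.E).f k).hom.toAddMonoidHom
  let c := DualCxLib.dfn hωB (closedPoint B)
  refine ⟨c, fun i M N P _ _ _ _ _ _ _ _ _ φ ψ => ?_⟩
  have hloc := dualLe_loc_iff (M := M) (N := N) (P := P) q B S SB l
    (fun k x y => (((DualCxLib.locUnit B S.E).f k).hom.map_smul x y).trans rfl)
    (fun k z => by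
      haveI := DualCxLib.isLocalizedModule_locUnit C B S.E k
      obtain ⟨⟨y, s⟩, hys⟩ := IsLocalizedModule.surj C ((DualCxLib.locUnit B S.E).f k).hom
        (show (DualCxLib.locCx B S.E).X k from z)
      exact ⟨y, s, s.2, hys⟩)
    (fun k y hy => by
      haveI := DualCxLib.isLocalizedModule_locUnit C B S.E k
      obtain ⟨s, hs⟩ := (IsLocalizedModule.eq_zero_iff C ((DualCxLib.locUnit B S.E).f k).hom (m := y)).1 hy
      exact ⟨s, s.2, hs⟩)
    (fun k k' y => LinearMap.congr_fun (congrArg ModuleCat.Hom.hom ((DualCxLib.locUnit B S.E).comm k k')) y)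
    (c - i) φ ψ
  rw [← hloc, show c - (i : ℤ) = c + -(i : ℤ) from sub_eq_add_neg c _, ← dualLe_shift_iff,
    ← ker_le_iff_dualLe (DualCxLib.isDualizing_shift hωB c) (DualCxLib.isNormalized_shift hωB)]
  have hI : mapI B q.asIdeal = maximalIdeal B := Localization.AtPrime.map_eq_maximalIdeal
  rw [← hI]
  exact ⟨fun h y hy => ker_le_of_kerLe q B h y hy, fun h => kerLe_of_flat q B B _ _ h⟩

/-- A stage from which the kernel conditions at all points stabilise. -/
theorem exists_uniform (hA : ∃ ω : Dual.D A, Dual.IsDualizing A ω) {M : ℕ → Type u} [∀ n, AddCommGroup (M n)]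
    [∀ n, Module A (M n)] [∀ n, Module.Finite A (M n)] {P : Type u} [AddCommGroup P] [Module A P] [Module.Finite A P]
    (φ : ∀ k m : ℕ, m ≤ k → (M k →ₗ[A] M m))
    (hφ : ∀ (k l m : ℕ) (h₁ : m ≤ l) (h₂ : l ≤ k), φ k m (h₁.trans h₂) = φ l m h₁ ∘ₗ φ k l h₂)
    (ψ : ∀ k, M k →ₗ[A] P) (hψ : ∀ (k l : ℕ) (h : l ≤ k), ψ k = ψ l ∘ₗ φ k l h) (m : ℕ) :
    ∃ K, m ≤ K ∧ ∀ (q : PrimeSpectrum A) (i : ℕ),
      (∃ (k : ℕ) (h : m ≤ k), KerLe q i (ModuleCat.ofHom (φ k m h)) (ModuleCat.ofHom (ψ k))) →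
        ∀ (k : ℕ) (h : m ≤ k), K ≤ k → KerLe q i (ModuleCat.ofHom (φ k m h)) (ModuleCat.ofHom (ψ k)) := by
  obtain ⟨ω, hω⟩ := hA
  let S := DualCxLib.model hω
  have hle : ∀ (j : ℤ) (a b : ℕ) (ha : m ≤ a) (hab : a ≤ b) (e : HK ω j (M m)),
      pre ω j (φ a m ha) e ∈ LinearMap.range (pre ω j (ψ a)) →
        pre ω j (φ b m (ha.trans hab)) e ∈ LinearMap.range (pre ω j (ψ b)) := by
    rintro j a b ha hab e ⟨v, hv⟩
    refine ⟨v, ?_⟩
    rw [hψ b a hab, hφ b a m ha hab]
    simp only [DualCxLib.pre_apply, sMap] at hv ⊢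
    rw [ModuleCat.ofHom_comp, ModuleCat.ofHom_comp, Functor.map_comp, Functor.map_comp, Category.assoc,
      Category.assoc, hv]
  have hstab : ∀ j : ℤ, ∃ d : ℕ, ∀ d', d ≤ d' → ∀ e : HK ω j (M m),
      pre ω j (φ (m + d') m (Nat.le_add_right _ _)) e ∈ LinearMap.range (pre ω j (ψ (m + d'))) →
        pre ω j (φ (m + d) m (Nat.le_add_right _ _)) e ∈ LinearMap.range (pre ω j (ψ (m + d))) := by
    intro j
    haveI : Module.Finite A (HK ω j (M m)) :=
      S.finite_hom hω.finite_cohomology (Dual.inD A (M m)) (FaltingsAnnLib.finite_HD_inD (M m)) j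
    haveI : IsNoetherian A (HK ω j (M m)) := isNoetherian_of_isNoetherianRing_of_finite A _
    let F : ℕ →o Submodule A (HK ω j (M m)) :=
      ⟨fun d => (LinearMap.range (pre ω j (ψ (m + d)))).comap (pre ω j (φ (m + d) m (Nat.le_add_right _ _))),
        fun a b hab e he => hle j (m + a) (m + b) (Nat.le_add_right _ _) (Nat.add_le_add_left hab m) e he⟩
    obtain ⟨d, hd⟩ := monotone_stabilizes_iff_noetherian.2 ‹_› F
    exact ⟨d, fun d' hd' e he => by show e ∈ F d; rw [hd d' hd']; exact he⟩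
  choose d hd using hstab
  refine ⟨m + (Finset.Icc S.a S.b).sup d, Nat.le_add_right _ _, fun q i ⟨k₀, h₀, hk₀⟩ k h hk => ?_⟩
  obtain ⟨c, hc⟩ := exists_kerLe_iff q hω
  rw [hc] at hk₀ ⊢
  intro e
  by_cases hj : (c - (i : ℤ)) < S.a ∨ S.b < (c - (i : ℤ))
  · haveI := S.subsingleton_HK (M m) hj
    exact ⟨1, fun h => q.2.ne_top ((Ideal.eq_top_iff_one _).2 h), by
      rw [Subsingleton.elim e 0, map_zero, smul_zero]; exact zero_mem _⟩
  obtain ⟨s, hs, hs0⟩ := hk₀ e
  refine ⟨s, hs, ?_⟩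
  rw [← map_smul] at hs0 ⊢
  have hdj : m + d (c - (i : ℤ)) ≤ k :=
    (Nat.add_le_add_left (Finset.le_sup (f := d) (Finset.mem_Icc.2 ⟨by omega, by omega⟩)) m).trans hk
  obtain ⟨a, rfl⟩ := Nat.exists_eq_add_of_le h₀
  have h1 := hle _ (m + a) (m + max a (d (c - (i : ℤ)))) h₀ (by omega) _ hs0
  exact hle _ _ k (Nat.le_add_right _ _) hdj _ (hd _ _ (le_max_right _ _) _ h1)

end Groth.Agent.HTLib
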