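import Groth.Agent.HTLib.FormalU
import Groth.Agent.HTLib.Formal
import Groth.Agent.BootLib.Completion
import Groth.Agent.FaltingsAnnLib.Algebraize
import Groth.Agent.DComplLib.Basic
import Groth.Agent.S8798
import Groth.Agent.S3384
import Groth.Agent.S12220

/-!
# Formal cohomology on a complement with a dualizing complex
-/

set_option autoImplicit false
set_option linter.style.haveILetI false
set_option backward.isDefEq.respectTransparency false
set_option maxRecDepth 4000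

universe u

open CategoryTheory AlgebraicGeometry
attribute [local instance] HasDerivedCategory.standard

noncomputable section

namespace Groth.Agent.HTLib

open CechComplLib (quotF quotπ)

variable {A : Type u} [CommRing A] [IsNoetherianRing A]

theorem quotTr_app_eq (I : Ideal A) (M : Type u) [AddCommGroup M] [Module A M] {n m : ℕ} (h : n ≤ m) :
    (quotTr I h).app (ModuleCat.of A M) = ModuleCat.ofHom (AdicCompletion.transitionMap I M h) :=
  ModuleCat.hom_ext (Submodule.linearMap_qext _ (LinearMap.ext fun _ => rfl))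

theorem lm_comp (J : Ideal A) (i : ℕ) {M N P : Type u} [AddCommGroup M] [Module A M] [AddCommGroup N]
    [Module A N] [AddCommGroup P] [Module A P] {g : N →ₗ[A] P} {f : M →ₗ[A] N} {h : M →ₗ[A] P}
    (e : g.comp f = h) (x : Bridge.LC J i M) : Bridge.lm J i g (Bridge.lm J i f x) = Bridge.lm J i h x := by
  subst e
  show ((localCohomology J i).map (ModuleCat.ofHom g)).hom (((localCohomology J i).map (ModuleCat.ofHom f)).hom x) = _
  rw [← LinearMap.comp_apply, ← ModuleCat.hom_comp, ← Functor.map_comp]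
  rfl

theorem quotPowTrans_eq (I : Ideal A) (M : Type u) [AddCommGroup M] [Module A M] (n : ℕ) :
    Formal2.quotPowTrans A I M n = AdicCompletion.transitionMap I M (Nat.le_succ (n + 1)) :=
  (qtr_succ n).symm

variable {J I : Ideal A} {M : Type u} [AddCommGroup M] [Module A M]

local notation "ZJ" => PrimeSpectrum.zeroLocus (J : Set A)

theorem limInj_of_HF (i : ℕ) (h : ∀ x : (HF ZJ i).obj (ModuleCat.of A M),
    (∀ n, hm ZJ i (Formal2.quotPowπ A I M n) x = 0) → x = 0) : LimInj J I M i := fun x hx => by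
  obtain ⟨Φ, hΦ⟩ := exists_equiv_natural_ideal J i
  refine (Φ _).injective ((h _ fun n => ?_).trans (map_zero _).symm)
  exact (hΦ _ _ (ModuleCat.ofHom (Formal2.quotPowπ A I M n)) x).symm.trans
    ((congrArg (Φ _) (hx n)).trans (map_zero _))

theorem limSurj_of_HF (i : ℕ) (h : ∀ y : (∀ n, (HF ZJ i).obj (ModuleCat.of A (Formal2.quotPow A I M n))),
    (∀ n, hm ZJ i (Formal2.quotPowTrans A I M n) (y (n + 1)) = y n) →
      ∃ x, ∀ n, hm ZJ i (Formal2.quotPowπ A I M n) x = y n) : LimSurj J I M i := fun y hy => by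
  obtain ⟨Φ, hΦ⟩ := exists_equiv_natural_ideal J i
  obtain ⟨z, hz⟩ := h (fun n => Φ _ (y n)) fun n =>
    (hΦ _ _ (ModuleCat.ofHom (Formal2.quotPowTrans A I M n)) (y (n + 1))).symm.trans (congrArg (Φ _) (hy n))
  refine ⟨(Φ _).symm z, fun n => (Φ _).injective ?_⟩
  refine (hΦ _ _ (ModuleCat.ofHom (Formal2.quotPowπ A I M n)) _).trans ?_
  exact (congrArg _ (LinearEquiv.apply_symm_apply _ z)).trans (hz n)

theorem transitionMap_comp_mkQ {a b : ℕ} (h : a ≤ b) :
    (AdicCompletion.transitionMap I M h).comp (pw I M b).mkQ = (pw I M a).mkQ :=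
  LinearMap.ext fun x => Submodule.factor_mk (Submodule.smul_mono_left (Ideal.pow_le_pow_right h)) x

theorem hm_mkQ_zero (i : ℕ) (x : (HF ZJ i).obj (ModuleCat.of A M))
    (hx : ∀ n, hm ZJ i (Formal2.quotPowπ A I M n) x = 0) (n : ℕ) : hm ZJ i (pw I M n).mkQ x = 0 := by
  rw [← hm_hm (transitionMap_comp_mkQ (I := I) (M := M) (Nat.le_succ n)),
    show hm ZJ i (pw I M (n + 1)).mkQ x = 0 from hx n]
  exact map_zero _

theorem exists_limit_shift (i : ℕ) (h : ∀ y : (∀ n, (HF ZJ i).obj (ModuleCat.of A (M ⧸ pw I M n))),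
    (∀ n, hm ZJ i (AdicCompletion.transitionMap I M (Nat.le_succ n)) (y (n + 1)) = y n) →
      ∃ x, ∀ n, hm ZJ i (pw I M n).mkQ x = y n)
    (y : ∀ n, (HF ZJ i).obj (ModuleCat.of A (Formal2.quotPow A I M n)))
    (hy : ∀ n, hm ZJ i (Formal2.quotPowTrans A I M n) (y (n + 1)) = y n) :
    ∃ x, ∀ n, hm ZJ i (Formal2.quotPowπ A I M n) x = y n := by
  obtain ⟨x, hx⟩ := h (fun n => hm ZJ i (AdicCompletion.transitionMap I M (Nat.le_succ n)) (y n)) fun n => by
    refine congrArg (hm ZJ i (AdicCompletion.transitionMap I M (Nat.le_succ n))) ?_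
    rw [← quotPowTrans_eq]
    exact hy n
  refine ⟨x, fun n => (hx (n + 1)).trans ?_⟩
  rw [← quotPowTrans_eq]
  exact hy n

variable (J)

/-- Stages of torsion from stages in degree zero. -/
theorem torStage_of_HF (h : ∀ n, ∃ K, ∀ (k : ℕ) (h : n ≤ k), K ≤ k → ∀ z : (HF ZJ 0).obj (ModuleCat.of A (M ⧸ pw I M k)),
    ∃ x, hm ZJ 0 (pw I M n).mkQ x = hm ZJ 0 (AdicCompletion.transitionMap I M h) z) : TorStage J I M := fun n => by
  obtain ⟨K, hK⟩ := h n
  obtain ⟨Φ, hΦ⟩ := exists_equiv_natural_ideal J 0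
  refine ⟨K, fun k hnk hk z hz => ?_⟩
  obtain ⟨g, rfl⟩ :=
    (SetLike.ext_iff.1 (LocCohLib.range_h0 (I := J) (M := ModuleCat.of A (M ⧸ pw I M k))) z).2 hz
  obtain ⟨x, hx⟩ := hK k hnk hk (Φ _ g)
  refine ⟨LocCohLib.h0 J (ModuleCat.of A M) ((Φ _).symm x),
    (SetLike.ext_iff.1 (LocCohLib.range_h0 (I := J) (M := ModuleCat.of A M)) _).1 (LinearMap.mem_range_self _ _), ?_⟩
  refine (LocCohLib.h0_map (ModuleCat.ofHom (AdicCompletion.transitionMap I M hnk)) g).symm.trans ?_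
  refine Eq.trans ?_ (LocCohLib.h0_map (ModuleCat.ofHom (pw I M n).mkQ) ((Φ _).symm x))
  refine congrArg _ ((Φ _).injective ?_)
  rw [hΦ, hΦ, LinearEquiv.apply_symm_apply]
  exact hx.symm

/-- Torsion stages pass to smaller ideals with the same trace on `V(I)`. -/
theorem TorStage.of_le {𝔞 : Ideal A} (hst : TorStage 𝔞 I M) (hJ : J ≤ 𝔞) (hrad : 𝔞 ≤ (J ⊔ I).radical) :
    TorStage J I M := fun n => by
  obtain ⟨K, hK⟩ := hst n
  refine ⟨K, fun k h hk z hz => ?_⟩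
  obtain ⟨c, hc⟩ := hz
  let N : Ideal A := LinearMap.ker (LinearMap.toSpanSingleton A (M ⧸ pw I M k) z)
  have hN : ∀ a : A, a ∈ N ↔ a • z = 0 := fun a => LinearMap.mem_ker
  have hle : J ⊔ I ≤ N.radical := by
    refine sup_le (fun a ha => ⟨c, (hN _).2 (hc _ (Ideal.pow_mem_pow ha c))⟩) fun a ha => ⟨k, (hN _).2 ?_⟩
    obtain ⟨x, rfl⟩ := Submodule.Quotient.mk_surjective _ z
    exact (Submodule.Quotient.mk_eq_zero _).2 (Submodule.smul_mem_smul (Ideal.pow_mem_pow ha k) trivial)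
  obtain ⟨e, he⟩ := Ideal.exists_pow_le_of_le_radical_of_fg
    (hrad.trans ((Ideal.radical_mono hle).trans_eq (Ideal.radical_idem _))) (IsNoetherian.noetherian _)
  obtain ⟨t, ⟨e', he'⟩, ht'⟩ := hK k h hk z ⟨e, fun b hb => (hN b).1 (he hb)⟩
  exact ⟨t, ⟨e', fun b hb => he' b (Ideal.pow_right_mono hJ _ hb)⟩, ht'⟩

section main

variable {ω : Dual.D A} (hω : Dual.IsDualizing A ω) (I) (𝔞 : Ideal A) (hI : I ≤ 𝔞)
  (d : ℕ) (hd : LocCoh.CdLE A I d) (M) [Module.Finite A M] (s : ℕ)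
  (h₂ : ∀ (p : Ideal A) [p.IsPrime], ¬ 𝔞 ≤ p → ¬ I ≤ p →
    (s : ℕ∞) < LocCoh.depth (Localization.AtPrime p) (LocalizedModule p.primeCompl M) ∨
      ∀ (q : Ideal A) [q.IsPrime], p ≤ q → 𝔞 ≤ q →
        ((d + s + 1 : ℕ) : WithBot ℕ∞) <
          ((LocCoh.depth (Localization.AtPrime p) (LocalizedModule p.primeCompl M) : ℕ∞) : WithBot ℕ∞) +
            Formal2.dimBetween A p q)

local notation "ZA" => PrimeSpectrum.zeroLocus (𝔞 : Set A)

omit [IsNoetherianRing A] [Module.Finite A M] in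
include hI h₂ in
theorem cond_gt (q : PrimeSpectrum A) (hq : q ∈ ZA) (p : PrimeSpectrum A) (hpq : p ≤ q) (hp : ¬ I ≤ p.asIdeal) :
    (s : ℕ∞) < LocCoh.depth (Localization.AtPrime p.asIdeal) (LocalizedModule p.asIdeal.primeCompl M) ∨
      ((d + s : ℕ) : WithBot ℕ∞) <
        ((LocCoh.depth (Localization.AtPrime p.asIdeal) (LocalizedModule p.asIdeal.primeCompl M) : ℕ∞) : WithBot ℕ∞) +
          Formal2.dimBetween A p.asIdeal q.asIdeal := by
  refine (h₂ p.asIdeal (fun h => hp (hI.trans h)) hp).imp_right fun h => ?_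
  exact lt_of_le_of_lt (by exact_mod_cast Nat.le_succ (d + s)) (h q.asIdeal hpq hq)

include hω hI hd h₂ in
/-- The systems on the support of the complement. -/
theorem formal_systems : (∀ i ≤ s, ProZ ZA I M i) ∧ ∃ m₀, ∀ m, m₀ ≤ m → ∃ m', m ≤ m' ∧
    ∀ (k : ℕ) (h : m ≤ k), m' ≤ k → ∀ (h₀ : m₀ ≤ k) (x),
      hm ZA (s + 1) (pwMap I M h₀) x = 0 → hm ZA (s + 1) (pwMap I M h) x = 0 := by
  have hTI : ZA ⊆ PrimeSpectrum.zeroLocus (I : Set A) := PrimeSpectrum.zeroLocus_anti_mono_ideal hI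
  obtain ⟨hz, m₀, hm₀⟩ := S8798.result A ⟨ω, hω⟩ I d hd M ZA hTI
    (PrimeSpectrum.isClosed_zeroLocus _).stableUnderSpecialization s
    (fun p r q hpr hrq hp _ _ hq => (cond_gt I M 𝔞 hI d s h₂ q hq p (hpr.trans hrq) hp).imp_left le_of_lt)
    (fun q hq p' hp' hmax => BootLib.bootstrap_completion ⟨ω, hω⟩ I d hd M s q (hTI hq)
      (fun p hpq hp => cond_gt I M 𝔞 hI d s h₂ q hq p hpq hp) p' hp' hmax)
  refine ⟨fun i hi n => hz i hi n, m₀, fun m hm => ?_⟩
  obtain ⟨m', hm', hk'⟩ := hm₀ m hm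
  exact ⟨m', hm', fun k _ hk _ x hx => hk' k hk x hx⟩

include hω hI hd h₂ in
/-- Bijectivity on the support up to degree `s`. -/
theorem formal_support (i : ℕ) (hi : i ≤ s) :
    LimInj 𝔞 I M i ∧ LimSurj 𝔞 I M i ∧ TorStage 𝔞 I M := by
  obtain ⟨hZ, hG⟩ := formal_systems I M hω 𝔞 hI d hd s h₂
  obtain ⟨m₁, hm₁⟩ := exists_injective_level (hZ i hi)
  refine ⟨limInj_of_HF i fun x hx => hm₁ (m₁ + 1) (Nat.le_succ _) x (hx m₁),
    limSurj_of_HF i fun y hy => exists_limit_formal hZ hG hi y fun n => ?_,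
    torStage_of_HF 𝔞 fun n => ?_⟩
  · rw [← quotPowTrans_eq]
    exact hy n
  · obtain ⟨K, -, hK⟩ := exists_stage_formal hZ hG (Nat.zero_le s) n
    exact ⟨K, hK⟩

include hω in
theorem bijective_incl_quot {J : Ideal A} (hJ : J ≤ 𝔞)
    (hJI : PrimeSpectrum.zeroLocus (J : Set A) ∩ PrimeSpectrum.zeroLocus (I : Set A) ⊆ ZA) (n j : ℕ) :
    Function.Bijective (incl (T' := ZA) (T := PrimeSpectrum.zeroLocus (J : Set A))
      (PrimeSpectrum.zeroLocus_anti_mono_ideal hJ) j (ModuleCat.of A (M ⧸ pw I M n))) := by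
  obtain ⟨e, f, hf, hf'⟩ := exists_level_of_dim (PrimeSpectrum.zeroLocus (J : Set A)) (DualCxLib.ringKrullDim_lt_top' hω)
  refine bijective_incl (PrimeSpectrum.isClosed_zeroLocus _).stableUnderSpecialization
    (PrimeSpectrum.isClosed_zeroLocus _).stableUnderSpecialization _ f hf hf' (M ⧸ pw I M n)
    (fun q hq j' _ => ?_) j le_rfl
  haveI : Subsingleton (LocalizedModule q.asIdeal.primeCompl (M ⧸ pw I M n)) := by
    obtain ⟨a, ha, haq⟩ := SetLike.not_le_iff_exists.1 fun h : I ≤ q.asIdeal => hq.2 (hJI ⟨hq.1, h⟩)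
    refine LocalizedModule.subsingleton_iff.2 fun x => ⟨a ^ n, fun h => haq (q.2.mem_of_pow_mem n h), ?_⟩
    obtain ⟨x, rfl⟩ := Submodule.Quotient.mk_surjective _ x
    exact (Submodule.Quotient.mk_eq_zero _).2 (Submodule.smul_mem_smul (Ideal.pow_mem_pow ha n) trivial)
  exact locKills_of_localized q _
    (((localCohomology _ j').map_isZero (ModuleCat.isZero_of_subsingleton _)).eq_of_src _ _)

include hω hI hd h₂ in
theorem stable_images {J : Ideal A} (hJ : J ≤ 𝔞)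
    (hJI : PrimeSpectrum.zeroLocus (J : Set A) ∩ PrimeSpectrum.zeroLocus (I : Set A) ⊆ ZA) (j : ℕ) (hj : j ≤ s)
    (n : ℕ) : ∃ N, ∃ h : n ≤ N, ∀ k (hk : N ≤ k)
      (c : (HF (PrimeSpectrum.zeroLocus (J : Set A)) j).obj ((quotF (I ^ N)).obj (ModuleCat.of A M))),
        ∃ c' : (HF (PrimeSpectrum.zeroLocus (J : Set A)) j).obj ((quotF (I ^ k)).obj (ModuleCat.of A M)),
          ((HF _ j).map ((quotTr I (h.trans hk)).app (ModuleCat.of A M))).hom c' =
            ((HF _ j).map ((quotTr I h).app (ModuleCat.of A M))).hom c := by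
  have hTI : ZA ⊆ PrimeSpectrum.zeroLocus (I : Set A) := PrimeSpectrum.zeroLocus_anti_mono_ideal hI
  obtain ⟨N, h, hN⟩ := S12220.result A ⟨ω, hω⟩ I d hd M ZA hTI
    (PrimeSpectrum.isClosed_zeroLocus _).stableUnderSpecialization s
    (fun p r q hpr hrq hp _ _ hq => (cond_gt I M 𝔞 hI d s h₂ q hq p (hpr.trans hrq) hp).imp_left le_of_lt)
    (fun q hq p' hp' hmax => BootLib.bootstrap_completion ⟨ω, hω⟩ I d hd M s q (hTI hq)
      (fun p hpq hp => cond_gt I M 𝔞 hI d s h₂ q hq p hpq hp) p' hp' hmax) j hj n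
  refine ⟨N, h, fun k hk c => ?_⟩
  let hJle : ZA ⊆ PrimeSpectrum.zeroLocus (J : Set A) := PrimeSpectrum.zeroLocus_anti_mono_ideal hJ
  obtain ⟨c, rfl⟩ := (bijective_incl_quot I M hω 𝔞 hJ hJI N j).2 c
  obtain ⟨c', hc'⟩ := (hN k hk).ge ⟨c, rfl⟩
  refine ⟨incl hJle j _ c', ?_⟩
  rw [quotTr_app_eq, quotTr_app_eq]
  exact (map_incl hJle (ModuleCat.ofHom (AdicCompletion.transitionMap I M (h.trans hk))) c').trans
    ((congrArg _ hc').trans (map_incl hJle (ModuleCat.ofHom (AdicCompletion.transitionMap I M h)) c).symm)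

include hω hI hd h₂ in
/-- An ideal in whose supports the limit property holds up to degree `s + 1`. -/
theorem exists_formal_carrier [IsAdicComplete I A] :
    ∃ J₀ : Ideal A, J₀ ≤ 𝔞 ∧ PrimeSpectrum.zeroLocus (J₀ : Set A) ∩ PrimeSpectrum.zeroLocus (I : Set A) ⊆ ZA ∧
      ∀ J : Ideal A, J ≤ J₀ → PrimeSpectrum.zeroLocus (J : Set A) ∩ PrimeSpectrum.zeroLocus (I : Set A) ⊆ ZA →
        (∀ i ≤ s + 1, LimInj J I M i ∧ LimSurj J I M i) ∧ TorStage J I M := by
  haveI : DRing.HasDerivedCompletion I := DComplLib.hasDerivedCompletion I.fg_of_isNoetherianRing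
  have hTI : ZA ⊆ PrimeSpectrum.zeroLocus (I : Set A) := PrimeSpectrum.zeroLocus_anti_mono_ideal hI
  have hZA : ZA ∩ PrimeSpectrum.zeroLocus (I : Set A) = ZA := Set.inter_eq_left.2 hTI
  obtain ⟨J₀, hJ₀, hV, hbij⟩ := FaltingsAnnLib.exists_algebraization hω I 𝔞 M (s + 1) d hd
    {p | ∀ q : PrimeSpectrum A, p ≤ q → I ≤ q.asIdeal → 𝔞 ≤ q.asIdeal} (fun _ => Iff.rfl)
    fun p hpI hpT q hpq hq _ => by
      rcases h₂ p.asIdeal (fun h => hpT fun r hpr _ => h.trans hpr) hpI with h | h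
      · exact Or.inl (by exact_mod_cast Order.add_one_le_of_lt h)
      · exact Or.inr (h q.asIdeal hpq hq)
  refine ⟨J₀, hJ₀, hV.le.trans Set.inter_subset_left, fun J hJJ hJI => ?_⟩
  haveI := TorsCoreflLib.hasRgammaI J
  have hJ : J ≤ 𝔞 := hJJ.trans hJ₀
  have hJV : PrimeSpectrum.zeroLocus (J : Set A) ∩ PrimeSpectrum.zeroLocus (I : Set A) =
      ZA ∩ PrimeSpectrum.zeroLocus (I : Set A) :=
    le_antisymm (fun p hp => ⟨hJI hp, hp.2⟩) fun p hp => ⟨PrimeSpectrum.zeroLocus_anti_mono_ideal hJ hp.1, hp.2⟩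
  refine ⟨fun i hi => ?_, ?_⟩
  · obtain ⟨hinj, hsurj⟩ := bijective_limit_of_ml I (ModuleCat.of A M) J i
      (hbij J hJJ hJV (i : ℤ) (by exact_mod_cast hi))
      fun j hj n => stable_images I M hω 𝔞 hI d hd s h₂ hJ hJI j (by omega) n
    refine ⟨limInj_of_HF i fun x hx => hinj x (hm_mkQ_zero i x hx),
      limSurj_of_HF i fun y hy => exists_limit_shift i (fun y hy => hsurj y fun n => ?_) y hy⟩
    rw [quotTr_app_eq]
    exact hy n
  · refine TorStage.of_le J (formal_support I M hω 𝔞 hI d hd s h₂ 0 (Nat.zero_le s)).2.2 hJ ?_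
    rw [← PrimeSpectrum.vanishingIdeal_zeroLocus_eq_radical, ← PrimeSpectrum.subset_zeroLocus_iff_le_vanishingIdeal,
      PrimeSpectrum.zeroLocus_sup]
    exact hJI

end main

end Groth.Agent.HTLib
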