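import Groth.Agent.HTLib.Local
import Mathlib.RingTheory.Filtration
import Mathlib.RingTheory.Ideal.AssociatedPrime.Finiteness

/-!
# Torsion in the cohomology of powers when the lower cohomology is pro-zero
-/

set_option autoImplicit false
set_option linter.style.haveILetI false
set_option backward.isDefEq.respectTransparency false
set_option maxRecDepth 4000

universe u

open CategoryTheory Limits

noncomputable section

namespace Groth.Agent.HTLib

variable {A : Type u} [CommRing A] (T : Set (PrimeSpectrum A))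

/-- The map on cohomology with supports given by a linear map. -/
abbrev hm {M N : Type u} [AddCommGroup M] [Module A M] [AddCommGroup N] [Module A N] (i : ℕ) (f : M →ₗ[A] N)
    (x : (HF T i).obj (ModuleCat.of A M)) : (HF T i).obj (ModuleCat.of A N) :=
  ((HF T i).map (ModuleCat.ofHom f)).hom x

section hm

variable {T} {M N P : Type u} [AddCommGroup M] [Module A M] [AddCommGroup N] [Module A N] [AddCommGroup P]
  [Module A P] {i : ℕ}

theorem hm_comp (g : N →ₗ[A] P) (f : M →ₗ[A] N) (x : (HF T i).obj (ModuleCat.of A M)) :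
    hm T i (g ∘ₗ f) x = hm T i g (hm T i f x) :=
  congr($((HF T i).map_comp (ModuleCat.ofHom f) (ModuleCat.ofHom g)).hom x)

theorem hm_hm {g : N →ₗ[A] P} {f : M →ₗ[A] N} {h : M →ₗ[A] P} (e : g ∘ₗ f = h)
    (x : (HF T i).obj (ModuleCat.of A M)) : hm T i g (hm T i f x) = hm T i h x :=
  e ▸ (hm_comp g f x).symm

theorem hm_id (x : (HF T i).obj (ModuleCat.of A M)) : hm T i (LinearMap.id : M →ₗ[A] M) x = x :=
  congr($((HF T i).map_id (ModuleCat.of A M)).hom x)

theorem hm_smul (a : A) (f : M →ₗ[A] N) (x : (HF T i).obj (ModuleCat.of A M)) :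
    hm T i (a • f) x = a • hm T i f x :=
  smul_map a (ModuleCat.ofHom f) x

theorem hm_injective {e : M ≃ₗ[A] N} {x : (HF T i).obj (ModuleCat.of A M)} (h : hm T i e.toLinearMap x = 0) :
    x = 0 := by
  have h1 := congrArg (hm T i e.symm.toLinearMap) h
  rwa [hm_hm (show e.symm.toLinearMap ∘ₗ e.toLinearMap = LinearMap.id from LinearMap.ext e.symm_apply_apply),
    hm_id, hm, map_zero] at h1

end hm

variable (I : Ideal A)

/-- The system of cohomology of the powers is pro-zero. -/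
def ProZ (M : Type u) [AddCommGroup M] [Module A M] (i : ℕ) : Prop :=
  ∀ n, ∃ m, ∃ h : n ≤ m, ∀ x, hm T i (pwMap I M h) x = 0

variable {T I}

theorem ProZ.ge {M : Type u} [AddCommGroup M] [Module A M] {i : ℕ} (hz : ProZ T I M i) (n : ℕ) :
    ∃ K, ∀ (k : ℕ) (h : n ≤ k), K ≤ k → ∀ x, hm T i (pwMap I M h) x = 0 := by
  obtain ⟨m, h, hm0⟩ := hz n
  refine ⟨m, fun k h' hk x => ?_⟩
  rw [← hm_hm (show pwMap I M h ∘ₗ pwMap I M hk = pwMap I M h' from rfl), hm0]

variable (T I)

/-- Classes killed by `I` die in lower powers. -/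
def Tors (M : Type u) [AddCommGroup M] [Module A M] (t : ℕ) : Prop :=
  ∀ m, ∃ K, ∀ (k : ℕ) (h : m ≤ k), K ≤ k → ∀ x : (HF T t).obj (ModuleCat.of A (pw I M k)),
    (∀ a ∈ I, a • x = 0) → hm T t (pwMap I M h) x = 0

section step

variable {M : Type u} [AddCommGroup M] [Module A M] (a : A)

/-- Multiplication by `a` on a power, with its cokernel. -/
abbrev mulSC (k : ℕ) : ShortComplex (ModuleCat.{u} A) :=
  ShortComplex.mk (ModuleCat.ofHom (LinearMap.lsmul A (pw I M k) a))
    (ModuleCat.ofHom (LinearMap.range (LinearMap.lsmul A (pw I M k) a)).mkQ)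
    (ModuleCat.hom_ext (LinearMap.ext fun x => (Submodule.Quotient.mk_eq_zero _).2 ⟨x, rfl⟩))

/-- The cokernels of multiplication by `a`. -/
abbrev qA (k : ℕ) : Type u := ↥(pw I M k) ⧸ LinearMap.range (LinearMap.lsmul A (pw I M k) a)

/-- The transition maps of the cokernels. -/
def qTr {m k : ℕ} (h : m ≤ k) : qA I (M := M) a k →ₗ[A] qA I (M := M) a m :=
  Submodule.mapQ _ _ (pwMap I M h) fun x ⟨y, hy⟩ => ⟨pwMap I M h y, by
    rw [← hy]; exact (map_smul (pwMap I M h) a y).symm⟩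

theorem mulSC_shortExact (ha : IsSMulRegular M a) (k : ℕ) : (mulSC I (M := M) a k).ShortExact where
  exact := (ShortComplex.moduleCat_exact_iff _).2 fun x hx => (Submodule.Quotient.mk_eq_zero _).1 hx
  mono_f := (ModuleCat.mono_iff_injective _).2 fun x y h => Subtype.ext (ha (congrArg Subtype.val h))
  epi_g := (ModuleCat.epi_iff_surjective _).2 (Submodule.mkQ_surjective _)

/-- The transition maps as maps of short complexes. -/
abbrev mulHom {m k : ℕ} (h : m ≤ k) : mulSC I (M := M) a k ⟶ mulSC I (M := M) a m where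
  τ₁ := ModuleCat.ofHom (pwMap I M h)
  τ₂ := ModuleCat.ofHom (pwMap I M h)
  τ₃ := ModuleCat.ofHom (qTr I (M := M) a h)
  comm₁₂ := ModuleCat.hom_ext (LinearMap.ext fun x => (map_smul (pwMap I M h) a x).symm)
  comm₂₃ := ModuleCat.hom_ext (LinearMap.ext fun x => rfl)

/-- The quotient by `a`. -/
abbrev modA : Type u := M ⧸ LinearMap.range (LinearMap.lsmul A M a)

theorem pw_modA (k : ℕ) :
    (pw I M k).map (LinearMap.range (LinearMap.lsmul A M a)).mkQ = pw I (modA (M := M) a) k := by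
  show Submodule.map _ (I ^ k • ⊤) = I ^ k • ⊤
  rw [Submodule.map_smul'', Submodule.map_top, Submodule.range_mkQ]

/-- Powers map to powers of the quotient. -/
def resQ (k : ℕ) : ↥(pw I M k) →ₗ[A] ↥(pw I (modA (M := M) a) k) :=
  LinearMap.codRestrict _ ((LinearMap.range (LinearMap.lsmul A M a)).mkQ ∘ₗ (pw I M k).subtype) fun x =>
    (pw_modA I (M := M) a k).le ⟨x.1, x.2, rfl⟩

/-- The comparison with the powers of the quotient. -/
def toModA (k : ℕ) : qA I (M := M) a k →ₗ[A] ↥(pw I (modA (M := M) a) k) :=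
  (LinearMap.range (LinearMap.lsmul A (pw I M k) a)).liftQ (resQ I a k) fun _ ⟨y, hy⟩ => Subtype.ext (by
    rw [← hy]
    exact (Submodule.Quotient.mk_eq_zero _).2 ⟨y.1, rfl⟩)

variable [IsNoetherianRing A] [Module.Finite A M]

theorem exists_ofModA : ∃ e : ℕ, ∀ k, ∃ ψ : ↥(pw I (modA (M := M) a) (k + e)) →ₗ[A] qA I (M := M) a k,
    ψ ∘ₗ toModA I (M := M) a (k + e) = qTr I (M := M) a (Nat.le_add_right k e) ∧
    toModA I a k ∘ₗ ψ = pwMap I (modA (M := M) a) (Nat.le_add_right k e) := by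
  obtain ⟨e, he⟩ := I.exists_pow_inf_eq_pow_smul (LinearMap.range (LinearMap.lsmul A M a))
  refine ⟨e, fun k => ?_⟩
  have hsurj : Function.Surjective (resQ I (M := M) a (k + e)) := fun ⟨y, hy⟩ => by
    rw [← pw_modA] at hy
    obtain ⟨x, hx, rfl⟩ := hy
    exact ⟨⟨x, hx⟩, rfl⟩
  let g := (LinearMap.range (LinearMap.lsmul A (pw I M k) a)).mkQ ∘ₗ pwMap I M (Nat.le_add_right k e)
  have hker : LinearMap.ker (resQ I (M := M) a (k + e)) ≤ LinearMap.ker g := by
    intro x hx
    have h1 : x.1 ∈ (I ^ (k + e) • ⊤ : Submodule A M) ⊓ LinearMap.range (LinearMap.lsmul A M a) :=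
      ⟨x.2, (Submodule.Quotient.mk_eq_zero _).1 (congrArg Subtype.val hx)⟩
    rw [he _ (Nat.le_add_left e k), Nat.add_sub_cancel] at h1
    have h2 := (Submodule.smul_mono le_rfl inf_le_right : I ^ k • _ ≤ _) h1
    rw [← Submodule.map_top (LinearMap.lsmul A M a), ← Submodule.map_smul''] at h2
    obtain ⟨y, hy, hy'⟩ := h2
    exact (Submodule.Quotient.mk_eq_zero _).2 ⟨⟨y, hy⟩, Subtype.ext hy'⟩
  let ψ : ↥(pw I (modA (M := M) a) (k + e)) →ₗ[A] qA I (M := M) a k :=
    (LinearMap.ker (resQ I (M := M) a (k + e))).liftQ g hker ∘ₗ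
      ((resQ I (M := M) a (k + e)).quotKerEquivOfSurjective hsurj).symm.toLinearMap
  have hψ : ∀ x, ψ (resQ I a (k + e) x) = g x := fun x => by
    show (LinearMap.ker (resQ I a (k + e))).liftQ g hker (_ : _) = g x
    rw [show ((resQ I a (k + e)).quotKerEquivOfSurjective hsurj).symm.toLinearMap (resQ I a (k + e) x) =
      Submodule.Quotient.mk x from (LinearEquiv.symm_apply_eq _).2 rfl]
    rfl
  refine ⟨ψ, Submodule.linearMap_qext _ (LinearMap.ext hψ), LinearMap.ext fun y => ?_⟩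
  obtain ⟨x, rfl⟩ := hsurj y
  rw [LinearMap.comp_apply, hψ]
  rfl

end step

variable [IsNoetherianRing A]

theorem exists_regular_pw (M : Type u) [AddCommGroup M] [Module A M] [Module.Finite A M] :
    ∃ c, ∃ a ∈ I, IsSMulRegular ↥(pw I M c) a := by
  haveI : IsNoetherian A M := isNoetherian_of_isNoetherianRing_of_finite A M
  let G := DRing.torsionSub I M
  obtain ⟨e, he⟩ : ∃ e, ∀ r ∈ I ^ e, ∀ x ∈ G, r • x = 0 := by
    obtain ⟨S, hS⟩ := IsNoetherian.noetherian G
    choose n hn using fun x : {x // x ∈ S} => (hS ▸ Submodule.subset_span x.2 : x.1 ∈ G)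
    refine ⟨Finset.univ.sup n, fun r hr x hx => ?_⟩
    have : G ≤ LinearMap.ker (LinearMap.lsmul A M r) := by
      rw [← hS, Submodule.span_le]
      exact fun y hy => hn ⟨y, hy⟩ r (Ideal.pow_le_pow_right (Finset.le_sup (Finset.mem_univ _)) hr)
    exact this hx
  obtain ⟨k, hk⟩ := I.exists_pow_inf_eq_pow_smul G
  refine ⟨k + e, ?_⟩
  have h0 : ∀ x : ↥(pw I M (k + e)), x.1 ∈ G → x = 0 := fun x hx => Subtype.ext (by
    have h1 : x.1 ∈ (I ^ (k + e) • ⊤ : Submodule A M) ⊓ G := ⟨x.2, hx⟩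
    rw [hk _ (Nat.le_add_right k e), Nat.add_sub_cancel_left] at h1
    refine Submodule.smul_induction_on h1 (fun r hr y hy => he r hr y hy.2) fun y z hy hz => ?_
    rw [hy, hz]; exact add_zero _)
  by_contra hne
  push Not at hne
  haveI : IsNoetherian A ↥(pw I M (k + e)) := inferInstance
  have hsub : (I : Set A) ⊆ ⋃ p ∈ associatedPrimes A ↥(pw I M (k + e)), (p : Set A) := by
    rw [biUnion_associatedPrimes_eq_zero_divisors]
    intro r hr
    by_contra hcon
    refine hne r hr ((injective_iff_map_eq_zero (LinearMap.lsmul A ↥(pw I M (k + e)) r)).2 fun x hx => ?_)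
    by_contra hx0
    exact hcon ⟨x, hx0, hx⟩
  haveI : Module.Finite A ↥(pw I M (k + e)) := ⟨IsNoetherian.noetherian _⟩
  rw [← (associatedPrimes.finite A ↥(pw I M (k + e))).coe_toFinset] at hsub
  obtain ⟨p, hp, hIp⟩ := (Ideal.subset_union_prime (s := (associatedPrimes.finite A ↥(pw I M (k + e))).toFinset)
    (f := fun p => p) ⊥ ⊥ fun p hp _ _ => ((Set.Finite.mem_toFinset _).1 hp).isPrime).1 hsub
  obtain ⟨hpp, x, hx⟩ := isAssociatedPrime_iff.1 ((Set.Finite.mem_toFinset _).1 hp)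
  have hx0 : x ≠ 0 := fun h => hpp.ne_top (by rw [hx, h]; simp)
  refine hx0 (h0 x ⟨1, fun r hr => ?_⟩)
  rw [pow_one] at hr
  have hrx : r ∈ p := hIp hr
  rw [hx, Submodule.mem_colon_singleton] at hrx
  exact congrArg Subtype.val ((Submodule.mem_bot A).1 hrx)

theorem exists_pw_shift (M : Type u) [AddCommGroup M] [Module A M] (c k : ℕ) :
    ∃ θ : ↥(pw I ↥(pw I M c) k) ≃ₗ[A] ↥(pw I M (k + c)), ∀ x, (θ x : M) = x.1.1 := by
  have h : (pw I ↥(pw I M c) k).map (pw I M c).subtype = pw I M (k + c) := by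
    show Submodule.map _ (I ^ k • ⊤) = I ^ (k + c) • ⊤
    rw [Submodule.map_smul'', Submodule.map_top, Submodule.range_subtype, ← Submodule.mul_smul, ← pow_add]
  exact ⟨(Submodule.equivMapOfInjective _ (pw I M c).subtype_injective _).trans (LinearEquiv.ofEq _ _ h), fun _ => rfl⟩

theorem qTr_proZ (N : Type u) [AddCommGroup N] [Module A N] (a : A) (ha : IsSMulRegular N a) (i : ℕ)
    (hi : ProZ T I N i) (hi' : ProZ T I N (i + 1)) :
    ∀ n, ∃ K, ∀ (k : ℕ) (h : n ≤ k), K ≤ k → ∀ u, hm T i (qTr I (M := N) a h) u = 0 := by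
  intro n
  obtain ⟨l, hnl, hl⟩ := hi n
  obtain ⟨K, hK⟩ := hi'.ge l
  refine ⟨max K l, fun k h hk u => ?_⟩
  have hlk : l ≤ k := (le_max_right _ _).trans hk
  have h1 : δ T (mulSC_shortExact I a ha l) i (hm T i (qTr I a hlk) u) = 0 :=
    (δ_naturality (mulSC_shortExact I a ha k) _ (mulHom I a hlk) i u).symm.trans
      (hK k hlk ((le_max_left _ _).trans hk) _)
  obtain ⟨v, hv⟩ := exists_of_δ_eq_zero (mulSC_shortExact I a ha l) i _ h1
  rw [← hm_hm (show qTr I (M := N) a hnl ∘ₗ qTr I a hlk = qTr I a h from Submodule.linearMap_qext _ rfl), ← hv]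
  refine (hm_hm (show qTr I (M := N) a hnl ∘ₗ (LinearMap.range (LinearMap.lsmul A (pw I N l) a)).mkQ =
    (LinearMap.range (LinearMap.lsmul A (pw I N n) a)).mkQ ∘ₗ pwMap I N hnl from rfl) v).trans ?_
  rw [hm_comp, hl]
  simp [hm]

theorem modA_proZ (N : Type u) [AddCommGroup N] [Module A N] (a : A) (i e : ℕ)
    (ψ : ∀ k, ↥(pw I (modA (M := N) a) (k + e)) →ₗ[A] qA I (M := N) a k)
    (hψ' : ∀ k, toModA I a k ∘ₗ ψ k = pwMap I (modA (M := N) a) (Nat.le_add_right k e))
    (hQ : ∀ n, ∃ K, ∀ (k : ℕ) (h : n ≤ k), K ≤ k → ∀ u, hm T i (qTr I (M := N) a h) u = 0) :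
    ProZ T I (modA (M := N) a) i := by
  intro n
  obtain ⟨K, hK⟩ := hQ n
  refine ⟨max K n + e, by omega, fun w => ?_⟩
  have hcomp : toModA I a n ∘ₗ qTr I a (le_max_right K n) = pwMap I (modA (M := N) a) (le_max_right K n) ∘ₗ
      toModA I a (max K n) := Submodule.linearMap_qext _ rfl
  have h2 : pwMap I (modA (M := N) a) (by omega : n ≤ max K n + e) =
      (toModA I a n ∘ₗ qTr I a (le_max_right K n)) ∘ₗ ψ (max K n) := by
    rw [hcomp, LinearMap.comp_assoc, hψ']
    rfl
  rw [h2, hm_comp, hm_comp, hK _ _ (le_max_left K n)]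
  simp [hm]

theorem tors_step (t : ℕ)
    (ih : ∀ t' < t, ∀ (M : Type u) [AddCommGroup M] [Module A M] [Module.Finite A M],
      (∀ i < t', ProZ T I M i) → Tors T I M t')
    (N : Type u) [AddCommGroup N] [Module A N] [Module.Finite A N] (a : A) (haI : a ∈ I) (ha : IsSMulRegular N a)
    (hN : ∀ i < t, ProZ T I N i) : Tors T I N t := by
  intro m
  obtain _ | t' := t
  · refine ⟨0, fun k h _ x hx => ?_⟩
    have h1 : hm T 0 (LinearMap.lsmul A (pw I N k) a) x = 0 := by
      rw [show LinearMap.lsmul A (pw I N k) a = a • LinearMap.id from rfl, hm_smul, hm_id, hx a haI]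
    rw [injective_map_f_zero (mulSC_shortExact I a ha k) (h1.trans (map_zero _).symm)]
    simp [hm]
  obtain ⟨e, he⟩ := exists_ofModA I (M := N) a
  choose ψ hψ hψ' using he
  have hN' : ∀ i < t', ProZ T I (modA (M := N) a) i := fun i hi =>
    modA_proZ T I N a i e ψ hψ' (qTr_proZ T I N a ha i (hN i (by omega)) (hN (i + 1) (by omega)))
  obtain ⟨K₁, hK₁⟩ := ih t' (by omega) (modA (M := N) a) hN' (m + e)
  let l := max K₁ (m + e)
  obtain ⟨K₂, hK₂⟩ := (hN t' (by omega)).ge l
  refine ⟨max K₂ l, fun k h hk x hx => ?_⟩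
  have hlk : l ≤ k := (le_max_right _ _).trans hk
  have hml : m ≤ l := (Nat.le_add_right m e).trans (le_max_right _ _)
  have h1 : hm T (t' + 1) (LinearMap.lsmul A (pw I N k) a) x = 0 := by
    rw [show LinearMap.lsmul A (pw I N k) a = a • LinearMap.id from rfl, hm_smul, hm_id, hx a haI]
  obtain ⟨u, rfl⟩ := exists_of_map_f_eq_zero (mulSC_shortExact I a ha k) t' x h1
  have h2 : ∀ b ∈ I, b • hm T t' (qTr I a hlk) u = 0 := fun b hb => by
    obtain ⟨v, hv⟩ := exists_of_δ_eq_zero (mulSC_shortExact I a ha k) t' (b • u) (by rw [map_smul, hx b hb])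
    rw [← map_smul, ← hv]
    refine (hm_hm (show qTr I (M := N) a hlk ∘ₗ (LinearMap.range (LinearMap.lsmul A (pw I N k) a)).mkQ =
      (LinearMap.range (LinearMap.lsmul A (pw I N l) a)).mkQ ∘ₗ pwMap I N hlk from rfl) v).trans ?_
    rw [hm_comp, hK₂ k hlk ((le_max_left _ _).trans hk)]
    simp [hm]
  have h3 : hm T t' (qTr I a hml) (hm T t' (qTr I a hlk) u) = 0 := by
    have h4 := hK₁ l (le_max_right _ _) (le_max_left _ _) (hm T t' (toModA I a l) (hm T t' (qTr I a hlk) u))
      fun b hb => by rw [← map_smul, h2 b hb, map_zero]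
    have hme : m + e ≤ l := le_max_right _ _
    have hcomp : toModA I a (m + e) ∘ₗ qTr I a hme = pwMap I (modA (M := N) a) hme ∘ₗ toModA I a l :=
      Submodule.linearMap_qext _ rfl
    have h5 : qTr I (M := N) a hml = ψ m ∘ₗ (pwMap I (modA (M := N) a) hme ∘ₗ toModA I a l) := by
      rw [← hcomp, ← LinearMap.comp_assoc, hψ]
      exact Submodule.linearMap_qext _ rfl
    rw [h5, hm_comp, hm_comp, h4]
    simp [hm]
  refine (δ_naturality (mulSC_shortExact I a ha k) (mulSC_shortExact I a ha m) (mulHom I a h) t' u).trans ?_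
  have h6 : hm T t' (qTr I a h) u = 0 := by
    rw [← hm_hm (show qTr I (M := N) a hml ∘ₗ qTr I a hlk = qTr I a h from Submodule.linearMap_qext _ rfl), h3]
  exact (congrArg _ h6).trans (map_zero _)

theorem tors_of_proZ : ∀ (t : ℕ) (M : Type u) [AddCommGroup M] [Module A M] [Module.Finite A M],
    (∀ i < t, ProZ T I M i) → Tors T I M t := by
  intro t
  induction t using Nat.strong_induction_on with
  | _ t ih =>
  intro M _ _ _ hM
  obtain ⟨c, a, haI, ha⟩ := exists_regular_pw I M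
  haveI : IsNoetherian A M := isNoetherian_of_isNoetherianRing_of_finite A M
  haveI : Module.Finite A ↥(pw I M c) := ⟨IsNoetherian.noetherian _⟩
  choose θ hθ using exists_pw_shift I M c
  have hθc : ∀ {m k : ℕ} (h : m ≤ k), (θ m).toLinearMap ∘ₗ pwMap I ↥(pw I M c) h =
      pwMap I M (Nat.add_le_add_right h c) ∘ₗ (θ k).toLinearMap := fun {m k} h =>
    LinearMap.ext fun x => Subtype.ext (by
      show (θ m (pwMap I ↥(pw I M c) h x) : M) = (θ k x : M)
      rw [hθ, hθ]
      rfl)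
  have hN : ∀ i < t, ProZ T I ↥(pw I M c) i := fun i hi n => by
    obtain ⟨K, hK⟩ := (hM i hi).ge (n + c)
    refine ⟨max n K, le_max_left _ _, fun x => hm_injective (e := θ n) ?_⟩
    rw [← hm_comp, hθc, hm_comp]
    exact hK _ _ ((le_max_right n K).trans (Nat.le_add_right _ c)) _
  suffices key : Tors T I ↥(pw I M c) t by
    intro m
    obtain ⟨K, hK⟩ := key m
    refine ⟨max K m + c, fun k h hk x hx => ?_⟩
    obtain ⟨l, rfl⟩ : ∃ l, k = l + c := ⟨k - c, by omega⟩
    obtain ⟨y, rfl⟩ : ∃ y, hm T t (θ l).toLinearMap y = x := ⟨hm T t (θ l).symm.toLinearMap x, by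
      rw [hm_hm (show (θ l).toLinearMap ∘ₗ (θ l).symm.toLinearMap = LinearMap.id from
        LinearMap.ext (θ l).apply_symm_apply), hm_id]⟩
    have hy : ∀ b ∈ I, b • y = 0 := fun b hb => hm_injective (e := θ l) (by
      rw [hm, map_smul]; exact hx b hb)
    have h0 := congrArg (hm T t (θ m).toLinearMap) (hK l (by omega) (by omega) y hy)
    rw [← hm_comp, hθc, hm_comp] at h0
    rw [← hm_hm (show pwMap I M (Nat.le_add_right m c) ∘ₗ pwMap I M (by omega : m + c ≤ l + c) = pwMap I M h from rfl),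
      h0]
    simp [hm]
  exact tors_step T I t ih _ a haI ha hN

/-- Classes killed by a power of `I` die in lower powers. -/
theorem tors_pow {M : Type u} [AddCommGroup M] [Module A M] {t : ℕ} (hT : Tors T I M t) : ∀ c m, ∃ K,
    ∀ (k : ℕ) (h : m ≤ k), K ≤ k → ∀ x : (HF T t).obj (ModuleCat.of A (pw I M k)),
      (∀ a ∈ I ^ c, a • x = 0) → hm T t (pwMap I M h) x = 0 := by
  intro c
  induction c with
  | zero => exact fun m => ⟨0, fun k h _ x hx => by
      rw [← one_smul A x, hx 1 (by rw [pow_zero, Ideal.one_eq_top]; trivial)]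
      exact map_zero _⟩
  | succ c ihc =>
    intro m
    obtain ⟨K₁, hK₁⟩ := hT m
    obtain ⟨K₂, hK₂⟩ := ihc (max K₁ m)
    refine ⟨max K₂ (max K₁ m), fun k h hk x hx => ?_⟩
    have hlk : max K₁ m ≤ k := (le_max_right _ _).trans hk
    rw [← hm_hm (show pwMap I M (le_max_right K₁ m) ∘ₗ pwMap I M hlk = pwMap I M h from rfl)]
    refine hK₁ _ _ (le_max_left _ _) _ fun b hb => ?_
    rw [← map_smul]
    refine hK₂ k hlk ((le_max_left _ _).trans hk) (b • x) fun r hr => ?_
    rw [smul_smul]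
    exact hx _ (by rw [pow_succ]; exact Ideal.mul_mem_mul hr hb)

end Groth.Agent.HTLib
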