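import Groth.Agent.HTLib.Bridge
import Groth.Agent.HTLib.Torsion
import Groth.Prelude.Def_Formal2
import Groth.Agent.FiniteCompleteLib.Basic

/-!
# Formal cohomology on a punctured open from formal local cohomology
-/

set_option autoImplicit false
set_option linter.style.haveILetI false
set_option backward.isDefEq.respectTransparency false
set_option maxRecDepth 4000

universe u

open CategoryTheory CategoryTheory.Limits AlgebraicGeometry

noncomputable section

namespace Groth.Agent.HTLib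

variable {A : Type u} [CommRing A] [IsNoetherianRing A] (J I : Ideal A) (M : Type u) [AddCommGroup M] [Module A M]

/-- Injectivity into the limit. -/
def LimInj (i : ℕ) : Prop :=
  ∀ x : Bridge.LC J i M, (∀ n, Bridge.lm J i (Formal2.quotPowπ A I M n) x = 0) → x = 0

/-- Surjectivity onto the limit. -/
def LimSurj (i : ℕ) : Prop :=
  ∀ y : (∀ n, Bridge.LC J i (Formal2.quotPow A I M n)),
    (∀ n, Bridge.lm J i (Formal2.quotPowTrans A I M n) (y (n + 1)) = y n) →
      ∃ x, ∀ n, Bridge.lm J i (Formal2.quotPowπ A I M n) x = y n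

/-- Torsion of high reductions comes from `M`. -/
def TorStage : Prop :=
  ∀ n, ∃ K, ∀ (k : ℕ) (h : n ≤ k), K ≤ k → ∀ z : M ⧸ pw I M k, z ∈ DRing.torsionSub J (M ⧸ pw I M k) →
    ∃ t ∈ DRing.torsionSub J M, AdicCompletion.transitionMap I M h z = Submodule.Quotient.mk t

variable {J I M}

theorem formalCohBijective_succ (i : ℕ) (hinj : LimInj J I M (i + 2)) (hsurj : LimSurj J I M (i + 2)) :
    Formal2.FormalCohBijective A I M (i + 1) (LocCoh.puncturedOpen A J) := by
  obtain ⟨C⟩ := Bridge.exists_comp J i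
  refine ⟨fun x x' h => (C.bij M).1 (sub_eq_zero.1 (hinj _ fun n => ?_)), fun y hy => ?_⟩
  · rw [← map_sub, ← C.natural]
    show C.app _ (PuncSecLib.hm (Formal2.quotPowπ A I M n) (i + 1) _ (x - x')) = 0
    rw [map_sub, show PuncSecLib.hm (Formal2.quotPowπ A I M n) (i + 1) (Bridge.UJ J) x =
      PuncSecLib.hm (Formal2.quotPowπ A I M n) (i + 1) (Bridge.UJ J) x' from h n, sub_self, map_zero]
  · obtain ⟨z, hz⟩ := hsurj (fun n => C.app _ (y n)) fun n => (C.natural _ _).symm.trans (congrArg (C.app _) (hy n))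
    obtain ⟨x, rfl⟩ := (C.bij M).2 z
    exact ⟨x, fun n => (C.bij _).1 ((C.natural _ _).trans (hz n))⟩

theorem exists_sub_of_η_eq {V : ℕ} (z z' : M ⧸ pw I M V)
    (h : PuncSecLib.η _ (Bridge.UJ J) z = PuncSecLib.η _ (Bridge.UJ J) z') :
    z - z' ∈ DRing.torsionSub J (M ⧸ pw I M V) :=
  (PuncSecLib.η_eq_zero_iff_pow _).1 (by rw [map_sub, h, sub_self])

theorem eq_zero_of_limInj [IsAdicComplete I M] (hinj : LimInj J I M 1) (hsurj₀ : LimSurj J I M 0)
    (s : PuncSecLib.H M 0 (Bridge.UJ J))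
    (hs : ∀ n, PuncSecLib.hm (Formal2.quotPowπ A I M n) 0 (Bridge.UJ J) s = 0) : s = 0 := by
  obtain ⟨m, rfl⟩ := Bridge.exists_of_γ₀_eq_zero J (hinj _ fun n => by
    rw [← Bridge.γ₀_natural, hs n, map_zero])
  have hm : ∀ n, Formal2.quotPowπ A I M n m ∈ DRing.torsionSub J (Formal2.quotPow A I M n) := fun n =>
    (PuncSecLib.η_eq_zero_iff_pow _).1 ((PuncSecLib.hm_η _ _ m).symm.trans (hs n))
  choose w hw using fun n =>
    (SetLike.ext_iff.1 (LocCohLib.range_h0 (I := J) (M := ModuleCat.of A (Formal2.quotPow A I M n))) _).2 (hm n)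
  obtain ⟨v, hv⟩ := hsurj₀ w fun n => LocCohLib.h0_injective (by
    refine (LocCohLib.h0_map (ModuleCat.ofHom (Formal2.quotPowTrans A I M n)) _).trans ?_
    refine (congrArg (Formal2.quotPowTrans A I M n) (hw (n + 1))).trans ?_
    rw [hw n]
    rfl)
  have hmv : m = LocCohLib.h0 J (ModuleCat.of A M) v := by
    refine sub_eq_zero.1 (IsHausdorff.haus' (I := I) _ fun n => ?_)
    rcases n with _ | n
    · rw [SModEq.zero, pow_zero, Ideal.one_eq_top, Submodule.top_smul]
      trivial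
    · rw [SModEq.sub_mem, sub_zero, ← Submodule.Quotient.mk_eq_zero]
      show Formal2.quotPowπ A I M n (m - _) = 0
      rw [map_sub, sub_eq_zero, ← hw n, ← hv n]
      exact LocCohLib.h0_map (ModuleCat.ofHom (Formal2.quotPowπ A I M n)) v
  rw [hmv]
  exact (PuncSecLib.η_eq_zero_iff_pow _).2
    ((SetLike.ext_iff.1 (LocCohLib.range_h0 (I := J) (M := ModuleCat.of A M)) _).1 (LinearMap.mem_range_self _ v))

/-- Abstract tower: successively compatible families are compatible. -/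
theorem compat_of_succ {H : ℕ → Type*} (f : ∀ {n k : ℕ}, n ≤ k → H k → H n)
    (hid : ∀ n (x : H n), f le_rfl x = x)
    (hcomp : ∀ {n j k : ℕ} (h : n ≤ j) (h' : j ≤ k) (x : H k), f h (f h' x) = f (h.trans h') x)
    (y : ∀ n, H n) (hy : ∀ n, f (Nat.le_succ n) (y (n + 1)) = y n) {n k : ℕ} (h : n ≤ k) : f h (y k) = y n := by
  induction k, h using Nat.le_induction with
  | base => exact hid _ _
  | succ k hk ih => rw [← hcomp hk (Nat.le_succ k), hy, ih]

/-- Abstract tower: correcting a family compatible up to torsion. -/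
theorem adjust_aux {M : Type*} [AddCommGroup M] {Q : ℕ → Type*} [∀ n, AddCommGroup (Q n)]
    (π : ∀ n, M →+ Q n) (tr : ∀ {n k : ℕ}, n ≤ k → Q k →+ Q n)
    (hπ : ∀ {n k : ℕ} (h : n ≤ k) (x : M), tr h (π k x) = π n x)
    (hcomp : ∀ {n j k : ℕ} (h : n ≤ j) (h' : j ≤ k) (x : Q k), tr h (tr h' x) = tr (h.trans h') x)
    (hlim : ∀ q : ∀ n, Q n, (∀ n, tr (Nat.le_succ n) (q (n + 1)) = q n) → ∃ l, ∀ n, π n l = q n)
    (T : ∀ n, AddSubgroup (Q n)) (T' : AddSubgroup M) (hT : ∀ n, ∀ t ∈ T', π n t ∈ T n)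
    (hstage : ∀ n, ∃ K, ∀ (k : ℕ) (h : n ≤ k), K ≤ k → ∀ z ∈ T k, ∃ t ∈ T', tr h z = π n t)
    (m : ∀ n, Q n) (hm : ∀ (n k : ℕ) (h : n ≤ k), tr h (m k) - m n ∈ T n) :
    ∃ l : M, ∀ n, ∃ (k : ℕ) (h : n ≤ k), π n l - tr h (m k) ∈ T n := by
  choose K hK using hstage
  let K' : ℕ → ℕ := fun n => max (K n) n
  have hnK : ∀ n, n ≤ K' n := fun n => le_max_right _ _
  have hd : ∀ n (k : ℕ) (h : K' n ≤ k), ∃ t ∈ T',
      tr ((hnK n).trans h) (m k) - tr (hnK n) (m (K' n)) = π n t := by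
    intro n k h
    obtain ⟨t, ht, ht'⟩ := hK n (K' n) (hnK n) (le_max_left _ _) _ (hm (K' n) k h)
    refine ⟨t, ht, ?_⟩
    rw [← ht', map_sub, hcomp]
  have hd' : ∀ n, ∃ t ∈ T',
      tr (Nat.le_succ n) (tr (hnK (n + 1)) (m (K' (n + 1)))) - tr (hnK n) (m (K' n)) = π n t := by
    intro n
    obtain ⟨t, ht, ht'⟩ := hd n (max (K' n) (K' (n + 1))) (le_max_left _ _)
    obtain ⟨t₁, ht₁, ht₁'⟩ := hd (n + 1) (max (K' n) (K' (n + 1))) (le_max_right _ _)
    refine ⟨t - t₁, sub_mem ht ht₁, ?_⟩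
    have h3 := congrArg (tr (Nat.le_succ n)) ht₁'
    rw [map_sub, hπ, hcomp] at h3
    rw [map_sub, ← ht', ← h3]
    abel
  choose t ht ht' using hd'
  let u : ℕ → M := fun n => ∑ j ∈ Finset.range n, t j
  obtain ⟨l, hl⟩ := hlim (fun n => tr (hnK n) (m (K' n)) - π n (u n)) fun n => by
    rw [map_sub, hπ, show u (n + 1) = u n + t n from Finset.sum_range_succ _ _, map_add, ← ht' n]
    abel
  refine ⟨l, fun n => ⟨K' n, hnK n, ?_⟩⟩
  rw [hl n, sub_sub_cancel_left]
  exact neg_mem (hT n _ (sum_mem fun j _ => ht j))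

variable (I M) in
/-- The transition maps, shifted by one. -/
def qtr {n k : ℕ} (h : n ≤ k) : Formal2.quotPow A I M k →ₗ[A] Formal2.quotPow A I M n :=
  AdicCompletion.transitionMap I M (Nat.succ_le_succ h)

theorem qtr_π {n k : ℕ} (h : n ≤ k) (x : M) :
    qtr I M h (Formal2.quotPowπ A I M k x) = Formal2.quotPowπ A I M n x :=
  Submodule.factor_mk (Submodule.smul_mono_left (Ideal.pow_le_pow_right (Nat.succ_le_succ h))) x

theorem qtr_qtr {n j k : ℕ} (h : n ≤ j) (h' : j ≤ k) (x : Formal2.quotPow A I M k) :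
    qtr I M h (qtr I M h' x) = qtr I M (h.trans h') x := by
  obtain ⟨z, rfl⟩ : ∃ z, Formal2.quotPowπ A I M k z = x := Submodule.mkQ_surjective _ x
  rw [qtr_π, qtr_π, qtr_π]

theorem qtr_rfl (n : ℕ) (x : Formal2.quotPow A I M n) : qtr I M le_rfl x = x := by
  obtain ⟨z, rfl⟩ : ∃ z, Formal2.quotPowπ A I M n z = x := Submodule.mkQ_surjective _ x
  rw [qtr_π]

theorem qtr_succ (n : ℕ) : qtr I M (Nat.le_succ n) = Formal2.quotPowTrans A I M n :=
  LinearMap.ext fun x => by
    obtain ⟨z, rfl⟩ : ∃ z, Formal2.quotPowπ A I M (n + 1) z = x := Submodule.mkQ_surjective _ x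
    rw [qtr_π]
    exact (Submodule.mapQ_apply _ _ LinearMap.id z).symm

theorem exists_of_compatible [IsAdicComplete I M] (q : ∀ n, Formal2.quotPow A I M n)
    (hq : ∀ n, qtr I M (Nat.le_succ n) (q (n + 1)) = q n) : ∃ l, ∀ n, Formal2.quotPowπ A I M n l = q n := by
  choose p hp using fun n => Submodule.Quotient.mk_surjective (I ^ (n + 1) • ⊤ : Submodule A M) (q n)
  have hc : ∀ {n k : ℕ}, n ≤ k → Formal2.quotPowπ A I M n (p k) = q n := fun {n k} h => by
    rw [← qtr_π h, show Formal2.quotPowπ A I M k (p k) = q k from hp k]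
    exact compat_of_succ (fun h x => qtr I M h x) qtr_rfl qtr_qtr q hq h
  obtain ⟨l, hl⟩ := IsPrecomplete.prec (I := I) ‹IsAdicComplete I M›.toIsPrecomplete (f := p) (by
    intro a b hab
    rw [SModEq.def]
    refine (Submodule.Quotient.eq _).2 (pw_le I M (Nat.le_succ a) ?_)
    exact (Submodule.Quotient.eq _).1 ((hc (le_refl a)).trans (hc hab).symm))
  refine ⟨l, fun n => ?_⟩
  rw [← hc (Nat.le_succ n)]
  exact ((Submodule.Quotient.eq _).2 ((Submodule.Quotient.eq _).1 (hl (n + 1)))).symm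

theorem π_mem_torsion (n : ℕ) {t : M} (ht : t ∈ DRing.torsionSub J M) :
    Formal2.quotPowπ A I M n t ∈ DRing.torsionSub J (Formal2.quotPow A I M n) := by
  obtain ⟨c, hc⟩ := ht
  refine ⟨c, fun b hb => ?_⟩
  rw [← map_smul, hc b hb, map_zero]

/-- Families compatible up to torsion come from the module up to torsion. -/
theorem exists_adjust [IsAdicComplete I M] (hstage : TorStage J I M) (m : ∀ n, Formal2.quotPow A I M n)
    (hm : ∀ (n k : ℕ) (h : n ≤ k),
      qtr I M h (m k) - m n ∈ DRing.torsionSub J (Formal2.quotPow A I M n)) :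
    ∃ l : M, ∀ n, ∃ (k : ℕ) (h : n ≤ k),
      Formal2.quotPowπ A I M n l - qtr I M h (m k) ∈ DRing.torsionSub J (Formal2.quotPow A I M n) :=
  adjust_aux (M := M) (Q := fun n => Formal2.quotPow A I M n) (fun n => (Formal2.quotPowπ A I M n).toAddMonoidHom)
    (fun h => (qtr I M h).toAddMonoidHom) (fun h x => qtr_π h x) (fun h h' x => qtr_qtr h h' x)
    exists_of_compatible (fun n => (DRing.torsionSub J (Formal2.quotPow A I M n)).toAddSubgroup)
    (DRing.torsionSub J M).toAddSubgroup (fun n _ ht => π_mem_torsion n ht)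
    (fun n => (hstage (n + 1)).imp fun K hK k h hk z hz =>
      hK (k + 1) (Nat.succ_le_succ h) (Nat.le_succ_of_le hk) z hz)
    m hm

theorem formalCohBijective_zero [IsAdicComplete I M] (hinj : LimInj J I M 1) (hsurj : LimSurj J I M 1)
    (hsurj₀ : LimSurj J I M 0) (hstage : TorStage J I M) :
    Formal2.FormalCohBijective A I M 0 (LocCoh.puncturedOpen A J) := by
  refine ⟨fun x x' h => ?_, fun y hy => ?_⟩
  · exact sub_eq_zero.1 (eq_zero_of_limInj hinj hsurj₀ (x - x') fun n => by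
      rw [map_sub, show PuncSecLib.hm (Formal2.quotPowπ A I M n) 0 (Bridge.UJ J) x =
        PuncSecLib.hm (Formal2.quotPowπ A I M n) 0 (Bridge.UJ J) x' from h n, sub_self])
  · change ∀ n, PuncSecLib.H (Formal2.quotPow A I M n) 0 (Bridge.UJ J) at y
    have hy' : ∀ n, PuncSecLib.hm (Formal2.quotPowTrans A I M n) 0 (Bridge.UJ J) (y (n + 1)) = y n := hy
    obtain ⟨ξ, hξ⟩ := hsurj (fun n => Bridge.γ₀ J _ (y n)) fun n => by rw [← Bridge.γ₀_natural, hy']
    obtain ⟨s, rfl⟩ := Bridge.γ₀_surjective J ξ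
    choose m hm using fun n => Bridge.exists_of_γ₀_eq_zero J
      (s := y n - PuncSecLib.hm (Formal2.quotPowπ A I M n) 0 (Bridge.UJ J) s)
      (by rw [map_sub, Bridge.γ₀_natural, hξ, sub_self])
    have hcomp : ∀ (n k : ℕ) (h : n ≤ k),
        PuncSecLib.η _ (Bridge.UJ J) (qtr I M h (m k)) = PuncSecLib.η _ (Bridge.UJ J) (m n) := by
      intro n k h
      have h1 : PuncSecLib.hm (qtr I M h) 0 (Bridge.UJ J) (y k) = y n :=
        compat_of_succ (H := fun n => PuncSecLib.H (Formal2.quotPow A I M n) 0 (Bridge.UJ J))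
          (fun h x => PuncSecLib.hm (qtr I M h) 0 (Bridge.UJ J) x)
          (fun n x => by rw [show qtr I M (le_refl n) = LinearMap.id from LinearMap.ext (qtr_rfl n),
            PuncSecLib.hm_id])
          (fun h h' x => by rw [← PuncSecLib.hm_comp,
            show (qtr I M h).comp (qtr I M h') = qtr I M (h.trans h') from LinearMap.ext (qtr_qtr h h')])
          y (fun n => by rw [qtr_succ, hy']) h
      rw [← PuncSecLib.hm_η, hm, hm, map_sub, h1, ← PuncSecLib.hm_comp,
        show (qtr I M h).comp (Formal2.quotPowπ A I M k) = Formal2.quotPowπ A I M n from LinearMap.ext (qtr_π h)]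
    obtain ⟨l, hl⟩ := exists_adjust hstage m fun n k h => exists_sub_of_η_eq _ _ (hcomp n k h)
    refine ⟨s + PuncSecLib.η M (Bridge.UJ J) l, fun n => ?_⟩
    obtain ⟨k, h, hk⟩ := hl n
    have h0 := (PuncSecLib.η_eq_zero_iff_pow _).2 hk
    rw [map_sub, sub_eq_zero] at h0
    show PuncSecLib.hm (Formal2.quotPowπ A I M n) 0 (Bridge.UJ J) (s + PuncSecLib.η M (Bridge.UJ J) l) = y n
    rw [map_add, PuncSecLib.hm_η, h0, hcomp n k h, hm]
    abel

end Groth.Agent.HTLib
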