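import Groth.Agent.HTLib.Point

/-!
# From the points to the whole support
-/

set_option autoImplicit false
set_option linter.style.haveILetI false
set_option backward.isDefEq.respectTransparency false
set_option maxRecDepth 4000

universe u

open CategoryTheory Limits

noncomputable section

namespace Groth.Agent.HTLib

variable {A : Type u} [CommRing A] [IsNoetherianRing A] {T : Set (PrimeSpectrum A)} (hT : StableUnderSpecialization T)
  (f : PrimeSpectrum A → ℕ) (hf : ∀ p ∈ T, ∀ q ∈ T, p < q → f p < f q)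

/-- The points of `T` of level at least `j`. -/
abbrev lev (T : Set (PrimeSpectrum A)) (f : PrimeSpectrum A → ℕ) (j : ℕ) : Set (PrimeSpectrum A) :=
  {q | q ∈ T ∧ j ≤ f q}

omit [IsNoetherianRing A] in
include hT hf in
theorem stable_lev (j : ℕ) : StableUnderSpecialization (lev T f j) := by
  intro p q hpq hp
  refine ⟨hT hpq hp.1, ?_⟩
  rcases eq_or_lt_of_le ((PrimeSpectrum.le_iff_specializes p q).2 hpq) with h | h
  · exact h ▸ hp.2
  · exact hp.2.trans (hf p hp.1 q (hT hpq hp.1) h).le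

omit [IsNoetherianRing A] in
theorem lev_succ_subset (j : ℕ) : lev T f (j + 1) ⊆ lev T f j := fun _ hq => ⟨hq.1, (Nat.le_succ j).trans hq.2⟩

omit [IsNoetherianRing A] in
include hT hf in
theorem anti_lev (j : ℕ) : ∀ q ∈ lev T f j \ lev T f (j + 1), ∀ p, q < p → p ∈ lev T f (j + 1) := fun q hq p hqp => by
  have hp : p ∈ T := hT ((PrimeSpectrum.le_iff_specializes q p).1 hqp.le) hq.1.1
  exact ⟨hp, (Nat.succ_le_succ hq.1.2).trans (hf q hq.1.1 p hp hqp)⟩

omit [IsNoetherianRing A] in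
theorem lev_zero : lev T f 0 = T := Set.ext fun _ => ⟨fun h => h.1, fun h => ⟨h, Nat.zero_le _⟩⟩

omit [IsNoetherianRing A] in
theorem lev_eq_empty {n : ℕ} (hn : ∀ q ∈ T, f q < n) : lev T f n = ∅ :=
  Set.eq_empty_iff_forall_notMem.2 fun q hq => (hn q hq.1).not_ge hq.2

variable {M : ℕ → Type u} [∀ n, AddCommGroup (M n)] [∀ n, Module A (M n)] (φ : ∀ k m : ℕ, m ≤ k → (M k →ₗ[A] M m))
  (hφ : ∀ (k l m : ℕ) (h₁ : m ≤ l) (h₂ : l ≤ k), φ k m (h₁.trans h₂) = φ l m h₁ ∘ₗ φ k l h₂) (i : ℕ)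
  (m' : ℕ → ℕ) (hm' : ∀ m, m ≤ m' m)

/-- The map on cohomology with supports in `U` given by the system. -/
abbrev tmap (U : Set (PrimeSpectrum A)) (i : ℕ) (k m : ℕ) (h : m ≤ k) (x : (HF U i).obj (ModuleCat.of A (M k))) :
    (HF U i).obj (ModuleCat.of A (M m)) :=
  ((HF U i).map (ModuleCat.ofHom (φ k m h))).hom x

omit [IsNoetherianRing A] in
include hφ in
theorem tmap_tmap (U : Set (PrimeSpectrum A)) {k l m : ℕ} (h₁ : m ≤ l) (h₂ : l ≤ k)
    (x : (HF U i).obj (ModuleCat.of A (M k))) :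
    tmap φ U i l m h₁ (tmap φ U i k l h₂ x) = tmap φ U i k m (h₁.trans h₂) x := by
  rw [tmap, tmap, tmap, hφ k l m h₁ h₂, ModuleCat.ofHom_comp, Functor.map_comp]
  rfl

omit [IsNoetherianRing A] in
theorem tmap_zero (U : Set (PrimeSpectrum A)) {k m : ℕ} (h : m ≤ k) :
    tmap φ U i k m h 0 = 0 := map_zero _

include hT hf hφ hm' in
/-- Vanishing at the points gives vanishing on the whole support. -/
theorem map_eq_zero_of_locKills {n : ℕ} (hn : ∀ q ∈ T, f q < n)
    (hloc : ∀ q ∈ T, ∀ (m k : ℕ) (h : m ≤ k), m' m ≤ k → LocKills q i (ModuleCat.ofHom (φ k m h))) :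
    ∀ (r j : ℕ), j + r = n → ∀ (m k : ℕ) (h : m ≤ k), (m'^[r]) m ≤ k →
      ∀ x, tmap φ (lev T f j) i k m h x = 0 := by
  intro r
  induction r with
  | zero =>
    intro j hj m k h _ x
    obtain rfl : j = n := by omega
    suffices h0 : ∀ (U : Set (PrimeSpectrum A)), U = ∅ → ∀ x, tmap φ U i k m h x = 0 from h0 _ (lev_eq_empty f hn) x
    rintro U rfl x
    exact eq_zero_of_empty _
  | succ r ih =>
    intro j hj m k h hk x
    rw [Function.iterate_succ_apply'] at hk
    let l := (m'^[r]) m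
    have hlm : m ≤ l := Function.id_le_iterate_of_id_le hm' r m
    have hkl : l ≤ k := (hm' l).trans hk
    obtain ⟨w, hw⟩ := exists_incl_eq (stable_lev hT f hf j) (lev_succ_subset f j) (stable_lev hT f hf (j + 1))
      (anti_lev hT f hf j) (φ k l hkl) (0 : M k →ₗ[A] M k)
      (fun q hq => (hloc q hq.1.1 l k hkl hk).kerLe _) x (map_zero' x)
    have h1 := ih (j + 1) (by omega) m l hlm le_rfl w
    calc tmap φ (lev T f j) i k m h x = tmap φ (lev T f j) i l m hlm (tmap φ (lev T f j) i k l hkl x) :=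
          (tmap_tmap φ hφ i _ hlm hkl x).symm
      _ = tmap φ (lev T f j) i l m hlm (incl (lev_succ_subset f j) i _ w) := congrArg _ hw.symm
      _ = incl (lev_succ_subset f j) i _ (tmap φ (lev T f (j + 1)) i l m hlm w) := map_incl _ _ w
      _ = 0 := by rw [h1, map_zero]

include hT hf hφ hm' in
/-- Injectivity of stable images at the points gives it on the whole support. -/
theorem exists_injective_of_kerLe {n : ℕ} (hn : ∀ q ∈ T, f q < n)
    (h1 : ∀ i', i' + 1 = i → ∀ q ∈ T, ∀ (m k : ℕ) (h : m ≤ k), m' m ≤ k → LocKills q i' (ModuleCat.ofHom (φ k m h)))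
    (h2 : ∀ q ∈ T, ∀ (m k : ℕ) (h : m ≤ k), m' m ≤ k →
      KerLe q i (ModuleCat.ofHom (φ k m h)) (ModuleCat.ofHom (φ k 0 (Nat.zero_le k)))) :
    ∀ (r j : ℕ), j + r = n → ∃ m₀ : ℕ, ∀ (m : ℕ) (hm : m₀ ≤ m), ∃ N, m ≤ N ∧ ∀ (k : ℕ) (h : m ≤ k), N ≤ k →
      ∀ x, tmap φ (lev T f j) i k m₀ (hm.trans h) x = 0 → tmap φ (lev T f j) i k m h x = 0 := by
  intro r
  induction r with
  | zero =>
    intro j hj
    obtain rfl : j = n := by omega
    refine ⟨0, fun m _ => ⟨m, le_rfl, fun k h _ x _ => ?_⟩⟩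
    suffices h0 : ∀ (U : Set (PrimeSpectrum A)), U = ∅ → ∀ x, tmap φ U i k m h x = 0 from h0 _ (lev_eq_empty f hn) x
    rintro U rfl x
    exact eq_zero_of_empty _
  | succ r ih =>
    intro j hj
    obtain ⟨m₁, hm₁⟩ := ih (j + 1) (by omega)
    refine ⟨m' m₁, fun m hm => ?_⟩
    obtain ⟨N, hN, hNk⟩ := hm₁ m ((hm' m₁).trans hm)
    let L := max N (m' m₁)
    have hmL : m ≤ L := hN.trans (le_max_left _ _)
    refine ⟨m' L, hmL.trans (hm' L), fun k h hk x hx => ?_⟩
    have hkL : L ≤ k := (hm' L).trans hk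
    let ι := incl (lev_succ_subset (T := T) f j) i
    have hx0 : tmap φ (lev T f j) i k 0 (Nat.zero_le k) x = 0 := by
      rw [← tmap_tmap φ hφ i _ (Nat.zero_le (m' m₁)) (hm.trans h) x, hx, tmap_zero]
    obtain ⟨w, hw⟩ := exists_incl_eq (stable_lev hT f hf j) (lev_succ_subset f j) (stable_lev hT f hf (j + 1))
      (anti_lev hT f hf j) (φ k L hkL) (φ k 0 (Nat.zero_le k)) (fun q hq => h2 q hq.1.1 L k hkL hk) x hx0
    have hu : ι _ (tmap φ (lev T f (j + 1)) i L (m' m₁) (le_max_right _ _) w) = 0 := by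
      refine (map_incl _ _ w).symm.trans ?_
      rw [hw]
      exact (tmap_tmap φ hφ i _ (le_max_right _ _) hkL x).trans hx
    have hu1 : tmap φ (lev T f (j + 1)) i L m₁ ((hm' m₁).trans (le_max_right _ _)) w = 0 := by
      rw [← tmap_tmap φ hφ i _ (hm' m₁) (le_max_right _ _) w]
      cases i with
      | zero => rw [incl_injective_zero _ _ (hu.trans (map_zero _).symm), tmap_zero]
      | succ i' =>
        exact map_eq_zero_of_incl_eq_zero (stable_lev hT f hf j) (lev_succ_subset f j) (stable_lev hT f hf (j + 1))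
          (anti_lev hT f hf j) (φ (m' m₁) m₁ (hm' m₁))
          (fun q hq => h1 i' rfl q hq.1.1 m₁ (m' m₁) (hm' m₁) le_rfl) _ hu
    have hw0 := hNk L hmL (le_max_left _ _) w hu1
    calc tmap φ (lev T f j) i k m h x = tmap φ (lev T f j) i L m hmL (tmap φ (lev T f j) i k L hkL x) :=
          (tmap_tmap φ hφ i _ hmL hkL x).symm
      _ = tmap φ (lev T f j) i L m hmL (ι _ w) := congrArg _ hw.symm
      _ = ι _ (tmap φ (lev T f (j + 1)) i L m hmL w) := map_incl _ _ w
      _ = 0 := by rw [hw0, map_zero]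

end Groth.Agent.HTLib

namespace Groth.Agent.HTLib

variable {A : Type u} [CommRing A] [IsNoetherianRing A] {T U : Set (PrimeSpectrum A)}
  (hT : StableUnderSpecialization T) (hU : StableUnderSpecialization U) (hUT : U ⊆ T)
  (f : PrimeSpectrum A → ℕ) (hf : ∀ p ∈ T, ∀ q ∈ T, p < q → f p < f q) {n : ℕ} (hn : ∀ q ∈ T, f q < n)
  (M : Type u) [AddCommGroup M] [Module A M] {s : ℕ}
  (hloc : ∀ q ∈ T \ U, ∀ i ≤ s, LocKills q i (ModuleCat.ofHom (LinearMap.id : M →ₗ[A] M)))

include hT hU hUT hf hn hloc in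
/-- Points without cohomology do not change the cohomology with supports. -/
theorem bijective_incl : ∀ i ≤ s, Function.Bijective (incl hUT i (ModuleCat.of A M)) := by
  have hV : ∀ j, StableUnderSpecialization (U ∪ lev T f j) := fun j p q hpq hp =>
    hp.imp (fun h => hU hpq h) fun h => stable_lev hT f hf j hpq h
  have hsub : ∀ j, U ∪ lev T f (j + 1) ⊆ U ∪ lev T f j := fun j => Set.union_subset_union_right U (lev_succ_subset f j)
  have hanti : ∀ j, ∀ q ∈ (U ∪ lev T f j) \ (U ∪ lev T f (j + 1)), ∀ p, q < p → p ∈ U ∪ lev T f (j + 1) :=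
    fun j q hq p hqp => Or.inr (anti_lev hT f hf j q
      ⟨(hq.1.resolve_left fun h => hq.2 (Or.inl h)), fun h => hq.2 (Or.inr h)⟩ p hqp)
  have hmem : ∀ j, ∀ q ∈ (U ∪ lev T f j) \ (U ∪ lev T f (j + 1)), q ∈ T \ U := fun j q hq =>
    ⟨(hq.1.resolve_left fun h => hq.2 (Or.inl h)).1, fun h => hq.2 (Or.inl h)⟩
  have hstep : ∀ j, ∀ i ≤ s, Function.Bijective (incl (hsub j) i (ModuleCat.of A M)) := fun j i hi => by
    refine ⟨(injective_iff_map_eq_zero _).2 fun x hx => ?_, fun x => ?_⟩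
    · cases i with
      | zero => exact incl_injective_zero _ _ (hx.trans (map_zero _).symm)
      | succ i' =>
        have h1 := map_eq_zero_of_incl_eq_zero (hV j) (hsub j) (hV (j + 1)) (hanti j) LinearMap.id
          (fun q hq => hloc q (hmem j q hq) i' (by omega)) x hx
        rwa [ModuleCat.ofHom_id, CategoryTheory.Functor.map_id] at h1
    · obtain ⟨w, hw⟩ := exists_incl_eq (hV j) (hsub j) (hV (j + 1)) (hanti j) (LinearMap.id : M →ₗ[A] M)
        (0 : M →ₗ[A] M) (fun q hq => (hloc q (hmem j q hq) i hi).kerLe _) x (map_zero' x)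
      exact ⟨w, by rwa [ModuleCat.ofHom_id, CategoryTheory.Functor.map_id] at hw⟩
  have hall : ∀ j, j ≤ n → ∀ i ≤ s, ∀ h : U ∪ lev T f n ⊆ U ∪ lev T f (n - j),
      Function.Bijective (incl h i (ModuleCat.of A M)) := by
    intro j
    induction j with
    | zero =>
      intro _ i _ h
      exact ⟨fun x y hxy => (incl_self x).symm.trans (hxy.trans (incl_self y)), fun x => ⟨x, incl_self x⟩⟩
    | succ j ih =>
      intro hj i hi h
      have hb := hstep (n - (j + 1))
      have he : n - (j + 1) + 1 = n - j := by omega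
      have hsj : U ∪ lev T f (n - j) ⊆ U ∪ lev T f (n - (j + 1)) := he ▸ hsub _
      have hb' : Function.Bijective (incl hsj i (ModuleCat.of A M)) := by
        generalize hk : n - j = k at hsj he
        subst he
        exact hb i hi
      have h0 : U ∪ lev T f n ⊆ U ∪ lev T f (n - j) :=
        Set.union_subset_union_right U fun q hq => ⟨hq.1, (Nat.sub_le n j).trans hq.2⟩
      have hc : ⇑(incl h i (ModuleCat.of A M)) = incl hsj i (ModuleCat.of A M) ∘ incl h0 i (ModuleCat.of A M) :=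
        funext fun x => (incl_incl h0 hsj x).symm
      rw [hc]
      exact hb'.comp (ih (by omega) i hi h0)
  intro i hi
  have key : ∀ (V W : Set (PrimeSpectrum A)) (hV : V = U) (hW : W = T) (h : V ⊆ W),
      Function.Bijective (incl h i (ModuleCat.of A M)) → Function.Bijective (incl hUT i (ModuleCat.of A M)) := by
    rintro V W rfl rfl h hb
    exact hb
  refine key (U ∪ lev T f n) (U ∪ lev T f (n - n)) ?_ ?_ _
    (hall n le_rfl i hi (Set.union_subset_union_right U fun q hq => ⟨hq.1, (Nat.sub_le n n).trans hq.2⟩))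
  · rw [lev_eq_empty f hn, Set.union_empty]
  · rw [Nat.sub_self, lev_zero, Set.union_eq_right.2 hUT]

end Groth.Agent.HTLib
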