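import Groth.Agent.HTLib.Induct
import Groth.Agent.HTLib.LocTrans

/-!
# Pointwise criteria for systems
-/

set_option autoImplicit false
set_option linter.style.haveILetI false
set_option backward.isDefEq.respectTransparency false

universe u

open CategoryTheory

noncomputable section

namespace Groth.Agent.HTLib

variable {A : Type u} [CommRing A]

theorem exists_level (T : Set (PrimeSpectrum A)) {e : ℕ} (he : Order.krullDim ↥T ≤ (e : WithBot ℕ∞)) :
    ∃ f : PrimeSpectrum A → ℕ, (∀ p ∈ T, ∀ q ∈ T, p < q → f p < f q) ∧ ∀ q ∈ T, f q < e + 1 := by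
  classical
  have hle : ∀ q : T, Order.height q ≤ (e : ℕ∞) := fun q =>
    WithBot.coe_le_coe.1 ((Order.height_le_krullDim q).trans he)
  refine ⟨fun q => if h : q ∈ T then (Order.height (⟨q, h⟩ : T)).toNat else 0, fun p hp q hq hpq => ?_, fun q hq => ?_⟩
  · simp only [dif_pos hp, dif_pos hq]
    have h1 : Order.height (⟨p, hp⟩ : T) < Order.height (⟨q, hq⟩ : T) :=
      Order.height_strictMono hpq ((hle _).trans_lt (ENat.coe_lt_top e))
    obtain ⟨a, ha⟩ := ENat.ne_top_iff_exists.1 (ne_top_of_le_ne_top (ENat.coe_ne_top e) (hle ⟨p, hp⟩))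
    obtain ⟨b, hb⟩ := ENat.ne_top_iff_exists.1 (ne_top_of_le_ne_top (ENat.coe_ne_top e) (hle ⟨q, hq⟩))
    rw [← ha, ← hb] at h1 ⊢
    simpa using h1
  · simp only [dif_pos hq]
    obtain ⟨b, hb⟩ := ENat.ne_top_iff_exists.1 (ne_top_of_le_ne_top (ENat.coe_ne_top e) (hle ⟨q, hq⟩))
    have := hle ⟨q, hq⟩
    rw [← hb] at this ⊢
    simp only [ENat.toNat_coe]
    exact Nat.lt_succ_of_le (by exact_mod_cast this)

theorem exists_level_of_dim (T : Set (PrimeSpectrum A)) (hA : ringKrullDim A < ⊤) :
    ∃ (e : ℕ) (f : PrimeSpectrum A → ℕ), (∀ p ∈ T, ∀ q ∈ T, p < q → f p < f q) ∧ ∀ q ∈ T, f q < e + 1 := by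
  have h1 : Order.krullDim ↥T ≤ ringKrullDim A :=
    Order.krullDim_le_of_strictMono (fun q : T => q.1) fun _ _ h => h
  obtain ⟨e, he⟩ : ∃ e : ℕ, ringKrullDim A ≤ (e : WithBot ℕ∞) := by
    generalize ringKrullDim A = d at hA
    induction d using WithBot.recBotCoe with
    | bot => exact ⟨0, bot_le⟩
    | coe d =>
      induction d using ENat.recTopCoe with
      | top => exact absurd hA (lt_irrefl _)
      | coe d => exact ⟨d, le_rfl⟩
  obtain ⟨f, hf, hf'⟩ := exists_level T (h1.trans he)
  exact ⟨e, f, hf, hf'⟩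

variable [IsNoetherianRing A] (q : PrimeSpectrum A) {i : ℕ} {M N P : Type u} [AddCommGroup M] [Module A M]
  [AddCommGroup N] [Module A N] [AddCommGroup P] [Module A P]

/-- Local cohomology at `q` of the localisation. -/
abbrev Hloc (q : PrimeSpectrum A) (i : ℕ) (M : Type u) [AddCommGroup M] [Module A M] :
    ModuleCat.{u} (Localization.AtPrime q.asIdeal) :=
  (localCohomology (IsLocalRing.maximalIdeal (Localization.AtPrime q.asIdeal)) i).obj
    (ModuleCat.of (Localization.AtPrime q.asIdeal) (LocalizedModule q.asIdeal.primeCompl M))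

theorem kerLe_of_localized (φ : M →ₗ[A] N) (ψ : M →ₗ[A] P)
    (h : ∀ y : Hloc q i M, ((localCohomology (IsLocalRing.maximalIdeal (Localization.AtPrime q.asIdeal)) i).map
        (ModuleCat.ofHom (LocalizedModule.map q.asIdeal.primeCompl ψ))).hom y = 0 →
      ((localCohomology (IsLocalRing.maximalIdeal (Localization.AtPrime q.asIdeal)) i).map
        (ModuleCat.ofHom (LocalizedModule.map q.asIdeal.primeCompl φ))).hom y = 0) :
    KerLe q i (ModuleCat.ofHom φ) (ModuleCat.ofHom ψ) := by
  haveI : IsNoetherianRing (Localization.AtPrime q.asIdeal) :=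
    IsLocalization.isNoetherianRing q.asIdeal.primeCompl _ inferInstance
  haveI : Module.Flat A (Localization.AtPrime q.asIdeal) := IsLocalization.flat _ q.asIdeal.primeCompl
  obtain ⟨e, he⟩ := exists_equiv_localized (A := A) q (i := i)
  refine kerLe_of_flat q (Localization.AtPrime q.asIdeal) (Localization.AtPrime q.asIdeal) _ _ fun y hy => ?_
  refine (e N).map_eq_zero_iff.1 ((he M N φ y).trans (h _ ?_))
  rw [← he M P ψ y, hy, map_zero]

theorem locKills_of_localized (φ : M →ₗ[A] N)
    (h : (localCohomology (IsLocalRing.maximalIdeal (Localization.AtPrime q.asIdeal)) i).map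
      (ModuleCat.ofHom (LocalizedModule.map q.asIdeal.primeCompl φ)) = 0) : LocKills q i (ModuleCat.ofHom φ) :=
  fun z => kerLe_of_localized q φ (0 : M →ₗ[A] M) (fun y _ => congr($(h).hom y)) z
    ⟨1, fun hq => q.2.ne_top ((Ideal.eq_top_iff_one _).2 hq), by
      rw [show ModuleCat.ofHom (0 : M →ₗ[A] M) = 0 from rfl, map_zero', smul_zero]⟩

end Groth.Agent.HTLib
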