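import Groth.Agent.HTLib.Colim

/-!
# The long exact sequence of cohomology with supports
-/

set_option autoImplicit false
set_option linter.style.haveILetI false
set_option backward.isDefEq.respectTransparency false

universe u

open CategoryTheory Limits

noncomputable section

namespace Groth.Agent.HTLib

variable {A : Type u} [CommRing A] (T : Set (PrimeSpectrum A)) {S : ShortComplex (ModuleCat.{u} A)}
  (hS : S.ShortExact)

theorem exists_δ (i : ℕ) :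
    ∃ δ : ((HF T i).obj S.X₃ : Type u) →ₗ[A] ((HF T (i + 1)).obj S.X₁ : Type u),
      ∀ D hD x, δ (ι T i S.X₃ D hD x) = ι T (i + 1) S.X₁ D hD (x.comp hS.extClass rfl) :=
  exists_desc (fun D hD => ι T (i + 1) S.X₁ D hD ∘ₗ hS.extClass.postcompOfLinear A (qq D) rfl)
    fun D D' hD hD' h x => by
    show ι T (i + 1) S.X₁ D' hD' (((Abelian.Ext.mk₀ (qmap h)).comp x (zero_add i)).comp hS.extClass rfl) =
      ι T (i + 1) S.X₁ D hD (x.comp hS.extClass rfl)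
    rw [Abelian.Ext.comp_assoc (a₂₃ := i + 1) _ x hS.extClass (zero_add i) rfl (by omega), ι_comp hD]

/-- The connecting map. -/
def δ (i : ℕ) : ((HF T i).obj S.X₃ : Type u) →ₗ[A] ((HF T (i + 1)).obj S.X₁ : Type u) :=
  (exists_δ T hS i).choose

theorem δ_ι (i : ℕ) {D : Ideal A} (hD : PrimeSpectrum.zeroLocus (D : Set A) ⊆ T)
    (x : Abelian.Ext.{u} (qq D) S.X₃ i) :
    δ T hS i (ι T i S.X₃ D hD x) = ι T (i + 1) S.X₁ D hD (x.comp hS.extClass rfl) :=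
  (exists_δ T hS i).choose_spec D hD x

variable {T}

theorem map_g_map_f (i : ℕ) (z : (HF T i).obj S.X₁) :
    ((HF T i).map S.g).hom (((HF T i).map S.f).hom z) = 0 := by
  obtain ⟨D, hD, x, rfl⟩ := exists_ι z
  rw [map_ι, map_ι, Abelian.Ext.comp_assoc_of_second_deg_zero, Abelian.Ext.mk₀_comp_mk₀, S.zero]
  simp

theorem δ_map_g (i : ℕ) (z : (HF T i).obj S.X₂) : δ T hS i (((HF T i).map S.g).hom z) = 0 := by
  obtain ⟨D, hD, x, rfl⟩ := exists_ι z
  rw [map_ι, δ_ι, Abelian.Ext.comp_assoc_of_second_deg_zero, hS.comp_extClass]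
  simp

theorem map_f_δ (i : ℕ) (z : (HF T i).obj S.X₃) : ((HF T (i + 1)).map S.f).hom (δ T hS i z) = 0 := by
  obtain ⟨D, hD, x, rfl⟩ := exists_ι z
  rw [δ_ι, map_ι, Abelian.Ext.comp_assoc_of_third_deg_zero, hS.extClass_comp]
  simp

include hS in
theorem exists_of_map_g_eq_zero (i : ℕ) (z : (HF T i).obj S.X₂) (hz : ((HF T i).map S.g).hom z = 0) :
    ∃ w, ((HF T i).map S.f).hom w = z := by
  obtain ⟨D, hD, x, rfl⟩ := exists_ι z
  rw [map_ι, ι_eq_zero_iff] at hz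
  obtain ⟨D', hD', h, hx⟩ := hz
  rw [← Abelian.Ext.comp_assoc_of_third_deg_zero] at hx
  obtain ⟨x₁, hx₁⟩ := Abelian.Ext.covariant_sequence_exact₂ _ hS _ hx
  exact ⟨ι T i S.X₁ D' hD' x₁, by rw [map_ι, hx₁, ι_comp hD]⟩

theorem exists_of_δ_eq_zero (i : ℕ) (z : (HF T i).obj S.X₃) (hz : δ T hS i z = 0) :
    ∃ w, ((HF T i).map S.g).hom w = z := by
  obtain ⟨D, hD, x, rfl⟩ := exists_ι z
  rw [δ_ι, ι_eq_zero_iff] at hz
  obtain ⟨D', hD', h, hx⟩ := hz
  rw [← Abelian.Ext.comp_assoc (a₁₂ := i) _ x hS.extClass (zero_add i) rfl (by omega)] at hx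
  obtain ⟨x₂, hx₂⟩ := Abelian.Ext.covariant_sequence_exact₃ _ hS _ rfl hx
  exact ⟨ι T i S.X₂ D' hD' x₂, by rw [map_ι, hx₂, ι_comp hD]⟩

theorem exists_of_map_f_eq_zero (i : ℕ) (z : (HF T (i + 1)).obj S.X₁)
    (hz : ((HF T (i + 1)).map S.f).hom z = 0) : ∃ w, δ T hS i w = z := by
  obtain ⟨D, hD, x, rfl⟩ := exists_ι z
  rw [map_ι, ι_eq_zero_iff] at hz
  obtain ⟨D', hD', h, hx⟩ := hz
  rw [← Abelian.Ext.comp_assoc_of_third_deg_zero] at hx
  obtain ⟨x₃, hx₃⟩ := Abelian.Ext.covariant_sequence_exact₁ _ hS _ hx rfl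
  exact ⟨ι T i S.X₃ D' hD' x₃, by rw [δ_ι, hx₃, ι_comp hD]⟩

include hS in
/-- The first map is injective in degree zero. -/
theorem injective_map_f_zero : Function.Injective ((HF T 0).map S.f).hom := by
  refine (injective_iff_map_eq_zero _).2 fun z hz => ?_
  obtain ⟨D, hD, x, rfl⟩ := exists_ι z
  rw [map_ι, ι_eq_zero_iff] at hz
  obtain ⟨D', hD', h, hx⟩ := hz
  rw [← Abelian.Ext.comp_assoc_of_third_deg_zero] at hx
  obtain ⟨f, hf⟩ := (Abelian.Ext.mk₀_bijective _ _).2 ((Abelian.Ext.mk₀ (qmap h)).comp x (zero_add 0))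
  rw [← hf, Abelian.Ext.mk₀_comp_mk₀, Abelian.Ext.mk₀_eq_zero_iff] at hx
  haveI := hS.mono_f
  rw [← ι_comp hD hD' h x, ← hf, show f = 0 from zero_of_comp_mono S.f hx, Abelian.Ext.mk₀_zero, map_zero]

theorem δ_naturality {S' : ShortComplex (ModuleCat.{u} A)} (hS' : S'.ShortExact) (φ : S ⟶ S') (i : ℕ)
    (z : (HF T i).obj S.X₃) :
    ((HF T (i + 1)).map φ.τ₁).hom (δ T hS i z) = δ T hS' i (((HF T i).map φ.τ₃).hom z) := by
  obtain ⟨D, hD, x, rfl⟩ := exists_ι z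
  rw [δ_ι, map_ι, map_ι, δ_ι, Abelian.Ext.comp_assoc_of_third_deg_zero,
    Abelian.Ext.comp_assoc_of_second_deg_zero, ShortComplex.ShortExact.extClass_naturality hS hS' φ]

theorem incl_δ {T' : Set (PrimeSpectrum A)} (h : T' ⊆ T) (i : ℕ) (z : (HF T' i).obj S.X₃) :
    incl h (i + 1) S.X₁ (δ T' hS i z) = δ T hS i (incl h i S.X₃ z) := by
  obtain ⟨D, hD, x, rfl⟩ := exists_ι z
  rw [δ_ι, incl_ι, incl_ι, δ_ι]

end Groth.Agent.HTLib
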