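import Groth.Agent.HTLib.AdicLim
import Groth.Agent.HTLib.Rows
import Groth.Agent.HTLib.Seq
import Groth.Agent.GorLib.DepthVanish
import Groth.Agent.LocCohLib.MaxIdeal
import Groth.Agent.S8795

/-!
# The kernels on the powers over a complete local ring
-/

set_option autoImplicit false
set_option linter.style.haveILetI false
set_option backward.isDefEq.respectTransparency false
set_option maxRecDepth 4000

universe u

open CategoryTheory Limits IsLocalRing
attribute [local instance] HasDerivedCategory.standard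

noncomputable section

namespace Groth.Agent.HTLib

open CechComplLib (quotF quotπ)

variable {A : Type u} [CommRing A] (I : Ideal A) (M : Type u) [AddCommGroup M] [Module A M]

/-- The powers of `I` acting on `M`. -/
abbrev pw (n : ℕ) : Submodule A M := I ^ n • ⊤

theorem pw_le {n m : ℕ} (h : n ≤ m) : pw I M m ≤ pw I M n :=
  Submodule.smul_mono_left (Ideal.pow_le_pow_right h)

/-- The inclusion of powers. -/
abbrev pwMap {n m : ℕ} (h : n ≤ m) : ↥(pw I M m) →ₗ[A] ↥(pw I M n) := Submodule.inclusion (pw_le I M h)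

/-- `I^n M → M → M/I^n M`. -/
abbrev pwSC (n : ℕ) : ShortComplex (ModuleCat.{u} A) :=
  ShortComplex.mk (ModuleCat.ofHom (pw I M n).subtype) ((quotπ (I ^ n)).app (ModuleCat.of A M))
    (ModuleCat.hom_ext (LinearMap.ext fun x => (Submodule.Quotient.mk_eq_zero _).2 x.2))

theorem pwSC_shortExact (n : ℕ) : (pwSC I M n).ShortExact where
  exact := (ShortComplex.moduleCat_exact_iff _).2 fun x hx => ⟨⟨x, (Submodule.Quotient.mk_eq_zero _).1 hx⟩, rfl⟩
  mono_f := (ModuleCat.mono_iff_injective _).2 Subtype.val_injective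
  epi_g := (ModuleCat.epi_iff_surjective _).2 (Submodule.mkQ_surjective _)

/-- The map of short exact sequences between two powers. -/
abbrev pwHom {n m : ℕ} (h : n ≤ m) : pwSC I M m ⟶ pwSC I M n where
  τ₁ := ModuleCat.ofHom (pwMap I M h)
  τ₂ := 𝟙 _
  τ₃ := (quotTr I h).app (ModuleCat.of A M)
  comm₁₂ := rfl
  comm₂₃ := rfl

variable [IsNoetherianRing A] [IsLocalRing A]

/-- The closed point as a support. -/
abbrev vc (A : Type u) [CommRing A] [IsLocalRing A] : Set (PrimeSpectrum A) := vq (closedPoint A)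

theorem isArtinian_HF_vc (i : ℕ) [Module.Finite A M] :
    IsArtinian A ((HF (vc A) i).obj (ModuleCat.of A M) : Type u) := by
  haveI : IsArtinian A ((localCohomology (closedPoint A).asIdeal i).obj (ModuleCat.of A M) : Type u) :=
    LocCohLib.isArtinian_H (R := A) i M
  obtain ⟨Φ, -⟩ := exists_equiv_natural (closedPoint A) i
  exact (Φ (ModuleCat.of A M)).isArtinian_iff.1 inferInstance

theorem bijective_incl_closed (J : Ideal A) (hJ : J ≤ maximalIdeal A) (i : ℕ)
    (hloc : ∀ q : PrimeSpectrum A, J ≤ q.asIdeal → q ≠ closedPoint A → ∀ j ≤ i,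
      LocKills q j (ModuleCat.ofHom (LinearMap.id : M →ₗ[A] M))) :
    Function.Bijective (incl (T' := vc A) (T := PrimeSpectrum.zeroLocus (J : Set A))
      (PrimeSpectrum.zeroLocus_anti_mono_ideal hJ) i (ModuleCat.of A M)) := by
  obtain ⟨e, f, hf, hf'⟩ := exists_level_of_dim (PrimeSpectrum.zeroLocus (J : Set A)) ringKrullDim_lt_top
  exact bijective_incl (PrimeSpectrum.isClosed_zeroLocus _).stableUnderSpecialization
    (PrimeSpectrum.isClosed_zeroLocus _).stableUnderSpecialization
    (PrimeSpectrum.zeroLocus_anti_mono_ideal hJ) f hf hf' M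
    (fun q hq j hj => hloc q hq.1 (fun h => hq.2 (h ▸ (le_refl _ : (closedPoint A).asIdeal ≤ _))) j hj) i le_rfl

variable [IsAdicComplete I A] (hdc : ∃ ω : Dual.D A, Dual.IsDualizing A ω) (d : ℕ) (hcd : LocCoh.CdLE A I d)
  [Module.Finite A M] (s : ℕ)
  (h4 : ∀ p : PrimeSpectrum A, ¬ I ≤ p.asIdeal → (∃ r : PrimeSpectrum A, p ≤ r ∧ I ≤ r.asIdeal ∧ r.asIdeal ≠ maximalIdeal A) →
    (s : ℕ∞) ≤ LocCoh.depth (Localization.AtPrime p.asIdeal) (LocalizedModule p.asIdeal.primeCompl M) ∨
      (((d + s : ℕ) : ℕ∞) : WithBot ℕ∞) < ((LocCoh.depth (Localization.AtPrime p.asIdeal)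
        (LocalizedModule p.asIdeal.primeCompl M) : ℕ∞) : WithBot ℕ∞) + ringKrullDim (A ⧸ p.asIdeal))
  (h6 : ∀ p : PrimeSpectrum A, ¬ I ≤ p.asIdeal →
    (∀ r : PrimeSpectrum A, p ≤ r → I ≤ r.asIdeal → r.asIdeal = maximalIdeal A) →
    (s : ℕ∞) < LocCoh.depth (Localization.AtPrime p.asIdeal) (LocalizedModule p.asIdeal.primeCompl M))

include hdc hcd h4 h6 in
/-- Cohomology at the closed point is the limit over the reductions. -/
theorem bijective_limit_closed (i : ℕ) (hi : i ≤ s) :
    (∀ x : (HF (vc A) i).obj (ModuleCat.of A M),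
      (∀ n, ((HF (vc A) i).map ((quotπ (I ^ n)).app (ModuleCat.of A M))).hom x = 0) → x = 0) ∧
    ∀ y : ∀ n : ℕ, (HF (vc A) i).obj ((quotF (I ^ n)).obj (ModuleCat.of A M)),
      (∀ n, ((HF (vc A) i).map ((quotTr I (Nat.le_succ n)).app (ModuleCat.of A M))).hom (y (n + 1)) = y n) →
        ∃ x, ∀ n, ((HF (vc A) i).map ((quotπ (I ^ n)).app (ModuleCat.of A M))).hom x = y n := by
  haveI : DRing.HasDerivedCompletion I := DComplLib.hasDerivedCompletion I.fg_of_isNoetherianRing
  obtain ⟨J, hJ, hbij⟩ := S8795.result A I hdc d hcd M s h4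
  haveI := TorsCoreflLib.hasRgammaI J
  have hcl := hJ.ge (Set.mem_singleton (closedPoint A))
  have hJm : J ≤ maximalIdeal A := hcl.1
  have hJle : vc A ⊆ PrimeSpectrum.zeroLocus (J : Set A) := PrimeSpectrum.zeroLocus_anti_mono_ideal hJm
  have huniq : ∀ q : PrimeSpectrum A, J ≤ q.asIdeal → I ≤ q.asIdeal → q = closedPoint A := fun q h1 h2 =>
    hJ.le ⟨h1, h2⟩
  have hN : ∀ (n j : ℕ), Function.Bijective (incl hJle j
      ((quotF (I ^ n)).obj (ModuleCat.of A M))) := by
    intro n j
    refine bijective_incl_closed (M ⧸ (I ^ n • ⊤ : Submodule A M)) J hJm j fun q hJq hq j' _ => ?_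
    haveI : Subsingleton (LocalizedModule q.asIdeal.primeCompl (M ⧸ (I ^ n • ⊤ : Submodule A M))) := by
      obtain ⟨a, ha, haq⟩ := SetLike.not_le_iff_exists.1 fun h => hq (huniq q hJq h)
      refine LocalizedModule.subsingleton_iff.2 fun x =>
        ⟨a ^ n, fun h => haq (q.2.mem_of_pow_mem n h), ?_⟩
      obtain ⟨x, rfl⟩ := Submodule.Quotient.mk_surjective _ x
      exact (Submodule.Quotient.mk_eq_zero _).2 (Submodule.smul_mem_smul (Ideal.pow_mem_pow ha n) trivial)
    exact locKills_of_localized q _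
      (((localCohomology _ j').map_isZero (ModuleCat.isZero_of_subsingleton _)).eq_of_src _ _)
  have hM : Function.Bijective (incl hJle i (ModuleCat.of A M)) := by
    refine bijective_incl_closed M J hJm i fun q hJq hq j hj => ?_
    have hIq : ¬ I ≤ q.asIdeal := fun h => hq (huniq q hJq h)
    haveI : IsNoetherianRing (Localization.AtPrime q.asIdeal) :=
      IsLocalization.isNoetherianRing q.asIdeal.primeCompl _ inferInstance
    have hd := h6 q hIq fun r hqr hIr => congrArg PrimeSpectrum.asIdeal (huniq r (hJq.trans hqr) hIr)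
    haveI := (GorLib.natCast_le_depth_iff_subsingleton_H _ (s + 1)).1
      (by exact_mod_cast Order.add_one_le_of_lt hd) j (by omega)
    exact locKills_of_localized q _ (ModuleCat.hom_ext (LinearMap.ext fun x => Subsingleton.elim _ _))
  obtain ⟨hinj, hsurj⟩ := bijective_limit I (ModuleCat.of A M) J i
    (hbij J le_rfl hJ (i : ℤ) (by exact_mod_cast hi)) fun j _ n => by
      exact (LinearEquiv.ofBijective _ (hN n j)).isArtinian_iff.1
        (isArtinian_HF_vc (A := A) (M ⧸ (I ^ n • ⊤ : Submodule A M)) j)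
  refine ⟨fun x hx => hM.1 ((hinj _ fun n => ?_).trans (map_zero _).symm), fun y hy => ?_⟩
  · exact (map_incl hJle ((quotπ (I ^ n)).app (ModuleCat.of A M)) x).trans ((congrArg _ (hx n)).trans (map_zero _))
  · obtain ⟨x', hx'⟩ := hsurj (fun n => incl _ i _ (y n)) fun n => by rw [map_incl, hy]
    obtain ⟨x, rfl⟩ := hM.2 x'
    exact ⟨x, fun n => (hN n i).1 ((map_incl hJle ((quotπ (I ^ n)).app (ModuleCat.of A M)) x).symm.trans (hx' n))⟩

include hdc hcd h4 h6 in
/-- The images of the cohomology of a high power in the cohomology of `M` are zero up to degree `s`. -/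
theorem exists_map_subtype_eq_zero (i : ℕ) (hi : i ≤ s) : ∃ n₀, ∀ k, n₀ ≤ k →
    ∀ x : (HF (vc A) i).obj (ModuleCat.of A (pw I M k)),
      ((HF (vc A) i).map (ModuleCat.ofHom (pw I M k).subtype)).hom x = 0 := by
  haveI := isArtinian_HF_vc (A := A) M i
  obtain ⟨n₀, hn₀⟩ := exists_injective_stage (R := A) (L := ((HF (vc A) i).obj (ModuleCat.of A M) : Type u))
    (fun n => ((HF (vc A) i).map ((quotπ (I ^ n)).app (ModuleCat.of A M))).hom)
    (fun h => ((HF (vc A) i).map ((quotTr I h).app (ModuleCat.of A M))).hom)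
    (fun {a b} h x => by
      have e : (quotπ (I ^ b)).app (ModuleCat.of A M) ≫ (quotTr I h).app (ModuleCat.of A M) =
          (quotπ (I ^ a)).app (ModuleCat.of A M) := ModuleCat.hom_ext (LinearMap.ext fun x => rfl)
      rw [← e, Functor.map_comp]
      rfl)
    (bijective_limit_closed I M hdc d hcd s h4 h6 i hi).1
  exact ⟨n₀, fun k hk x => hn₀ k hk _ (map_g_map_f (S := pwSC I M k) i x)⟩

include hdc hcd h4 h6 in
/-- What dies in the cohomology of `M` dies in that of a lower power. -/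
theorem exists_ker_le (i : ℕ) (hi : i ≤ s + 1) (m : ℕ) : ∃ K, ∀ (k : ℕ) (h : m ≤ k), K ≤ k →
    ∀ x : (HF (vc A) i).obj (ModuleCat.of A (pw I M k)),
      ((HF (vc A) i).map (ModuleCat.ofHom (pw I M k).subtype)).hom x = 0 →
        ((HF (vc A) i).map (ModuleCat.ofHom (pwMap I M h))).hom x = 0 := by
  rcases i with _ | j
  · exact ⟨0, fun k h _ x hx => by
      rw [injective_map_f_zero (pwSC_shortExact I M k) (hx.trans (map_zero _).symm), map_zero]⟩
  have hj : j ≤ s := by omega
  haveI : ∀ n, IsArtinian A ((HF (vc A) j).obj ((quotF (I ^ n)).obj (ModuleCat.of A M)) : Type u) :=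
    fun n => isArtinian_HF_vc (A := A) (M ⧸ (I ^ n • ⊤ : Submodule A M)) j
  have htt : ∀ {a b c : ℕ} (h : a ≤ b) (h' : b ≤ c),
      (quotTr I h').app (ModuleCat.of A M) ≫ (quotTr I h).app (ModuleCat.of A M) = (quotTr I (h.trans h')).app _ :=
    fun h h' => ModuleCat.hom_ext (LinearMap.ext fun x => quotTr_quotTr I h h' _ x)
  obtain ⟨N, hN⟩ := exists_stage (R := A)
    (fun n => ((HF (vc A) j).map ((quotπ (I ^ n)).app (ModuleCat.of A M))).hom)
    (fun h => ((HF (vc A) j).map ((quotTr I h).app (ModuleCat.of A M))).hom)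
    (fun h h' x => by rw [← htt h h', Functor.map_comp]; rfl)
    (bijective_limit_closed I M hdc d hcd s h4 h6 j hj).2 m
  refine ⟨N, fun k h hk x hx => ?_⟩
  obtain ⟨g, rfl⟩ := exists_of_map_f_eq_zero (pwSC_shortExact I M k) j x hx
  refine (δ_naturality (pwSC_shortExact I M k) (pwSC_shortExact I M m) (pwHom I M h) j g).trans ?_
  obtain ⟨w, hw⟩ := hN k h hk g
  refine (congrArg (δ (vc A) (pwSC_shortExact I M m) j) hw.symm).trans ?_
  exact δ_map_g (pwSC_shortExact I M m) j w

include hdc hcd h4 h6 in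
/-- The system of cohomology of the powers is pro-zero up to degree `s`. -/
theorem exists_kills (i : ℕ) (hi : i ≤ s) (m : ℕ) : ∃ K, ∀ (k : ℕ) (h : m ≤ k), K ≤ k →
    ∀ x : (HF (vc A) i).obj (ModuleCat.of A (pw I M k)),
      ((HF (vc A) i).map (ModuleCat.ofHom (pwMap I M h))).hom x = 0 := by
  obtain ⟨n₀, hn₀⟩ := exists_map_subtype_eq_zero I M hdc d hcd s h4 h6 i hi
  obtain ⟨K, hK⟩ := exists_ker_le I M hdc d hcd s h4 h6 i (hi.trans s.le_succ) m
  exact ⟨max K n₀, fun k h hk x => hK k h ((le_max_left _ _).trans hk) x (hn₀ k ((le_max_right _ _).trans hk) x)⟩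

end Groth.Agent.HTLib
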