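import Groth.Agent.HTLib.Cls
import Groth.Agent.DualCxLib.GammaHDI
import Groth.Agent.LocCohLib.Cls
import Groth.Agent.DComplLib.Crit
import Groth.Agent.FaltingsAnnLib.Supp

/-!
# Cohomology with supports as the cohomology of `RΓ`
-/

set_option autoImplicit false
set_option linter.style.haveILetI false
set_option backward.isDefEq.respectTransparency false
set_option maxRecDepth 4000

universe u

open CategoryTheory Limits
attribute [local instance] HasDerivedCategory.standard

noncomputable section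

namespace Groth.Agent.HTLib

open DualCxLib (InjRep sMap)
open FaltingsAnnLib (gamma ZT mem_torsionSub_iff_gamma)

theorem exists_equiv_of_surjective {R Z H H' : Type*} [CommRing R] [AddCommGroup Z] [Module R Z] [AddCommGroup H]
    [Module R H] [AddCommGroup H'] [Module R H'] (p : Z →ₗ[R] H) (p' : Z →ₗ[R] H') (hp : Function.Surjective p)
    (hp' : Function.Surjective p') (h : ∀ z, p z = 0 ↔ p' z = 0) : ∃ e : H ≃ₗ[R] H', ∀ z, e (p z) = p' z := by
  refine ⟨(p.quotKerEquivOfSurjective hp).symm.trans ((Submodule.quotEquivOfEq _ _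
    (Submodule.ext h)).trans (p'.quotKerEquivOfSurjective hp')), fun z => ?_⟩
  rw [LinearEquiv.trans_apply, show (p.quotKerEquivOfSurjective hp).symm (p z) = Submodule.Quotient.mk z from
    (LinearEquiv.symm_apply_eq _).2 rfl]
  rfl

variable {A : Type u} [CommRing A] [IsNoetherianRing A] (J : Ideal A)

/-- The torsion part of a complex. -/
abbrev gcx : DRing.Cx A ⥤ DRing.Cx A := (DRing.gammaI J).mapHomologicalComplex (ComplexShape.up ℤ)

section obj

variable {M : Type u} [AddCommGroup M] [Module A M] (S : InjRep (Dual.inD A M)) (i : ℕ)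

theorem val_mem_ZT (z : LocCohLib.Zmod ((gcx J).obj S.E) (i : ℤ)) :
    (z.1.1 : S.E.X (i : ℤ)) ∈ ZT S.E (PrimeSpectrum.zeroLocus (J : Set A)) (i : ℤ) := by
  refine ⟨(mem_torsionSub_iff_gamma J _).1 z.1.2, ?_⟩
  have h : (((gcx J).obj S.E).d (i : ℤ) ((i : ℤ) + 1)).hom z.1 = 0 := by
    have h0 := z.2
    rw [LinearMap.mem_ker] at h0
    rw [← CochainComplex.next ℤ (i : ℤ)]
    exact h0
  exact congrArg Subtype.val h

/-- The class in cohomology with supports of a cycle. -/
def clsZ : LocCohLib.Zmod ((gcx J).obj S.E) (i : ℤ) →ₗ[A]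
    ((HF (PrimeSpectrum.zeroLocus (J : Set A)) i).obj (ModuleCat.of A M) : Type u) where
  toFun z := cls S _ ⟨z.1.1, val_mem_ZT J S i z⟩
  map_add' z w := by rw [← cls_add]; rfl
  map_smul' a z := by rw [RingHom.id_apply, ← cls_smul]; rfl

theorem exists_clsEquiv : ∃ e : ((gcx J).obj S.E).homology (i : ℤ) ≃ₗ[A]
    ((HF (PrimeSpectrum.zeroLocus (J : Set A)) i).obj (ModuleCat.of A M) : Type u),
    ∀ z, e (LocCohLib.cls _ _ z) = clsZ J S i z := by
  refine exists_equiv_of_surjective _ _ (LocCohLib.cls_surjective _ _) (fun x => ?_) fun z => ?_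
  · obtain ⟨y, rfl⟩ := cls_surjective S x
    have h : (⟨y.1, (mem_torsionSub_iff_gamma J _).2 y.2.1⟩ : DRing.torsionSub J (S.E.X (i : ℤ))) ∈
        LocCohLib.Zmod ((gcx J).obj S.E) (i : ℤ) := by
      rw [LinearMap.mem_ker, CochainComplex.next]
      exact Subtype.ext y.2.2
    exact ⟨⟨_, h⟩, rfl⟩
  · refine (LocCohLib.cls_eq_zero_iff' _ (CochainComplex.prev ℤ (i : ℤ)) z).trans
      (Iff.trans ⟨?_, ?_⟩ (cls_eq_zero_iff S _).symm)
    · rintro ⟨w, hw⟩
      exact ⟨w.1, (mem_torsionSub_iff_gamma J _).1 w.2, congrArg Subtype.val hw⟩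
    · rintro ⟨w, hw, hdw⟩
      exact ⟨⟨w, (mem_torsionSub_iff_gamma J _).2 hw⟩, Subtype.ext hdw⟩

end obj

variable [DRing.HasRgammaI J]

/-- The comparison of the torsion part with `RΓ`. -/
abbrev unitApp (E : DRing.Cx A) : DRing.toD ((gcx J).obj E) ⟶ (DRing.RgammaI J).obj (DRing.toD E) :=
  ((DRing.gammaIKh J).totalRightDerivedUnit DerivedCategory.Qh
    (HomotopyCategory.quasiIso (ModuleCat.{u} A) (ComplexShape.up ℤ))).app
      ((HomotopyCategory.quotient _ _).obj E)

theorem unitApp_naturality {E E' : DRing.Cx A} (g : E ⟶ E') :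
    DerivedCategory.Q.map ((gcx J).map g) ≫ unitApp J E' =
      unitApp J E ≫ (DRing.RgammaI J).map (DerivedCategory.Q.map g) :=
  ((DRing.gammaIKh J).totalRightDerivedUnit DerivedCategory.Qh
    (HomotopyCategory.quasiIso (ModuleCat.{u} A) (ComplexShape.up ℤ))).naturality
      ((HomotopyCategory.quotient _ _).map g)

theorem isIso_unitApp (E : DRing.Cx A) [E.IsKInjective] : IsIso (unitApp J E) :=
  Groth.Agent.KInj.isIso_app_of_isKInjective
    (fun K => let ⟨J, f, h1, h2, _⟩ := Groth.Agent.KInj.exists_isKInjective_resolution K; ⟨J, f, h1, h2⟩)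
    (DRing.gammaIKh J) (DRing.RgammaI J)
    ((DRing.gammaIKh J).totalRightDerivedUnit DerivedCategory.Qh
      (HomotopyCategory.quasiIso (ModuleCat.{u} A) (ComplexShape.up ℤ))) E

/-- Cohomology with supports is the cohomology of `RΓ`, naturally in the module. -/
theorem exists_HT_RgammaI (i : ℕ) :
    ∃ Ψ : ∀ M : ModuleCat.{u} A,
        Dual.HD A ((DRing.RgammaI J).obj ((DerivedCategory.singleFunctor (ModuleCat.{u} A) 0).obj M)) (i : ℤ) ≃ₗ[A]
          ((HF (PrimeSpectrum.zeroLocus (J : Set A)) i).obj M : Type u),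
      ∀ (M N : ModuleCat.{u} A) (φ : M ⟶ N) x,
        Ψ N (((DerivedCategory.homologyFunctor (ModuleCat.{u} A) (i : ℤ)).map
          ((DRing.RgammaI J).map ((DerivedCategory.singleFunctor (ModuleCat.{u} A) 0).map φ))).hom x) =
          ((HF (PrimeSpectrum.zeroLocus (J : Set A)) i).map φ).hom (Ψ M x) := by
  let S : ∀ M : ModuleCat.{u} A, InjRep (Dual.inD A M) := fun M => (exists_rep (A := A) M).some
  choose e he using fun M : ModuleCat.{u} A => exists_clsEquiv J (S M) i
  have hiso : ∀ M, IsIso (unitApp J (S M).E) := fun M => by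
    haveI := (S M).isKInjective
    exact isIso_unitApp J _
  let c : ∀ M : ModuleCat.{u} A, DRing.toD ((gcx J).obj (S M).E) ≅
      (DRing.RgammaI J).obj ((DerivedCategory.singleFunctor (ModuleCat.{u} A) 0).obj M) := fun M =>
    @asIso _ _ _ _ _ (hiso M) ≪≫ (DRing.RgammaI J).mapIso (S M).iso
  let D : ∀ M : ModuleCat.{u} A,
      Dual.HD A ((DRing.RgammaI J).obj ((DerivedCategory.singleFunctor (ModuleCat.{u} A) 0).obj M)) (i : ℤ) ≃ₗ[A]
        ((gcx J).obj (S M).E).homology (i : ℤ) := fun M =>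
    (((DerivedCategory.homologyFunctor (ModuleCat.{u} A) (i : ℤ)).mapIso (c M)).symm ≪≫
      DComplLib.hQIso ((gcx J).obj (S M).E) (i : ℤ)).toLinearEquiv
  refine ⟨fun M => (D M).trans (e M), fun M N φ x => ?_⟩
  obtain ⟨g, hg⟩ := exists_lift (S M) (S N) φ.hom
  have hsq : DerivedCategory.Q.map ((gcx J).map g) ≫ (c N).hom =
      (c M).hom ≫ (DRing.RgammaI J).map ((DerivedCategory.singleFunctor (ModuleCat.{u} A) 0).map φ) := by
    show DerivedCategory.Q.map ((gcx J).map g) ≫ unitApp J _ ≫ (DRing.RgammaI J).map (S N).iso.hom =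
      (unitApp J _ ≫ (DRing.RgammaI J).map (S M).iso.hom) ≫ _
    rw [← Category.assoc, unitApp_naturality, Category.assoc, Category.assoc, ← Functor.map_comp,
      ← Functor.map_comp]
    exact congrArg (fun t => unitApp J _ ≫ (DRing.RgammaI J).map t) hg
  obtain ⟨z, hz⟩ := LocCohLib.cls_surjective ((gcx J).obj (S M).E) (i : ℤ) (D M x)
  have hD : D N (((DerivedCategory.homologyFunctor (ModuleCat.{u} A) (i : ℤ)).map
      ((DRing.RgammaI J).map ((DerivedCategory.singleFunctor (ModuleCat.{u} A) 0).map φ))).hom x) =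
      (HomologicalComplex.homologyMap ((gcx J).map g) (i : ℤ)).hom (D M x) := by
    have h1 : (DerivedCategory.homologyFunctor (ModuleCat.{u} A) (i : ℤ)).map
        ((DRing.RgammaI J).map ((DerivedCategory.singleFunctor (ModuleCat.{u} A) 0).map φ)) ≫
        (DerivedCategory.homologyFunctor (ModuleCat.{u} A) (i : ℤ)).map (c N).inv =
        (DerivedCategory.homologyFunctor (ModuleCat.{u} A) (i : ℤ)).map (c M).inv ≫
        (DerivedCategory.homologyFunctor (ModuleCat.{u} A) (i : ℤ)).map (DerivedCategory.Q.map ((gcx J).map g)) := by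
      rw [← Functor.map_comp, ← Functor.map_comp, (Iso.eq_inv_comp _).2 hsq.symm, Category.assoc, Category.assoc,
        Iso.hom_inv_id, Category.comp_id]
    refine (congrArg (DComplLib.hQIso ((gcx J).obj (S N).E) (i : ℤ)).hom.hom (congr($(h1).hom x))).trans ?_
    exact congr($(DComplLib.hQIso_natural ((gcx J).map g) (i : ℤ)).hom
      (((DerivedCategory.homologyFunctor (ModuleCat.{u} A) (i : ℤ)).map (c M).inv).hom x))
  show e N (D N _) = ((HF _ i).map φ).hom (e M (D M x))
  rw [hD, ← hz, LocCohLib.homologyMap_cls, he, he]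
  refine Eq.trans ?_ (map_cls hg (⟨z.1.1, val_mem_ZT J (S M) i z⟩ : ZT (S M).E _ (i : ℤ))).symm
  rfl

end Groth.Agent.HTLib
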